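/-
The group `B₂(F)`: identification with `PSp₄(F)`, the automorphism group, parabolics, centralizers.
-/
import Cfsg.Agent.H27.W0

set_option autoImplicit false
set_option linter.unusedSectionVars false
set_option maxRecDepth 100000

namespace H27.S4
open Cfsg Subgroup H14 Cfsg.Lie
open H19 hiding PG
open H1.YG (Big h2 aa ng add0 sqadd ex_n four_le ex_sqrt sq_inj)

variable {F : Type} [Field F] [Big F] {r s : I} {t u v w t' u' v' w' : F} {g k : Γ F} {m l m' l' : Fˣ} {σ τ : F ≃+* F}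
  {α β : MulAut (Γ F)}

theorem spX (r : Fin chevB2.nroots) (t : F) : spB2.X r t = [!![1, 0, 0, 0; 0, 1, 0, 0; 0, 0, 1, 0; t, 0, 0, 1],
    !![1, 0, 0, 0; 0, 1, 0, 0; -t, 0, 1, 0; 0, t, 0, 1], !![1, 0, 0, 0; t, 1, 0, 0; 0, 0, 1, 0; 0, 0, t, 1],
    !![1, 0, 0, 0; 0, 1, 0, 0; 0, t, 1, 0; 0, 0, 0, 1], !![1, 0, 0, 0; 0, 1, t, 0; 0, 0, 1, 0; 0, 0, 0, 1],
    !![1, t, 0, 0; 0, 1, 0, 0; 0, 0, 1, t; 0, 0, 0, 1], !![1, 0, -t, 0; 0, 1, 0, t; 0, 0, 1, 0; 0, 0, 0, 1],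
    !![1, 0, 0, t; 0, 1, 0, 0; 0, 0, 1, 0; 0, 0, 0, 1]].getD r 0 := by
  have hE : ∀ r, spB2.E1 r = [!![0, 0, 0, 0; 0, 0, 0, 0; 0, 0, 0, 0; 1, 0, 0, 0],
      !![0, 0, 0, 0; 0, 0, 0, 0; -1, 0, 0, 0; 0, 1, 0, 0], !![0, 0, 0, 0; 1, 0, 0, 0; 0, 0, 0, 0; 0, 0, 1, 0],
      !![0, 0, 0, 0; 0, 0, 0, 0; 0, 1, 0, 0; 0, 0, 0, 0], !![0, 0, 0, 0; 0, 0, 1, 0; 0, 0, 0, 0; 0, 0, 0, 0],
      !![0, 1, 0, 0; 0, 0, 0, 0; 0, 0, 0, 1; 0, 0, 0, 0], !![0, 0, -1, 0; 0, 0, 0, 1; 0, 0, 0, 0; 0, 0, 0, 0],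
      !![0, 0, 0, 1; 0, 0, 0, 0; 0, 0, 0, 0; 0, 0, 0, 0]].getD r 0 := by decide +kernel
  have hX : ∀ r (t : F), spB2.X r t = 1 + t • (spB2.E1 r).map Int.cast := fun r t => by
    simp [Rep.X, xexp, show spB2.E2 r = 0 from rfl, show spB2.E3 r = 0 from rfl, H14.cm]
  rw [hX, hE]
  ext i j
  fin_cases r <;> fin_cases i <;> fin_cases j <;> simp

/-- the order of the basis -/
def e4 : Fin 2 ⊕ Fin 2 ≃ Fin 4 := ⟨Sum.elim ![0, 1] ![3, 2], ![.inl 0, .inl 1, .inr 1, .inr 0], by decide, by decide⟩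

variable (F) in
theorem psp : Nonempty (Γ F ≃* PSp 2 F) := by
  have := Fintype.ofFinite F
  let j : Matrix.symplecticGroup (Fin 2) F →* GL (Fin 4) F :=
    (Units.map (Matrix.reindexRingEquiv F e4).toMonoidHom).comp H11.spToGL
  have i : Function.Injective j := (Units.map_injective (Matrix.reindexRingEquiv F e4).injective).comp H11.spToGL_injective
  have h : ∀ r, ∃ a b, spB2.E1 r a b ^ 2 = 1 := by change ∀ r, ∃ a b, sd4 _ _ ^ 2 = 1; decide +kernel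
  refine goodB2.equiv_of_rep spB2 h i (eq_of_le_of_card_ge (PreSt.U_le.2 fun r _ t => ?_) ?_).symm
  · refine ⟨⟨Matrix.reindex e4.symm e4.symm (spB2.X r t), SymplecticGroup.mem_iff.2 ?_⟩, Units.ext (by simp [j])⟩
    rw [spX]
    ext a b
    fin_cases r <;> rcases a with a | a <;> rcases b with b | b <;> fin_cases a <;> fin_cases b <;>
      simp [Matrix.mul_apply, Matrix.J, e4, Fintype.sum_sum_type, Matrix.one_apply, ng, aa]
  · obtain ⟨e⟩ := goodB2.equiv_of_rep spB2 h (K := F) (subtype_injective _) (range_subtype _)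
    rw [← Nat.card_congr (MonoidHom.ofInjective i).toEquiv, H11.card_sp, ← Nat.card_eq_fintype_card]
    refine le_trans (le_of_eq ?_) ((Nat.card_congr e.toEquiv).le.trans
      (Nat.card_le_card_of_surjective _ QuotientGroup.mk_surjective))
    exact Eq.trans (by simp [Finset.prod_range_succ]) (card F).symm

theorem cc' {G : Type*} [Group G] (a b x : G) : a * (b * x * b⁻¹) * a⁻¹ = a * b * x * (a * b)⁻¹ := by group
theorem γ_U (hg : g ∈ U F) : γ F g ∈ U F := by obtain ⟨_, _, _, _, rfl⟩ := mem_U.1 hg; rw [γ_el]; exact el_U _ _ _ _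
theorem φ_U (hg : g ∈ U F) : φ σ g ∈ U F := by obtain ⟨_, _, _, _, rfl⟩ := mem_U.1 hg; rw [φ_el]; exact el_U _ _ _ _
theorem φ_inv (σ : F ≃+* F) : (φ σ)⁻¹ = φ σ⁻¹ := inv_eq_of_mul_eq_one_right (by rw [← φ_mul, mul_inv_cancel, φ_one])

variable (F) in
/-- the graph-field automorphisms -/
def Φ : Subgroup (MulAut (Γ F)) where
  carrier := {α | ∃ σ, α = φ σ ∨ α = γ F * φ σ}
  one_mem' := ⟨1, .inl φ_one.symm⟩
  mul_mem' := by
    rintro _ _ ⟨σ, rfl | rfl⟩ ⟨τ, rfl | rfl⟩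
    · exact ⟨_, .inl (φ_mul ..).symm⟩
    · exact ⟨σ * τ, .inr (by rw [← mul_assoc, γφ, mul_assoc, φ_mul])⟩
    · exact ⟨σ * τ, .inr (by rw [mul_assoc, φ_mul])⟩
    · exact ⟨fr F * σ * τ, .inl (by rw [mul_assoc, ← mul_assoc (φ σ), γφ, ← mul_assoc, ← mul_assoc, γγ, φ_mul, φ_mul])⟩
  inv_mem' := by
    rintro _ ⟨σ, rfl | rfl⟩
    · exact ⟨_, .inl (φ_inv σ)⟩
    · exact ⟨(σ * fr F)⁻¹, .inr (inv_eq_of_mul_eq_one_right (by
        rw [← mul_assoc, ← γφ, mul_assoc (φ σ), γγ, ← φ_mul, ← φ_mul, mul_inv_cancel, φ_one]))⟩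
theorem φΦ (σ : F ≃+* F) : φ σ ∈ Φ F := ⟨σ, .inl rfl⟩
theorem γΦ : γ F ∈ Φ F := ⟨1, .inr (by rw [φ_one, mul_one])⟩
theorem Φ_U (h : α ∈ Φ F) (hg : g ∈ U F) : α g ∈ U F := by
  obtain ⟨σ, rfl | rfl⟩ := h
  exacts [φ_U hg, γ_U (φ_U hg)]
theorem γ_inn (e : γ F * φ σ = MulAut.conj g) : False := by
  obtain ⟨u, hu, l, m, rfl⟩ := nU (g := g) (H28.CY.mem_norm_of fun x hx => by
    rw [← MulAut.conj_apply, ← e]; exact γ_U (φ_U hx))
  obtain ⟨a, b, c, d, rfl⟩ := mem_U.1 hu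
  have := DFunLike.congr_fun e (el 1 0 0 0)
  rw [MulAut.mul_apply, φ_el, γ_el, MulAut.conj_apply, ← cc', hh_el, el_cj] at this
  simpa using (el_inj this).2.1
theorem Φ_inn (h : α ∈ Φ F) (e : α = MulAut.conj g) : α = 1 := by
  obtain ⟨σ, rfl | rfl⟩ := h
  exacts [by rw [(φ_inn e).1, φ_one], (γ_inn e).elim]
variable (F) in
theorem out : IsCyclic (Out (Γ F)) ∧ Nat.card (Out (Γ F)) = 2 * Nat.card (F ≃+* F) := by
  have := Fintype.ofFinite F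
  obtain ⟨n, h, e⟩ := ex_n F
  obtain ⟨f⟩ := psp F
  obtain ⟨a, b⟩ := Cfsg.Agent.S2600.result (F := F) (f := n) (by omega) (Nat.card_eq_fintype_card.symm.trans e)
  let p : Out (Γ F) ≃* Out (PSp 2 F) := QuotientGroup.congr (Inn _) (Inn _) (MulAut.congr f) (by
    ext φ
    constructor
    · rintro ⟨_, ⟨g, rfl⟩, rfl⟩
      exact ⟨f g, by ext; simp⟩
    · rintro ⟨g, rfl⟩
      exact ⟨_, ⟨f.symm g, rfl⟩, by ext; simp⟩)
  exact ⟨isCyclic_of_surjective p.symm p.symm.surjective, by rw [Nat.card_congr p.toEquiv, b, H4.card_ringAut_two e]⟩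
theorem Φ_inj : Function.Injective ((QuotientGroup.mk' (Inn (Γ F))).comp (Φ F).subtype) :=
  (injective_iff_map_eq_one _).2 fun α h => by
    obtain ⟨g, e⟩ := (QuotientGroup.eq_one_iff _).1 h
    exact Subtype.ext (Φ_inn α.2 e.symm)
instance Φ_cyc : IsCyclic (Φ F) := have := (out F).1; isCyclic_of_injective _ Φ_inj
/-- every automorphism is inner times graph-field -/
theorem aut (α : MulAut (Γ F)) : ∃ g, ∃ β ∈ Φ F, α = MulAut.conj g * β := by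
  let f : (F ≃+* F) ⊕ (F ≃+* F) → Φ F := Sum.elim (fun σ => ⟨_, σ, .inl rfl⟩) fun σ => ⟨_, σ, .inr rfl⟩
  have p : ∀ σ τ : F ≃+* F, φ σ = φ τ → σ = τ := fun σ τ e => RingEquiv.ext fun t => X_inj (r := 7) (by rw [← φ_X, e, φ_X])
  have q : ∀ σ τ : F ≃+* F, φ σ ≠ γ F * φ τ := fun σ τ e => γ_inn (σ := τ * σ⁻¹) (g := 1) (by
    rw [φ_mul, ← mul_assoc, ← e, ← φ_mul, mul_inv_cancel, φ_one, map_one])
  have i : Function.Injective f := by
    rintro (σ | σ) (τ | τ) e <;> replace e := congrArg Subtype.val e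
    exacts [by rw [p _ _ e], (q _ _ e).elim, (q _ _ e.symm).elim, by rw [p _ _ (mul_left_cancel e)]]
  obtain ⟨β, k⟩ := (Φ_inj.bijective_of_nat_card_le ((out F).2.le.trans (by
    simpa [two_mul] using Nat.card_le_card_of_injective f i))).2 (QuotientGroup.mk α)
  obtain ⟨g, e⟩ := (QuotientGroup.eq_iff_div_mem (N := Inn (Γ F))).1 k.symm
  exact ⟨g, β, β.2, by rw [e]; exact (div_mul_cancel α _).symm⟩

end H27.S4
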