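/-
The character degree graph of `U₃(3)`.
-/
import Cfsg.Agent.H21.BR3
import Cfsg.Agent.H13.Sm2
import Cfsg.Agent.H13.SL2Deg2
import Cfsg.Agent.H6.Zeros
import Cfsg.Agent.H5.Schur
import Cfsg.Agent.H5.Af
import Cfsg.Agent.H11.Congr
import Cfsg.Agent.H11.SUSimple

set_option autoImplicit false
set_option linter.unusedSectionVars false

namespace H27.DG
open Cfsg H5 H7 H8 H21 Subgroup Finset Matrix

section
variable {G : Type*} [Group G] [Finite G]

theorem card_ndvd {p k : ℕ} (hp : p.Prime) {y : G} (hy : y ^ p ^ k = 1) (S : Finset (IrrCharacter G))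
    (h : ∀ χ ∈ S, ¬ p ∣ charDegree χ.1) : S.card ≤ Nat.card (centralizer {y}) := by
  classical
  haveI := Fact.mk hp
  haveI := Fintype.ofFinite G
  obtain ⟨M, hM⟩ := exists_isPModular hp
  haveI := charP_kk hM
  let T := univ.filter fun g : G => zpowers g = zpowers y
  have hT : ∀ g, g ∈ T ↔ zpowers g = zpowers y := by simp [T]
  have h1 : ∀ χ ∈ S, (T.card : ℝ) ≤ ∑ g ∈ T, ‖χ.1 g‖ ^ 2 := fun χ hχ => by
    refine (H6.irr_gen χ.2).card_le_sum_norm_sq _ (fun k hk g hg => ?_) fun g hg h0 => h χ hχ ?_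
    · rw [hT] at hg ⊢
      rw [← hg]
      exact le_antisymm (zpowers_le.2 (pow_mem (mem_zpowers g) k))
        (zpowers_le.2 ((H6.pow_mem_iff_of_coprime_card _ hk g).1 (mem_zpowers _)))
    · obtain ⟨j, rfl⟩ : g ∈ zpowers y := (hT g).1 hg ▸ mem_zpowers g
      have := red_char_of_isPElt hM χ.2.isCharacter (x := y ^ j) (isPElt_iff.2 ⟨k, by
        rw [← zpow_natCast, ← _root_.zpow_mul, mul_comm, _root_.zpow_mul, zpow_natCast, hy, _root_.one_zpow]⟩)
      rwa [h0, red_zero, irr_apply_one, red_natCast, eq_comm, CharP.cast_eq_zero_iff _ p] at this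
  have h2 : ∀ g ∈ T, ∑ χ ∈ S, ‖χ.1 g‖ ^ 2 ≤ Nat.card (centralizer {y}) := fun g hg => by
    rw [← cent_zpowers, ← (hT g).1 hg, cent_zpowers, ← sum_irr_norm_sq]
    exact sum_le_sum_of_subset_of_nonneg (subset_univ _) fun _ _ _ => sq_nonneg _
  have h3 := (sum_le_sum h1).trans ((sum_comm ..).le.trans (sum_le_sum h2))
  simp only [sum_const, nsmul_eq_mul] at h3
  have h4 : (0 : ℝ) < T.card := by exact_mod_cast card_pos.2 ⟨y, (hT y).2 rfl⟩
  rw [mul_comm] at h3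
  exact_mod_cast le_of_mul_le_mul_left h3 h4

theorem deg_list : ∀ d < 78, d ∣ 6048 → ¬ 6 ∣ d → d ∈ [1, 2, 3, 4, 7, 8, 9, 14, 16, 21, 27, 28, 32, 56, 63] := by
  decide +kernel

theorem degs (hG : commutator G = ⊤) (hc : Nat.card G = 6048) {x y u : G} (hx : SCent 7 x) (hy : y ^ 2 ^ 3 = 1)
    (hu : u ^ 3 ^ 1 = 1) (cy : Nat.card (centralizer {y}) ≤ 8) (cu : Nat.card (centralizer {u}) ≤ 9)
    (hk : 14 ≤ Nat.card (ConjClasses G)) : (∃ d ∈ charDegrees G, 6 ∣ d) ∧ (∃ d ∈ charDegrees G, 14 ∣ d) ∧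
      ∃ d ∈ charDegrees G, 21 ∣ d := by
  classical
  haveI := Fact.mk hx.prime
  obtain ⟨M, hM⟩ := exists_isPModular hx.prime
  obtain ⟨δ, ζ, a, Y, h⟩ := exists_PD hM hx.ord hx.not_dvd_index
  have h3 : aq x = 3 := by
    have h1 := relIndex_centralizer_dvd_of_card_prime hx.prime _ hx.card
    rw [cent_zpowers] at h1
    have h2 : 7 * aq x * Nat.card (Sylow 7 G) = 6048 := by
      rw [card_sylow_eq_index hx.ord hx.not_dvd_index, ← hx.card_normalizer', card_mul_index, hc]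
    have h5 : Nat.card (Sylow 7 G) % 7 = 1 := card_sylow_modEq_one 7 G
    have h6 : aq x ≤ 6 := Nat.le_of_dvd (by norm_num) h1
    change aq x ∣ 6 at h1
    interval_cases aq x <;> omega
  have cY : Y.card = 2 := by have := h.card; rw [h3] at this; omega
  have cX := h.cardX.trans h3
  have md : ∀ χ : IrrCharacter G, ∀ c : ℤ, sP x χ.1 = charDegree χ.1 + c → (7 : ℤ) ∣ charDegree χ.1 + c :=
    fun χ c e => by
      obtain ⟨r, hr⟩ := exists_sP_nat χ.2.isCharacter hx.ord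
      exact ⟨r, by exact_mod_cast e.symm.trans hr⟩
  let S := insert (irrOne G) (univ \ (Y ∪ univ.filter fun χ => a χ ≠ 0))
  have cS : 10 ≤ S.card := by
    rw [card_insert_of_notMem (by simp [h.one]), card_univ_diff, ← Nat.card_eq_fintype_card, card_irr]
    have := card_union_le Y (univ.filter fun χ => a χ ≠ 0)
    omega
  have hS : ∀ p, p.Prime → p ≠ 7 → (¬ ∃ d ∈ charDegrees G, p * 7 ∣ d) → ∀ χ ∈ S, ¬ p ∣ charDegree χ.1 :=
    fun p hp h7 hn χ hχ hd => by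
      rcases mem_insert.1 hχ with rfl | hχ
      · exact hp.one_lt.ne' (Nat.dvd_one.1 (charDegree_irrOne (G := G) ▸ hd))
      simp only [mem_sdiff, mem_univ, mem_union, mem_filter, true_and, not_or, not_not] at hχ
      have := md χ 0 (by rw [h.sP_van hx.cent hχ.1, hχ.2]; simp)
      exact hn ⟨_, ⟨χ, rfl⟩, ((Nat.coprime_primes hp hx.prime).2 h7).mul_dvd_of_dvd_of_dvd hd
        (by exact_mod_cast (add_zero (charDegree χ.1 : ℤ) ▸ this))⟩
  refine ⟨by_contra fun hn => ?_, by_contra fun hn => ?_, by_contra fun hn => ?_⟩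
  · have k : ∀ χ : IrrCharacter G, charDegree χ.1 ∈ [1, 2, 3, 4, 7, 8, 9, 14, 16, 21, 27, 28, 32, 56, 63] := fun χ => by
      have i1 := H13.Sm.sum_sq_le {χ}
      have i2 := H6.irr_deg_dvd χ.2
      have i3 : ¬ 6 ∣ charDegree χ.1 := fun e => hn ⟨_, ⟨χ, rfl⟩, e⟩
      rw [sum_singleton] at i1
      rw [hc] at i1 i2
      exact deg_list _ (by nlinarith) i2 i3
    have k1 : ∀ χ ∈ (univ.filter fun χ => a χ ≠ 0).erase (irrOne G),
        a χ * charDegree χ.1 = 8 ∨ a χ * charDegree χ.1 = -27 := fun χ hχ => by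
      simp only [mem_erase, mem_filter, mem_univ, true_and] at hχ
      have i1 := md χ (6 * a χ) (by rw [h.sP_nonexc hχ.2]; push_cast; ring)
      have i2 : charDegree χ.1 ≠ 1 := fun e => hχ.1 (eq_irrOne_of_degree hG e)
      have i3 := k χ
      simp only [List.mem_cons, List.not_mem_nil, or_false] at i3
      rcases (h.pm χ).resolve_left hχ.2 with e | e <;> rw [e] at i1 ⊢ <;> omega
    obtain ⟨η, hη⟩ := card_pos.1 h.card_Y_pos
    have i1 := md η (-δ * 3) (by rw [h.sP_exc hη, h3]; push_cast; ring)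
    have i2 := h.degree_rel hη
    rw [← sum_filter_of_ne (p := fun χ => a χ ≠ 0) fun χ _ e => left_ne_zero_of_mul e,
      ← add_sum_erase _ _ (a := irrOne G) (by simp [h.one]), h.one, charDegree_irrOne] at i2
    obtain ⟨χ, ψ, hne, e⟩ := card_eq_two.1 (show ((univ.filter fun χ => a χ ≠ 0).erase (irrOne G)).card = 2 by
      rw [card_erase_of_mem (by simp [h.one]), cX])
    rw [e] at k1 i2
    rw [sum_pair hne] at i2
    have i3 := k η
    have i4 := k1 χ (by simp)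
    have i5 := k1 ψ (by simp)
    simp only [List.mem_cons, List.not_mem_nil, or_false] at i3
    rcases h.sign with rfl | rfl <;> omega
  · have := card_ndvd Nat.prime_two hy S (hS 2 Nat.prime_two (by norm_num) hn); omega
  · have := card_ndvd Nat.prime_three hu S (hS 3 Nat.prime_three (by norm_num) hn); omega

theorem graph (hc : Nat.card G = 6048) (h : (∃ d ∈ charDegrees G, 6 ∣ d) ∧ (∃ d ∈ charDegrees G, 14 ∣ d) ∧
    ∃ d ∈ charDegrees G, 21 ∣ d) : (∀ p, p.Prime → ((∃ d ∈ charDegrees G, p ∣ d) ↔ p ∣ 42)) ∧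
      ∀ p q, p ≠ q → p.Prime → q.Prime → ((∃ d ∈ charDegrees G, p * q ∣ d) ↔ p ∣ 42 ∧ q ∣ 42) := by
  obtain ⟨⟨a, ha, h1⟩, ⟨b, hb, h2⟩, c, hc', h3⟩ := h
  have k : ∀ p, p.Prime → (∃ d ∈ charDegrees G, p ∣ d) → p ∣ 42 := by
    rintro p hp ⟨_, ⟨χ, rfl⟩, hd⟩
    exact hp.dvd_of_dvd_pow (n := 5) ((hd.trans (hc ▸ H6.irr_deg_dvd χ.2)).trans (by norm_num))
  have k2 : ∀ p, p.Prime → p ∣ 42 → p = 2 ∨ p = 3 ∨ p = 7 := fun p hp hd => by
    have := Nat.le_of_dvd (by norm_num) hd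
    interval_cases p <;> simp_all <;> norm_num at hp
  refine ⟨fun p hp => ⟨k p hp, fun hd => ?_⟩, fun p q e hp hq => ⟨fun ⟨d, hd, e⟩ =>
    ⟨k p hp ⟨d, hd, (dvd_mul_right _ _).trans e⟩, k q hq ⟨d, hd, (dvd_mul_left _ _).trans e⟩⟩, fun hd => ?_⟩⟩
  · rcases k2 p hp hd with rfl | rfl | rfl
    exacts [⟨a, ha, .trans (by norm_num) h1⟩, ⟨a, ha, .trans (by norm_num) h1⟩, ⟨b, hb, .trans (by norm_num) h2⟩]
  · rcases k2 p hp hd.1 with rfl | rfl | rfl <;> rcases k2 q hq hd.2 with rfl | rfl | rfl <;>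
      first | exact absurd rfl e | exact ⟨a, ha, h1⟩ | exact ⟨b, hb, h2⟩ | exact ⟨c, hc', h3⟩
end

end H27.DG
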