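/-
Prime graphs of affine groups; the field with 16 elements.
-/
import Cfsg.Agent.H27.Iso1

set_option autoImplicit false
set_option linter.unusedSectionVars false

namespace H27.Iso
open H5 Subgroup

/-- a prime or a product of two distinct primes -/
def PQ (n : ℕ) : Prop := n.Prime ∨ ∃ p q, p.Prime ∧ q.Prime ∧ p ≠ q ∧ n = p * q

/-- the prime graph is described by `M` -/
def GK (G : Type*) [Group G] (M : List ℕ) : Prop := ∀ n, PQ n → (Ord G n ↔ ∃ m ∈ M, n ∣ m)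

/-- arbitrarily large groups with prime graph `M` -/
def BigGK (M : List ℕ) : Prop := ∀ N : ℕ, ∃ (X : Type) (_ : Group X) (_ : Fintype X),
  N < Fintype.card X ∧ GK X M

theorem PQ.sqf {n : ℕ} (h : PQ n) : Squarefree n := by
  rcases h with h | ⟨p, q, hp, hq, e, rfl⟩
  · exact h.prime.squarefree
  · exact (Nat.squarefree_mul ((Nat.coprime_primes hp hq).2 e)).2 ⟨hp.prime.squarefree, hq.prime.squarefree⟩

theorem PQ.dvd {n m k : ℕ} (h : PQ n) (d : n ∣ m ^ k) : n ∣ m := by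
  rcases k with _ | k
  · exact (Nat.dvd_one.1 d) ▸ one_dvd _
  · exact (h.sqf.dvd_pow_iff_dvd k.succ_ne_zero).1 d

theorem BigGK.res {G : Type*} [Group G] [Finite G] {M : List ℕ} (h : BigGK M) (hG : GK G M) (N : ℕ) :
    ∃ (H : Type) (_ : Group H) (_ : Finite H), N < Nat.card H ∧
      ((∀ p : ℕ, p.Prime → (p ∣ Nat.card G ↔ p ∣ Nat.card H)) ∧
      (∀ p q : ℕ, p.Prime → q.Prime → p ≠ q → ((∃ g : G, orderOf g = p * q) ↔ (∃ g : H, orderOf g = p * q)))) := by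
  obtain ⟨X, _, _, h1, h2⟩ := h N
  refine ⟨X, inferInstance, inferInstance, by simpa using h1, fun p hp => ?_, fun p q hp hq e => ?_⟩
  · rw [← ord_prime hp, ← ord_prime hp, hG p (.inl hp), h2 p (.inl hp)]
  · exact (hG _ (.inr ⟨p, q, hp, hq, e, rfl⟩)).trans (h2 _ (.inr ⟨p, q, hp, hq, e, rfl⟩)).symm

theorem gk_af {H V : Type*} [Group H] [AddCommGroup V] [DistribMulAction H V] {p : ℕ} [Finite H] [Finite V]
    (hp : p.Prime) (hV : ∀ v : V, p • v = 0) (K : Subgroup H)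
    (W : AddSubgroup V) (hW : ∀ k ∈ K, ∀ w ∈ W, k • w ∈ W) (hb : W ≠ ⊥) (M : List ℕ)
    (h1 : ∀ h ∈ K, ∀ n, PQ n → n ∣ orderOf h ∨ (n ∣ orderOf h * p ∧ ∃ v ∈ W, nm h v ≠ 0) → ∃ m ∈ M, n ∣ m)
    (h2 : ∀ m ∈ M, ∃ h ∈ K, m ∣ orderOf h ∨ m ∣ orderOf h * p ∧ ∃ v ∈ W, nm h v ≠ 0) : BigGK M := fun N => by
  obtain ⟨X, a, b, c, d⟩ := Af.big (K := K) (hW := hW) hb N
  refine ⟨X, a, b, c, fun k hk => (d k).trans ⟨fun h' => ?_, fun ⟨n, hn, e⟩ => Ord.of_dvd ?_ e⟩⟩
  · obtain ⟨h, hh, v, hv, rfl⟩ := Af.ord_sub.1 h'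
    refine h1 h hh _ hk ?_
    rcases add_ord hp hV (nm h v) with h3 | h3
    · exact .inl (by simp [h3.1])
    · exact .inr ⟨by rw [h3.1], v, hv, h3.2⟩
  · obtain ⟨h, hh, e | ⟨e, v, hv, h0⟩⟩ := h2 n hn
    · exact Ord.of_dvd (Af.ord_sub.2 ⟨h, hh, 0, W.zero_mem, by simp⟩) e
    · refine Ord.of_dvd (Af.ord_sub.2 ⟨h, hh, v, hv, rfl⟩) ?_
      rcases add_ord hp hV (nm h v) with h3 | h3
      · exact absurd h3.2 h0
      · rwa [h3.1]

theorem conj_of_prime {G : Type*} [Group G] [Finite G] {p : ℕ} (hp : p.Prime) (h : ¬ p ^ 2 ∣ Nat.card G) {u w : G}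
    (hu : orderOf u = p) (hw : orderOf w = p) : ∃ g : G, ∃ j : ℕ, w = g * u ^ j * g⁻¹ := by
  haveI := Fact.mk hp
  have key : ∀ x : G, orderOf x = p → ∃ P : Sylow p G, (P : Subgroup G) = zpowers x := fun x hx => by
    have c : Nat.card (zpowers x) = p ^ 1 := by rw [Nat.card_zpowers, hx, pow_one]
    refine ⟨(IsPGroup.of_card c).toSylow fun hd => h ?_, rfl⟩
    rw [← (zpowers x).card_mul_index, c, pow_one, sq]
    exact Nat.mul_dvd_mul_left p hd
  obtain ⟨P, hP⟩ := key u hu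
  obtain ⟨Q, hQ⟩ := key w hw
  obtain ⟨g, rfl⟩ := MulAction.exists_smul_eq G P Q
  have : w ∈ ((g • P : Sylow p G) : Subgroup G) := hQ ▸ mem_zpowers w
  rw [Sylow.coe_subgroup_smul, hP] at this
  obtain ⟨x, hx, rfl⟩ := this
  obtain ⟨j, rfl⟩ := (mem_powers_iff_mem_zpowers.2 hx)
  exact ⟨g, j, rfl⟩

/-- the field with sixteen elements -/
def F16 : Type := Fin 16

namespace F16
instance : DecidableEq F16 := inferInstanceAs (DecidableEq (Fin 16))
instance : Fintype F16 := inferInstanceAs (Fintype (Fin 16))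
instance (P : F16 → Prop) [h : DecidablePred P] : Decidable (∀ x, P x) := @Nat.decidableForallFin 16 P h
/-- the element with a given code -/
def e (n : ℕ) : F16 := Fin.ofNat 16 n
instance : Add F16 := ⟨fun a b => e (Nat.xor a.1 b.1)⟩
instance : Mul F16 := ⟨fun a b => e (Nat.shiftRight 0xa5783ce1b4692df05ba48679c23d1fe07ae36bf258c149d0843fd16a2e957bc0386d92c74f1ae5b0c6b1285f394ed7a0e7f6c5d4a3b28190192a7f4cd5e6b380bc5243ad618f9e70428ef93517dbac6063c914be8d27fa509d15ae26fb73c8402147ed8b9afc5630df9b5713eca86420fedcba98765432100000000000000000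
  (Nat.mul 4 (Nat.add (Nat.mul 16 a.1) b.1)))⟩
instance : Neg F16 := ⟨fun a => a⟩
instance : Inv F16 := ⟨fun a => e (Nat.shiftRight 0x834a5c2f67bde910 (Nat.mul 4 a.1))⟩
instance : Zero F16 := ⟨e 0⟩
instance : One F16 := ⟨e 1⟩
instance : Field F16 := Field.ofMinimalAxioms F16 (by decide +kernel) (by decide +kernel) (by decide +kernel)
  (by decide +kernel) (by decide +kernel) (by decide +kernel) (by decide +kernel) (by decide +kernel)
  (by decide +kernel) ⟨0, 1, by decide +kernel⟩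
theorem card : Fintype.card F16 = 4 ^ 2 := rfl
theorem add4 : ∀ a b : F16, (a + b) ^ 4 = a ^ 4 + b ^ 4 := by decide +kernel
theorem two : ∀ a : F16, a + a = 0 := by decide +kernel
end F16

end H27.Iso
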