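/-
`2⁴⁸ : Sz(8) : 3` and the prime graph of `PSp₆(3)`.
-/
import Cfsg.Agent.H27.PG1
import Cfsg.Agent.H27.Spec13
import Cfsg.Agent.H23.SzTrace
import Cfsg.Agent.H23.SzAut

set_option autoImplicit false
set_option linter.unusedSectionVars false

namespace H27.Iso
open H5 Subgroup Matrix Cfsg H23 H23.Sz

/-- the field with eight elements -/
def F8 : Type := Fin 8

namespace F8
instance : DecidableEq F8 := inferInstanceAs (DecidableEq (Fin 8))
instance : Fintype F8 := inferInstanceAs (Fintype (Fin 8))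
instance (P : F8 → Prop) [h : DecidablePred P] : Decidable (∀ x, P x) := @Nat.decidableForallFin 8 P h
/-- the element with a given code -/
def e (n : ℕ) : F8 := Fin.ofNat 8 n
instance : Add F8 := ⟨fun a b => e (Nat.xor a.1 b.1)⟩
instance : Mul F8 := ⟨fun a b => e (Nat.shiftRight 0x3461257042351760637241501526734021475630571364207654321000000000
  (Nat.mul 4 (Nat.add (Nat.mul 8 a.1) b.1)))⟩
instance : Neg F8 := ⟨fun a => a⟩
instance : Inv F8 := ⟨fun a => e (Nat.shiftRight 0x43276510 (Nat.mul 4 a.1))⟩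
instance : Zero F8 := ⟨e 0⟩
instance : One F8 := ⟨e 1⟩
instance : Field F8 := Field.ofMinimalAxioms F8 (by decide +kernel) (by decide +kernel) (by decide +kernel)
  (by decide +kernel) (by decide +kernel) (by decide +kernel) (by decide +kernel) (by decide +kernel)
  (by decide +kernel) ⟨0, 1, by decide +kernel⟩
theorem card : Fintype.card F8 = 2 ^ (2 * 1 + 1) := rfl
instance : Tits F8 := ⟨⟨⟨⟨fun x => x ^ 4, by decide +kernel⟩, by decide +kernel⟩, by decide +kernel, by decide +kernel⟩,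
  by decide +kernel⟩
instance : Sz.Big F8 := ⟨e 2, by decide +kernel⟩

/-- matrices -/
abbrev Mt := Matrix (Fin 4) (Fin 4) F8
/-- the Suzuki group -/
abbrev G := SzG F8
/-- the automorphism group -/
abbrev H := G ⋊[fieldAut G] RingAut F8
instance : Finite (RingAut F8) := Finite.of_injective (fun σ => (σ : F8 → F8)) DFunLike.coe_injective
instance : Finite H := Finite.of_equiv _ SemidirectProduct.equivProd.symm
/-- the module -/
def V : Type := Mt
instance : AddCommGroup V := inferInstanceAs (AddCommGroup Mt)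
instance : Finite V := inferInstanceAs (Finite Mt)
/-- the action -/
def act (A : Mt) (σ : F8 →+* F8) (X : Mt) : Mt := A * X.map σ * (A.map (θ : F8 →+* F8))ᵀ
instance : DistribMulAction H V where
  smul h X := act (ρ F8 h.left) h.right X
  one_smul X := by
    change act (ρ F8 (1 : G)) (RingHom.id F8) X = X
    simp [act]; rfl
  mul_smul g h X := by
    change act (ρ F8 (g.left * fieldAut G g.right h.left)) ((g.right : F8 →+* F8).comp h.right) X =
      act _ _ (act _ _ X)
    have : ∀ A : Mt, (A.map g.right).map (θ : F8 →+* F8) = (A.map (θ : F8 →+* F8)).map g.right := fun A =>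
      Matrix.ext fun i j => (ringHom_θ (g.right : F8 →+* F8) _).symm
    simp only [act, map_mul, ρ_fieldAut, Matrix.map_mul, transpose_mul, this, transpose_map, Matrix.mul_assoc,
      RingHom.coe_comp, RingHom.coe_coe]
    rfl
  smul_zero h := by
    change act _ _ (0 : Mt) = (0 : Mt)
    simp [act]
  smul_add h (X Y : Mt) := by
    change act _ _ (X + Y) = act _ _ X + act _ _ Y
    simp [act, Matrix.map_add, Matrix.mul_add, Matrix.add_mul]

theorem inl_smul (g : G) (X : V) : (SemidirectProduct.inl g : H) • X = act (ρ F8 g) (RingHom.id F8) X := rfl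

/-- class representatives -/
noncomputable def y (s : F8) : G := T (0 : F8) 1 * (W F8 * T 0 s * W F8)
/-- their matrices -/
def Y (s : F8) : Mt := !![1 + s + s ^ 4, s, 1, 1; s ^ 4, 1 + s, 0, 1; s, 0, 1, 0; s ^ 4, s, 0, 1]
theorem ρ_y (s : F8) : ρ F8 (y s) = Y s := by
  simp only [y, map_mul, ρ_T, ρ_W, J_eq]
  revert s; decide +kernel
/-- the characteristic polynomial -/
def mp (s : F8) (A : Mt) : Mt := A * A * A * A + s ^ 4 • (A * A * A) + s ^ 2 • (A * A) + s ^ 4 • A + 1
/-- an inverse -/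
def ci (s : F8) : Mt := if s = e 3 then !![e 7, e 7, e 4, e 4; e 6, e 0, e 6, e 4; e 6, e 1, e 4, e 3; e 3, e 6, e 4, e 7]
  else if s = e 5 then !![e 3, e 3, e 6, e 6; e 2, e 0, e 2, e 6; e 2, e 1, e 6, e 5; e 5, e 2, e 6, e 3]
  else !![e 5, e 5, e 2, e 2; e 4, e 0, e 4, e 2; e 4, e 1, e 2, e 7; e 7, e 4, e 2, e 5]
theorem y_cases : ∀ s : F8, s ≠ 0 → Y s ^ 5 = 1 ∨ Y s ^ 7 = 1 ∨
    mp s (Y s) = 0 ∧ mp s ((Y s).map (θ : F8 →+* F8))ᵀ * ci s = 1 := by decide +kernel

theorem fpf {A B X : Mt} {s : F8} (h1 : mp s A = 0) (h : A * X * B = X) : X * mp s B = 0 := by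
  have h2 : A * A * X * (B * B) = X := by rw [show A * A * X * (B * B) = A * (A * X * B) * B by noncomm_ring, h, h]
  have h3 : A * A * A * X * (B * B * B) = X := by
    rw [show A * A * A * X * (B * B * B) = A * (A * A * X * (B * B)) * B by noncomm_ring, h2, h]
  have h4 : A * A * A * A * X * (B * B * B * B) = X := by
    rw [show A * A * A * A * X * (B * B * B * B) = A * (A * A * A * X * (B * B * B)) * B by noncomm_ring, h3, h]
  have : mp s A * X * (B * B * B * B) = A * A * A * A * X * (B * B * B * B) +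
      s ^ 4 • (A * A * A * X * (B * B * B) * B) + s ^ 2 • (A * A * X * (B * B) * (B * B)) +
      s ^ 4 • (A * X * B * (B * B * B)) + X * (B * B * B * B) := by
    simp only [mp, Matrix.add_mul, Matrix.smul_mul, Matrix.mul_assoc, Matrix.one_mul]
  rw [h1, h, h2, h3, h4, Matrix.zero_mul, Matrix.zero_mul] at this
  rw [this]; simp only [mp, Matrix.mul_add, Matrix.mul_smul, Matrix.mul_one]; abel

theorem g_ord (n : ℕ) : Ord G n ↔ n ∣ 4 ∨ n ∣ 7 ∨ n ∣ 13 ∨ n ∣ 5 :=
  (sz_data le_rfl card (MulEquiv.subgroupCongr (lieSz_eq fun _ => rfl).symm)).2 n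

theorem nm_13 {g : G} (hg : orderOf g = 13) (v : V) : nm (SemidirectProduct.inl g : H) v = 0 := by
  obtain ⟨s, s0, hs⟩ := exists_isConj_y (F := F8) (g := g) (by rintro rfl; simp at hg) (hg ▸ by decide)
  have h13 : orderOf (y s) = 13 := (orderOf_isConj hs).symm.trans hg
  have k : ∀ n, Y s ^ n = 1 → 13 ∣ n := fun n h =>
    h13 ▸ orderOf_dvd_of_pow_eq_one (ρ_inj (F := F8) (by rw [map_pow, ρ_y, h, map_one]))
  obtain ⟨h1, h2⟩ := ((y_cases s s0).resolve_left fun h => by simpa using k _ h).resolve_left fun h => by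
    simpa using k _ h
  obtain ⟨c, rfl⟩ := isConj_iff.1 hs.symm
  rw [map_mul, map_mul, map_inv, nm_conj]
  have h3 := smul_nm (h := (SemidirectProduct.inl (y s) : H)) (v := (SemidirectProduct.inl c : H)⁻¹ • v)
  rw [inl_smul, ρ_y] at h3
  have h4 := congrArg (· * ci s) (fpf h1 h3)
  simp only [Matrix.mul_assoc, h2, Matrix.mul_one, Matrix.zero_mul] at h4
  change _ • nm (SemidirectProduct.inl (y s) : H) _ = 0
  rw [show nm (SemidirectProduct.inl (y s) : H) ((SemidirectProduct.inl c : H)⁻¹ • v) = 0 from h4, smul_zero]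

theorem y5 : orderOf (y 1) = 5 := by
  haveI : Fact (Nat.Prime 5) := ⟨by norm_num⟩
  refine orderOf_eq_prime (ρ_inj (F := F8) ?_) fun h => ?_
  · rw [map_pow, ρ_y, map_one]; decide +kernel
  · exact absurd ((ρ_y 1).symm.trans ((congrArg _ h).trans (map_one _))) (by decide +kernel)

theorem aut_fix {σ : RingAut F8} (h : σ ≠ 1) {x : F8} (e : σ x = x) : x = 0 ∨ x = 1 := by
  by_contra! hx
  refine h (RingEquiv.ext fun z => ?_)
  rcases (by decide +kernel : ∀ x z : F8, x ≠ 0 → x ≠ 1 → z = 0 ∨ ∃ k < 7, z = x ^ k) x z hx.1 hx.2 with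
    rfl | ⟨k, -, rfl⟩
  · simp
  · simp [e]

theorem aut3 : Nat.card (RingAut F8) = 3 := card_ringAut (by rw [Nat.card_eq_fintype_card]; rfl)

theorem h_ord (h : H) : orderOf h ∣ 12 ∨ orderOf h ∣ 15 ∨ orderOf h ∣ 7 ∨
    ∃ g : G, orderOf g = 13 ∧ h = SemidirectProduct.inl g := by
  by_cases h1 : h.right = 1
  · obtain ⟨g, rfl⟩ : ∃ g, h = SemidirectProduct.inl g := ⟨h.left, SemidirectProduct.ext rfl h1⟩
    rw [orderOf_injective _ SemidirectProduct.inl_injective]
    rcases (g_ord _).1 ⟨g, rfl⟩ with a | a | a | a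
    · exact .inl (a.trans (by norm_num))
    · exact .inr (.inr (.inl a))
    · rcases (Nat.dvd_prime (by norm_num)).1 a with b | b
      exacts [.inl (b ▸ one_dvd _), .inr (.inr (.inr ⟨g, b, rfl⟩))]
    · exact .inr (.inl (a.trans (by norm_num)))
  obtain ⟨g, hg⟩ : ∃ g, h ^ 3 = SemidirectProduct.inl g := ⟨(h ^ 3).left, SemidirectProduct.ext rfl (by
    rw [← SemidirectProduct.rightHom_eq_right, map_pow, ← aut3]; exact pow_card_eq_one')⟩
  have h2 : orderOf h ∣ 3 * orderOf g := orderOf_dvd_of_pow_eq_one (by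
    rw [pow_mul, hg, ← map_pow, pow_orderOf_eq_one, map_one])
  have h3 : h.left * fieldAut G h.right g * h.left⁻¹ = g := by
    have := congrArg SemidirectProduct.left (show h * .inl g = .inl g * h by rw [← hg]; group)
    rw [mul_inv_eq_iff_eq_mul]; simpa using this
  have h4 : h.right (tr F8 g) = tr F8 g := by
    conv_rhs => rw [← h3, tr_conj, tr, ρ_fieldAut]
    simp [tr, trace]
  rcases aut_fix h1 h4 with h5 | h5
  · refine .inl (h2.trans (Nat.mul_dvd_mul_left 3 (?_ : _ ∣ 4)))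
    by_cases g1 : g = 1
    · simp [g1]
    have h6 : ¬ Odd (orderOf g) := fun o => tr_ne_zero g1 o h5
    rcases (g_ord _).1 ⟨g, rfl⟩ with a | a | a | a
    exacts [a, absurd (Odd.of_dvd_nat (by decide) a) h6, absurd (Odd.of_dvd_nat (by decide) a) h6,
      absurd (Odd.of_dvd_nat (by decide) a) h6]
  · have := orderOf_isConj (isConj_of_tr (F := F8) (g := g) (h := y 1) (h5 ▸ one_ne_zero)
      (h5.trans ((tr_y 1 1).trans (by simp)).symm))
    rw [this, y5] at h2
    exact .inr (.inl h2)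

theorem nm_fix {h : H} {n : ℕ} (hn : orderOf h = n) (v : Mt) (e : act (ρ F8 h.left) h.right v = v) (v0 : v ≠ 0)
    (o : Odd n) : ∃ v : V, v ∈ (⊤ : AddSubgroup V) ∧ nm h v ≠ 0 := by
  refine ⟨v, trivial, ?_⟩
  change V at v
  subst hn
  have : ∀ i, h ^ i • v = v := fun i => (MulAction.stabilizer H v).pow_mem e i
  obtain ⟨k, hk⟩ := o
  have h2 : (2 : ℕ) • v = 0 := Matrix.ext fun i j => (by decide +kernel : ∀ a : F8, 2 • a = 0) _
  have v1 : v ≠ (0 : V) := v0
  simpa [nm, this, hk, add_nsmul, mul_nsmul, h2] using v1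

theorem big : BigGK [6, 10, 15, 14, 13] := by
  refine gk_af (H := H) (V := V) (p := 2) Nat.prime_two
    (fun v => Matrix.ext fun i j => (by decide +kernel : ∀ a : F8, 2 • a = 0) _) ⊤ ⊤ (fun _ _ _ _ => trivial)
    (by haveI : Nontrivial V := inferInstanceAs (Nontrivial Mt); exact top_ne_bot) _ (fun h _ n hn H => ?_) ?_
  · simp only [List.mem_cons, List.not_mem_nil, or_false, exists_eq_or_imp, exists_eq_left]
    have k : n ∣ orderOf h * 2 := H.elim (·.trans (dvd_mul_right _ _)) (·.1)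
    rcases h_ord h with a | a | a | ⟨g, a, rfl⟩
    · exact .inl (hn.dvd (k := 3) ((k.trans (Nat.mul_dvd_mul_right a 2)).trans (by norm_num)))
    · have b : n ∈ Nat.divisors 30 := Nat.mem_divisors.2 ⟨k.trans (Nat.mul_dvd_mul_right a 2), by norm_num⟩
      have c : n ≠ 30 := by
        rintro rfl
        rcases hn with c | ⟨p, q, hp, hq, -, c⟩
        · norm_num at c
        · have : p ∈ Nat.divisors 30 := Nat.mem_divisors.2 ⟨c ▸ dvd_mul_right _ _, by norm_num⟩
          have d : q = 30 / p := by rw [c, Nat.mul_div_cancel_left _ hp.pos]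
          subst d; clear c; revert hp hq; revert this p; decide +kernel
      clear k H hn; revert n; decide +kernel
    · exact .inr (.inr (.inr (.inl (k.trans (Nat.mul_dvd_mul_right a 2)))))
    · rcases H with H | ⟨-, v, -, H⟩
      · rw [orderOf_injective _ SemidirectProduct.inl_injective, a] at H; simp [H]
      · exact absurd (nm_13 a v) H
  obtain ⟨τ, hτ⟩ := exists_prime_orderOf_dvd_card' (G := RingAut F8) 3 (hp := ⟨Nat.prime_three⟩) aut3.symm.dvd
  have o3 : orderOf (SemidirectProduct.inr τ : H) = 3 :=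
    (orderOf_injective _ SemidirectProduct.inr_injective τ).trans hτ
  have o5 : orderOf (SemidirectProduct.inl (y 1) : H) = 5 :=
    (orderOf_injective _ SemidirectProduct.inl_injective _).trans y5
  simp only [List.forall_mem_cons, List.not_mem_nil, IsEmpty.forall_iff, implies_true, and_true]
  refine ⟨⟨_, trivial, .inr ⟨by rw [o3], nm_fix o3 1 ?_ one_ne_zero (by decide)⟩⟩,
    ⟨_, trivial, .inr ⟨by rw [o5], nm_fix o5 (J F8) ?_ ?_ (by decide)⟩⟩,
    ⟨.inl (y 1) * .inr τ, trivial, .inl ?_⟩, ?_, ?_⟩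
  · change act (ρ F8 (1 : G)) τ 1 = 1
    simp [act]
  · change act (ρ F8 (y 1)) (RingHom.id _) _ = _
    rw [ρ_y, J_eq]; decide +kernel
  · rw [J_eq]; decide +kernel
  · rw [Commute.orderOf_mul_eq_mul_orderOf_of_coprime _ (by rw [o3, o5]; decide), o3, o5]
    refine SemidirectProduct.ext ?_ (by simp)
    simp [y, fieldAut_T, fieldAut_W]
  · let k : F8ˣ := Units.mk0 (e 2) (by decide +kernel)
    have o7 : orderOf (SemidirectProduct.inl (M k) : H) = 7 := by
      haveI : Fact (Nat.Prime 7) := ⟨by norm_num⟩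
      rw [orderOf_injective _ SemidirectProduct.inl_injective, orderOf_injective _ M_inj]
      exact orderOf_eq_prime (Units.ext (by decide +kernel)) fun h => absurd (congrArg Units.val h) (by decide +kernel)
    refine ⟨_, trivial, .inr ⟨by rw [o7], nm_fix o7 (Matrix.single 1 0 1) ?_ (by decide +kernel) (by decide)⟩⟩
    change act (ρ F8 (M k : G)) (RingHom.id _) _ = _
    rw [ρ_M]; decide +kernel
  · obtain ⟨g, hg⟩ := (g_ord 13).2 (by simp)
    exact ⟨.inl g, trivial, .inl (by rw [orderOf_injective _ SemidirectProduct.inl_injective, hg])⟩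

end F8

theorem gk_s63 {F : Type*} [Field F] [Fintype F] (hF : Fintype.card F = 3) : GK (PSp 3 F) [6, 10, 15, 14, 13] := by
  haveI : CharP F 3 := charP_of_card_eq_prime hF
  have hc := H11.card_psp (F := F) (m := 3) (by norm_num)
  rw [hF] at hc
  replace hc : Nat.card (PSp 3 F) = 2 ^ 9 * 3 ^ 9 * 5 * 7 * 13 := by
    norm_num [Finset.prod_range_succ] at hc; omega
  have hq : Nat.card F = 3 := by rw [Nat.card_eq_fintype_card, hF]
  have hS := Sp.psp_spec (p := 3) F (AlgebraicClosure F) (n := 3) (by omega)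
  have o5 : 4 = orderOf (((Nat.card F : ℕ) : ℤ) : ZMod 5) := by
    rw [hq, eq_comm, orderOf_eq_iff (by norm_num)]; decide +kernel
  have o7 : 6 = orderOf (((Nat.card F : ℕ) : ℤ) : ZMod 7) := by
    rw [hq, eq_comm, orderOf_eq_iff (by norm_num)]; decide +kernel
  have o13 : 3 = orderOf (((Nat.card F : ℕ) : ℤ) : ZMod 13) := by
    rw [hq, eq_comm, orderOf_eq_iff (by norm_num)]; decide +kernel
  have e5 : Odd 4 ∧ 2 = 4 ∨ Even 4 ∧ 2 * 2 = 4 := by decide
  have e7 : Odd 6 ∧ 3 = 6 ∨ Even 6 ∧ 2 * 3 = 6 := by decide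
  have e13 : Odd 3 ∧ 3 = 3 ∨ Even 3 ∧ 2 * 3 = 3 := by decide
  have p5 : Nat.Prime 5 := by norm_num
  have p7 : Nat.Prime 7 := by norm_num
  have p13 : Nat.Prime 13 := by norm_num
  have ho : Odd (Nat.card F) := hq ▸ by decide
  have a6 : Ord (PSp 3 F) 6 := Sp.sp_two_p (p := 3) ho (by norm_num)
  have a10 : Ord (PSp 3 F) 10 := (Sp.sp_two (p := 3) ho p5 (by norm_num) (by norm_num) o5 e5 (by norm_num)).2 (by simp)
  have a14 : Ord (PSp 3 F) 14 := (Sp.sp_two (p := 3) ho p7 (by norm_num) (by norm_num) o7 e7 (by norm_num)).2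
    (.inr ⟨-1, by simp, by rw [hq]; decide⟩)
  have a26 : ¬ Ord (PSp 3 F) 26 := fun h => by
    rcases (Sp.sp_two (p := 3) ho p13 (by norm_num) (by norm_num) o13 e13 (by norm_num)).1 h with
      h | ⟨_, rfl | rfl, h⟩ <;> norm_num [hF] at h
  have a15 : Ord (PSp 3 F) 15 := (Sp.sp_rp hS p5 (by norm_num) (by norm_num) o5 e5).2 le_rfl
  have a21 : ¬ Ord (PSp 3 F) 21 := fun h => by simpa using (Sp.sp_rp hS p7 (by norm_num) (by norm_num) o7 e7).1 h
  have a39 : ¬ Ord (PSp 3 F) 39 := fun h => by simpa using (Sp.sp_rp hS p13 (by norm_num) (by norm_num) o13 e13).1 h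
  have a35 : ¬ Ord (PSp 3 F) 35 := fun h => by
    rcases (Sp.sp_rs hS p5 p7 (by norm_num) (by norm_num) (by norm_num) (by norm_num) (by norm_num) o5 o7 e5 e7
      (by norm_num)).1 h with h | ⟨-, t, -, h⟩ <;> omega
  have a65 : ¬ Ord (PSp 3 F) 65 := fun h => by
    rcases (Sp.sp_rs hS p5 p13 (by norm_num) (by norm_num) (by norm_num) (by norm_num) (by norm_num) o5 o13 e5 e13
      (by norm_num)).1 h with h | ⟨-, t, -, h⟩ <;> omega
  have a91 : ¬ Ord (PSp 3 F) 91 := fun h => by
    rcases (Sp.sp_rs hS p13 p7 (by norm_num) (by norm_num) (by norm_num) (by norm_num) (by norm_num) o13 o7 e13 e7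
      (by norm_num)).1 h with h | ⟨-, t, ⟨_, rfl⟩, h⟩ <;> omega
  have a13 : Ord (PSp 3 F) 13 := (ord_prime p13).2 (hc ▸ dvd_mul_left _ _)
  have pr : ∀ p, p.Prime → Ord (PSp 3 F) p → p = 2 ∨ p = 3 ∨ p = 5 ∨ p = 7 ∨ p = 13 := fun p hp h => by
    have := h.dvd
    simp only [hc, hp.dvd_mul, Nat.prime_dvd_prime_iff_eq hp p5, Nat.prime_dvd_prime_iff_eq hp p7,
      Nat.prime_dvd_prime_iff_eq hp p13] at this
    rcases this with (((a | a) | a) | a) | a
    exacts [.inl ((Nat.prime_dvd_prime_iff_eq hp Nat.prime_two).1 (hp.dvd_of_dvd_pow a)),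
      .inr (.inl ((Nat.prime_dvd_prime_iff_eq hp Nat.prime_three).1 (hp.dvd_of_dvd_pow a))), by simp [a], by simp [a],
      by simp [a]]
  intro n hn
  simp only [List.mem_cons, List.not_mem_nil, or_false, exists_eq_or_imp, exists_eq_left]
  refine ⟨fun h => ?_, by rintro (h | h | h | h | h) <;> exact Ord.of_dvd ‹_› h⟩
  rcases hn with hn | ⟨p, q, hp, hq, e, rfl⟩
  · rcases pr n hn h with rfl | rfl | rfl | rfl | rfl <;> simp
  · rcases pr p hp (h.of_dvd (dvd_mul_right _ _)) with rfl | rfl | rfl | rfl | rfl <;>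
      rcases pr q hq (h.of_dvd (dvd_mul_left _ _)) with rfl | rfl | rfl | rfl | rfl <;>
      first | exact absurd rfl e | contradiction | simp

end H27.Iso
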