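/-
`U₃(3)` over a table model of `𝔽₉`, and a solvable group with the same order and degree graph.
-/
import Cfsg.Agent.H27.DG1
import Cfsg.Agent.H27.PG3

set_option autoImplicit false
set_option linter.unusedSectionVars false

namespace H27.DG
open Cfsg H5 H7 H8 H21 Subgroup Finset Matrix
open scoped ComplexOrder

theorem eq_of_basis {K : Type*} [Field K] {A B : Matrix (Fin 3) (Fin 3) K} {u v w : Fin 3 → K}
    (h : (Matrix.of ![u, v, w]).det ≠ 0) (h1 : A *ᵥ u = B *ᵥ u) (h2 : A *ᵥ v = B *ᵥ v) (h3 : A *ᵥ w = B *ᵥ w) :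
    A = B := by
  refine transpose_injective (((Matrix.isUnit_iff_isUnit_det _).2 (Ne.isUnit h)).mul_left_cancel ?_)
  ext i j
  fin_cases i
  exacts [by simpa [mul_apply, mulVec, dotProduct, mul_comm] using congrFun h1 j,
    by simpa [mul_apply, mulVec, dotProduct, mul_comm] using congrFun h2 j,
    by simpa [mul_apply, mulVec, dotProduct, mul_comm] using congrFun h3 j]

theorem conj_inv {G M : Type*} [Group G] [Ring M] (ρ : G →* M) (c x : G) (e : ρ x * ρ x + 1 = ρ x + ρ x) :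
    ρ (c * x * c⁻¹) * ρ (c * x * c⁻¹) + 1 = ρ (c * x * c⁻¹) + ρ (c * x * c⁻¹) := by
  have := congrArg (fun A => ρ c * A * ρ c⁻¹) e
  simp only [mul_add, add_mul, ← map_mul, mul_one, mul_inv_cancel, map_one] at this
  rw [← this, ← map_mul]; congr 2; group

/-- the field with nine elements -/
def F9 : Type := Fin 9

namespace F9
instance : DecidableEq F9 := inferInstanceAs (DecidableEq (Fin 9))
instance : Fintype F9 := inferInstanceAs (Fintype (Fin 9))
instance (P : F9 → Prop) [h : DecidablePred P] : Decidable (∀ x, P x) := @Nat.decidableForallFin 9 P h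
/-- the element with a given code -/
def e (n : ℕ) : F9 := Fin.ofNat 9 n
/-- table lookup -/
def tb (t i : ℕ) : F9 := e (Nat.mod (Nat.shiftRight t (Nat.mul 4 i)) 16)
instance : Add F9 := ⟨fun a b => tb
  0x435102768354021687543210876102768435021687354210876543768435102687354021876543210 (Nat.add (Nat.mul 9 a.1) b.1)⟩
instance : Mul F9 := ⟨fun a b => tb
  0x615237480138624570582471360264318750327165840741852630453786120876543210000000000 (Nat.add (Nat.mul 9 a.1) b.1)⟩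
instance : Neg F9 := ⟨fun a => tb 0x453786120 a.1⟩
instance : Inv F9 := ⟨fun a => tb 0x783456210 a.1⟩
instance : Zero F9 := ⟨e 0⟩
instance : One F9 := ⟨e 1⟩
instance : Field F9 := Field.ofMinimalAxioms F9 (by decide +kernel) (by decide +kernel) (by decide +kernel)
  (by decide +kernel) (by decide +kernel) (by decide +kernel) (by decide +kernel) (by decide +kernel)
  (by decide +kernel) ⟨0, 1, by decide +kernel⟩
theorem card : Fintype.card F9 = 3 ^ 2 := rfl

/-- matrices -/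
abbrev Mt := Matrix (Fin 3) (Fin 3) F9
/-- the unitary group -/
abbrev U := SU 3 F9 3
/-- the matrix of an element -/
def ρ : U →* Mt := (slToMat 3 F9).comp (SU 3 F9 3).subtype
theorem ρ_inj : Function.Injective ρ := fun _ _ h => Subtype.ext (Subtype.ext h)
/-- the hermitian form -/
def hf (u v : Fin 3 → F9) : F9 := u 0 * (v 0 * v 0 * v 0) + u 1 * (v 1 * v 1 * v 1) + u 2 * (v 2 * v 2 * v 2)
theorem hf_eq (u v : Fin 3 → F9) : hermForm 3 F9 3 u v = hf u v := by
  simp only [hermForm, hf, Fin.sum_univ_three, pow_three, mul_assoc]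
theorem ρ_hf (g : U) (u v : Fin 3 → F9) : hf (ρ g *ᵥ u) (ρ g *ᵥ v) = hf u v := by
  rw [← hf_eq, ← hf_eq]; exact g.2 u v
/-- the determinant -/
def dt (u v w : Fin 3 → F9) : F9 := (Matrix.of ![u, v, w]).det
theorem ρ_dt (g : U) (u v w : Fin 3 → F9) : dt (ρ g *ᵥ u) (ρ g *ᵥ v) (ρ g *ᵥ w) = dt u v w := by
  have : Matrix.of ![ρ g *ᵥ u, ρ g *ᵥ v, ρ g *ᵥ w] = Matrix.of ![u, v, w] * (ρ g)ᵀ := by
    ext i j; fin_cases i <;> simp [mul_apply, mulVec, dotProduct, mul_comm]
  rw [dt, this, det_mul, det_transpose, show (ρ g).det = 1 from g.1.2, mul_one, dt]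

theorem ex (A : Mt) (h : A.det = 1 ∧ Aᵀ * A.map (· ^ 3) = 1) : ∃ g : U, ρ g = A := by
  refine ⟨⟨⟨A, h.1⟩, ?_⟩, rfl⟩
  exact (H11.mem_GU_iff_matrix card 3 (SpecialLinearGroup.toGL ⟨A, h.1⟩)).2 h.2

/-- the conditions on the image of a cyclic vector -/
def Cd (A : Mt) (v w : Fin 3 → F9) : Prop := hf w w = hf v v ∧ hf w (A *ᵥ w) = hf v (A *ᵥ v) ∧
  hf w (A *ᵥ (A *ᵥ w)) = hf v (A *ᵥ (A *ᵥ v)) ∧ dt w (A *ᵥ w) (A *ᵥ (A *ᵥ w)) = dt v (A *ᵥ v) (A *ᵥ (A *ᵥ v))
instance (A : Mt) (v w : Fin 3 → F9) : Decidable (Cd A v w) := inferInstanceAs (Decidable (_ ∧ _))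

theorem cent_le (y : U) (v : Fin 3 → F9) (h : dt v (ρ y *ᵥ v) (ρ y *ᵥ (ρ y *ᵥ v)) ≠ 0) :
    Nat.card (centralizer {y}) ≤ #{w : F9 × F9 × F9 | Cd (ρ y) v ![w.1, w.2.1, w.2.2]} := by
  have c : ∀ g : centralizer {y}, ∀ w, ρ y *ᵥ (ρ g.1 *ᵥ w) = ρ g.1 *ᵥ (ρ y *ᵥ w) := fun g w => by
    rw [mulVec_mulVec, mulVec_mulVec, ← map_mul, ← map_mul, mem_centralizer_singleton_iff.1 g.2]
  have e : ∀ w : Fin 3 → F9, ![w 0, w 1, w 2] = w := fun w => by ext i; fin_cases i <;> rfl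
  rw [← Nat.card_eq_finsetCard]
  refine Nat.card_le_card_of_injective (fun g => ⟨((ρ g.1 *ᵥ v) 0, (ρ g.1 *ᵥ v) 1, (ρ g.1 *ᵥ v) 2), ?_⟩) fun a b k => ?_
  · refine mem_filter.2 ⟨mem_univ _, ?_⟩
    simp only [e, Cd, c, ρ_hf, ρ_dt, and_self]
  · have k1 : ρ a.1 *ᵥ v = ρ b.1 *ᵥ v := by
      simp only [Subtype.mk.injEq, Prod.mk.injEq] at k
      rw [← e (ρ a.1 *ᵥ v), k.1, k.2.1, k.2.2, e]
    refine Subtype.ext (ρ_inj (eq_of_basis h k1 ?_ ?_)) <;> simp only [← c, k1]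

/-- an element of order seven -/
def X7 : Mt := !![e 0, e 4, e 5; e 0, e 4, e 7; e 1, e 0, e 0]
/-- an element of order eight -/
def X8 : Mt := !![e 5, e 1, e 1; e 0, e 7, e 5; e 4, e 3, e 3]
/-- an element of order three -/
def X3 : Mt := !![e 0, e 1, e 0; e 0, e 0, e 1; e 1, e 0, e 0]
/-- class representatives -/
def R : Fin 14 → Mt := ![!![e 0, e 0, e 2; e 0, e 1, e 0; e 1, e 0, e 0], !![e 0, e 0, e 1; e 0, e 2, e 0; e 1, e 0, e 0],
  !![e 0, e 0, e 3; e 0, e 3, e 0; e 1, e 0, e 0], !![e 0, e 0, e 6; e 0, e 6, e 0; e 1, e 0, e 0], X3, X7,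
  !![e 0, e 4, e 4; e 0, e 5, e 7; e 1, e 0, e 0], !![e 0, e 4, e 8; e 0, e 7, e 7; e 1, e 0, e 0],
  !![e 0, e 4, e 7; e 0, e 8, e 7; e 1, e 0, e 0], 1, !![e 1, e 0, e 0; e 0, e 4, e 5; e 0, e 4, e 7],
  !![e 1, e 0, e 0; e 0, e 5, e 5; e 0, e 4, e 8], !![e 2, e 0, e 0; e 0, e 3, e 0; e 0, e 0, e 3],
  !![e 2, e 0, e 0; e 0, e 6, e 0; e 0, e 0, e 6]]

theorem cls : 14 ≤ Nat.card (ConjClasses U) := by
  choose g hg using fun i => ex (R i) (by revert i; decide +kernel)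
  have k : ∀ i j, (R i).trace = (R j).trace → (R i ^ 4 = 1 ↔ R j ^ 4 = 1) →
      (R i * R i + 1 = R i + R i ↔ R j * R j + 1 = R j + R j) → i = j := by decide +kernel
  refine (Nat.card_fin 14).ge.trans (Nat.card_le_card_of_injective (fun i => ConjClasses.mk (g i)) fun i j h => ?_)
  obtain ⟨c, hc⟩ := isConj_iff.1 (ConjClasses.mk_eq_mk_iff_isConj.1 h)
  refine k i j ?_ ?_ ?_ <;> rw [← hg i, ← hg j, ← hc]
  · rw [map_mul, trace_mul_comm, ← map_mul, inv_mul_cancel_left]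
  · rw [← map_pow, ← map_pow, ← map_one ρ, ρ_inj.eq_iff, ρ_inj.eq_iff, conj_pow, conj_eq_one_iff]
  · refine ⟨conj_inv ρ c _, fun e => ?_⟩
    simpa only [mul_assoc, inv_mul_cancel_left, inv_inv, inv_mul_cancel, mul_one] using conj_inv ρ c⁻¹ _ e

theorem card_U : Nat.card U = 6048 := by
  have h := H11.card_psu card (n := 3) (by norm_num)
  have h2 := H11.card_center_SU card (n := 3) (by norm_num)
  have h3 := card_eq_card_quotient_mul_card_subgroup (center U)
  simp only [Finset.prod_range_succ] at h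
  norm_num at h
  rw [h2] at h3
  change 4 * Nat.card (U ⧸ center U) = _ at h
  norm_num at h3
  omega

theorem degs_U : (∃ d ∈ charDegrees U, 6 ∣ d) ∧ (∃ d ∈ charDegrees U, 14 ∣ d) ∧ ∃ d ∈ charDegrees U, 21 ∣ d := by
  obtain ⟨x, hx⟩ := ex X7 (by decide +kernel)
  obtain ⟨y, hy⟩ := ex X8 (by decide +kernel)
  obtain ⟨u, hu⟩ := ex X3 (by decide +kernel)
  have ox : orderOf x = 7 := by
    haveI := Fact.mk Nat.prime_seven
    refine orderOf_eq_prime (ρ_inj ?_) fun h => ?_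
    · rw [map_pow, hx, map_one]; decide +kernel
    · rw [h, map_one] at hx; revert hx; decide +kernel
  refine degs (H11.su_perfect card le_rfl (by norm_num)) card_U (x := x) (y := y) (u := u) ⟨Nat.prime_seven, ox, ?_⟩
    (ρ_inj ?_) (ρ_inj ?_) ((cent_le y ![1, 0, 0] ?_).trans ?_) ((cent_le u ![1, 0, 0] ?_).trans ?_) cls
  · refine (eq_of_le_of_card_ge (zpowers_le.2 (mem_centralizer_singleton_iff.2 rfl)) ?_).symm
    rw [Nat.card_zpowers, ox]
    refine (cent_le x ![1, 0, 0] ?_).trans ?_ <;> rw [hx] <;> decide +kernel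
  all_goals simp only [map_pow, map_one, hy, hu]; decide +kernel
end F9

theorem deg_aff {R S : Type} [CommRing R] [CommRing S] [Fintype R] [Fintype S] [DecidableEq R] [DecidableEq S]
    (f : R →+* S) {d : ℕ} (hd : Fintype.card R = Fintype.card S + d) (h : ∑ v : R, ∑ a : Rˣ,
      ((#{x : R | v + a * x = x} : ℤ) - #{y : S | f v + f a * y = y}) ^ 2 = Fintype.card R * Fintype.card Rˣ) :
    d ∈ charDegrees (Af Rˣ R) := by
  have act : ∀ {T : Type} [CommRing T] [Fintype T] [DecidableEq T] (f : R →+* T),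
      IsCharacter (Af Rˣ R) fun g => (#{y : T | f g.v + f g.h * y = y} : ℂ) := fun {T} _ _ _ f => by
    letI : MulAction (Af Rˣ R) T := { smul g y := f g.v + f g.h * y
                                      one_smul y := by change f 0 + f 1 * y = y; simp
                                      mul_smul g h y := by
                                        change f (g.v + g.h * h.v) + f (g.h * h.h) * y = f g.v + f g.h * (f h.v + f h.h * y)
                                        simp only [map_add, map_mul]; ring }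
    convert isCharacter_perm (G := Af Rˣ R) T using 3 with g
    rw [← Nat.card_eq_finsetCard]
    exact Nat.card_congr (Equiv.subtypeEquivRight fun y => by simp; rfl)
  let E : Af Rˣ R ≃ R × Rˣ := ⟨fun g => (g.v, g.h), fun p => ⟨p.1, p.2⟩, fun _ => rfl, fun _ => rfl⟩
  letI := Fintype.ofEquiv _ E.symm
  have e1 : ((fun g : Af Rˣ R => (#{y : R | RingHom.id R g.v + RingHom.id R g.h * y = y} : ℂ)) -
      fun g : Af Rˣ R => (#{y : S | f g.v + f g.h * y = y} : ℂ)) 1 = d := by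
    simp [hd]
  refine ⟨⟨_, H6.irr_of_gen_norm_one ⟨_, _, act (RingHom.id R), act f, rfl⟩ ?_ (by rw [e1]; exact Nat.cast_nonneg' _)⟩, by
    simp only [charDegree, e1]; simp⟩
  rw [classInner, inv_mul_eq_one₀ (Nat.cast_ne_zero.2 Nat.card_pos.ne'), Nat.card_congr E, ← E.symm.sum_comp, Fintype.sum_prod_type]
  have := congrArg (Int.cast : ℤ → ℂ) h
  push_cast at this
  simp [← this, sq, E]

/-- the solvable group -/
abbrev Hs := (Af Iso.F8ˣ Iso.F8 × Af (ZMod 9)ˣ (ZMod 9)) × Multiplicative (ZMod 2)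

theorem card_Af {H V : Type*} : Nat.card (Af H V) = Nat.card V * Nat.card H :=
  (Nat.card_congr ⟨fun g => (g.v, g.h), fun p => ⟨p.1, p.2⟩, fun _ => rfl, fun _ => rfl⟩).trans (Nat.card_prod ..)

theorem deg_prod {G H : Type*} [Group G] [Group H] [Finite G] [Finite H] {a b : ℕ} (ha : a ∈ charDegrees G)
    (hb : b ∈ charDegrees H) : a * b ∈ charDegrees (G × H) := by
  obtain ⟨φ, rfl⟩ := ha
  obtain ⟨ψ, rfl⟩ := hb
  refine ⟨⟨_, φ.2.prod ψ.2⟩, ?_⟩
  change ⌊(φ.1 1 * ψ.1 1).re⌋₊ = _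
  rw [irr_apply_one, irr_apply_one, ← Nat.cast_mul, Complex.natCast_re, Nat.floor_natCast]

theorem card_Hs : Nat.card Hs = 6048 := by
  simp only [Nat.card_prod, card_Af, Nat.card_eq_fintype_card]; decide +kernel

theorem deg_Hs : 42 ∈ charDegrees Hs :=
  deg_prod (deg_prod (deg_aff (S := PUnit) ⟨⟨⟨fun _ => 0, rfl⟩, fun _ _ => rfl⟩, rfl, fun _ _ => rfl⟩ (d := 7) rfl (by decide +kernel))
    (deg_aff (ZMod.castHom (show 3 ∣ 9 by norm_num) (ZMod 3)) (d := 6) rfl (by decide +kernel)))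
      ⟨irrOne _, charDegree_irrOne⟩

end H27.DG
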