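/-
`L₂(7) ≤ U₃(3)`.
-/
import Cfsg.Agent.H27.DG2
import Cfsg.Agent.H11.SL2Schur
import Cfsg.Agent.H11.LowDim

set_option autoImplicit false

namespace H27.DG.F9
open Cfsg Subgroup Matrix H13.SL2
open scoped MatrixGroups

/-- the first root subgroup -/
def XM : Fin 7 → Mt := ![1, !![e 0, e 4, e 5; e 0, e 4, e 7; e 1, e 0, e 0],
  !![e 5, e 6, e 2; e 7, e 6, e 2; e 0, e 4, e 5], !![e 2, e 8, e 2; e 2, e 6, e 5; e 5, e 6, e 2],
  !![e 2, e 2, e 8; e 5, e 3, e 3; e 2, e 8, e 2], !![e 8, e 4, e 0; e 3, e 3, e 7; e 2, e 2, e 8],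
  !![e 0, e 0, e 1; e 7, e 7, e 0; e 8, e 4, e 0]]
/-- the second root subgroup -/
def YM : Fin 7 → Mt := ![1, !![e 2, e 5, e 2; e 2, e 2, e 5; e 8, e 6, e 6],
  !![e 0, e 8, e 7; e 1, e 0, e 0; e 0, e 4, e 7], !![e 5, e 0, e 7; e 2, e 5, e 2; e 6, e 4, e 6],
  !![e 8, e 2, e 3; e 0, e 8, e 7; e 4, e 2, e 3], !![e 0, e 1, e 0; e 5, e 0, e 7; e 4, e 0, e 4],
  !![e 2, e 2, e 5; e 8, e 2, e 3; e 2, e 8, e 3]]

instance : Fact (Nat.Prime 7) := ⟨Nat.prime_seven⟩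

theorem l27 : ∃ φ : PSL(2, ZMod 7) →* U, Function.Injective φ := by
  choose X hX using fun t : ZMod 7 => ex (XM t) (by revert t; decide +kernel)
  choose Y hY using fun t : ZMod 7 => ex (YM t) (by revert t; decide +kernel)
  have k : ∀ t s u : ZMod 7, t * s = 1 → XM t * YM (-s) * XM t * XM u = YM (-(s ^ 2 * u)) * (XM t * YM (-s) * XM t) := by
    decide +kernel
  obtain ⟨φ, h1, h2⟩ := H11.R1.exists_hom (X := X) (Y := Y) ⟨fun s t => ρ_inj (by
    simp only [map_mul, hX]; revert s t; decide +kernel), fun s t => ρ_inj (by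
    simp only [map_mul, hY]; revert s t; decide +kernel), fun t ht u => mul_inv_eq_iff_eq_mul.2 (ρ_inj (by
    simp only [map_mul, hX, hY]; exact k t _ u (mul_inv_cancel₀ ht)))⟩
  have hc : center SL(2, ZMod 7) ≤ φ.ker := fun A hA => by
    obtain ⟨r, hr, e⟩ := Matrix.SpecialLinearGroup.mem_center_iff.1 hA
    have : ∀ r : ZMod 7, r ^ Fintype.card (Fin 2) = 1 → scalar (Fin 2) r = (1 : SL(2, ZMod 7)).1 ∨
      scalar (Fin 2) r = ((x 1 * y 6 * x 1) ^ 2 : SL(2, ZMod 7)).1 := by decide +kernel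
    rcases this r hr with h | h <;> rw [show A = _ from Subtype.ext (e.symm.trans h)]
    · exact one_mem _
    · refine ρ_inj ?_
      simp only [map_mul, map_pow, h1, h2, hX, hY, map_one]; decide +kernel
  refine ⟨QuotientGroup.lift _ φ hc, (MonoidHom.ker_eq_bot_iff _).1
    (((H11.psl2_simple (F := ZMod 7) (by simp)).eq_bot_or_eq_top_of_normal _ inferInstance).resolve_right fun h => ?_)⟩
  have : φ (x 1) = 1 := (h.ge (mem_top (QuotientGroup.mk (x 1))) :)
  rw [h1] at this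
  have := (hX 1).symm.trans ((congrArg ρ this).trans (map_one ρ))
  revert this; decide +kernel

end H27.DG.F9
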