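/-
S5161 (components of the 2-fusion system of a group with known components): interface. Paper proofs: notes/FK.md.
-/
import Cfsg.Agent.H25.SimpG
import Cfsg.Prelude.Def_Classification2
import Cfsg.Prelude.Def_FusionComponents

set_option autoImplicit false
set_option linter.unusedSectionVars false

namespace H27.FK
open Cfsg Subgroup H25 Function
open scoped commutatorElement

/-- the 2-fusion system of `G` is simple -/
def SF (G : Type*) [Group G] : Prop := ∀ S : Sylow 2 G, (groupFusionSystem (S : Subgroup G)).IsSimple 2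
/-- the 2-fusion system of `G` is constrained -/
def CF (G : Type*) [Group G] : Prop := ∀ S : Sylow 2 G, (groupFusionSystem (S : Subgroup G)).IsConstrained 2

section Cl
variable {G : Type*} [Group G] {S T R : Subgroup G} {x y g : G}

/-- the conjugates of the elements of `T` -/
def Cl (T : Subgroup G) : Set G := {x | ∃ y ∈ T, IsConj y x}

theorem cl_of (h : x ∈ T) : x ∈ Cl T := ⟨x, h, .refl x⟩
theorem cl_one : (1 : G) ∈ Cl T := cl_of (one_mem T)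
theorem cl_isConj (h : x ∈ Cl T) (e : IsConj x y) : y ∈ Cl T := let ⟨z, a, b⟩ := h; ⟨z, a, b.trans e⟩
theorem cl_conj (h : x ∈ Cl T) (g : G) : g * x * g⁻¹ ∈ Cl T := cl_isConj h (isConj_iff.2 ⟨g, rfl⟩)
theorem cl_conj' (h : x ∈ Cl T) (g : G) : g⁻¹ * x * g ∈ Cl T := by simpa using cl_conj h g⁻¹
theorem cl_pow (h : x ∈ Cl T) (n : ℕ) : x ^ n ∈ Cl T := let ⟨z, a, b⟩ := h; ⟨z ^ n, pow_mem a n, b.pow n⟩
theorem cl_inv (h : x ∈ Cl T) : x⁻¹ ∈ Cl T := by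
  obtain ⟨z, a, b⟩ := h
  obtain ⟨c, rfl⟩ := isConj_iff.1 b
  exact ⟨z⁻¹, inv_mem a, isConj_iff.2 ⟨c, by group⟩⟩
theorem cl_mem (h : SCl S T) (hx : x ∈ Cl T) (hs : x ∈ S) : x ∈ T := let ⟨_, a, b⟩ := hx; h.mem_of_isConj a hs b

variable [Finite G] {S : Sylow 2 G}

theorem exists_cj_le (S : Sylow 2 G) (hR : IsPGroup 2 R) : ∃ g : G, ∀ x ∈ R, g * x * g⁻¹ ∈ S := by
  obtain ⟨P, hP⟩ := hR.exists_le_sylow
  obtain ⟨g, rfl⟩ := MulAction.exists_smul_eq G P S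
  exact ⟨g, fun x hx => ⟨x, hP hx, rfl⟩⟩

/-- `Cl T` is closed under products inside 2-subgroups -/
theorem cl_mul (h : SCl S T) (hR : IsPGroup 2 R) (a : x ∈ R) (b : y ∈ R) (hx : x ∈ Cl T) (hy : y ∈ Cl T) : x * y ∈ Cl T := by
  obtain ⟨g, k⟩ := exists_cj_le S hR
  simpa [mul_assoc] using cl_conj' (cl_of (mul_mem (cl_mem h (cl_conj hx g) (k x a)) (cl_mem h (cl_conj hy g) (k y b)))) g

theorem cl_comm (h : SCl S T) (hR : IsPGroup 2 R) (a : x ∈ R) (b : y ∈ R) (hx : x ∈ Cl T) : ⁅x, y⁆ ∈ Cl T := by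
  simpa [commutatorElement_def, mul_assoc] using
    cl_mul h hR a (mul_mem (mul_mem b (inv_mem a)) (inv_mem b)) hx (cl_conj (cl_inv hx) y)

theorem cl_comm' (h : SCl S T) (hR : IsPGroup 2 R) (a : x ∈ R) (b : y ∈ R) (hy : y ∈ Cl T) : ⁅x, y⁆ ∈ Cl T :=
  commutatorElement_inv y x ▸ cl_inv (cl_comm h hR b a hy)

theorem cl_pel (h : SCl S T) (hx : x ∈ Cl T) : ∃ k, x ^ 2 ^ k = 1 := by
  obtain ⟨z, a, b⟩ := hx
  obtain ⟨k, e⟩ := S.isPGroup' ⟨z, h.1 a⟩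
  exact ⟨k, isConj_one_right.1 (by simpa [show z ^ 2 ^ k = 1 from congrArg Subtype.val e] using b.pow (2 ^ k))⟩

omit [Finite G] in
theorem pg_comm (c : Commute x y) {a b : ℕ} (hx : x ^ 2 ^ a = 1) (hy : y ^ 2 ^ b = 1) : IsPGroup 2 (closure {x, y}) := by
  rintro ⟨z, hz⟩
  refine ⟨a + b, Subtype.ext ?_⟩
  suffices k : z ^ 2 ^ (a + b) = 1 ∧ Commute z x ∧ Commute z y ∧ ∀ w ∈ closure {x, y}, Commute z w from k.1
  have cw : ∀ {z}, Commute z x → Commute z y → ∀ w ∈ closure {x, y}, Commute z w := fun {z} h1 h2 w hw =>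
    ((closure_le (centralizer {z})).2 (by rintro _ (rfl | rfl) _ rfl; exacts [h1, h2]) hw z rfl)
  induction hz using closure_induction with
  | mem z hz =>
    rcases hz with rfl | rfl
    · exact ⟨by rw [pow_add, pow_mul, hx, one_pow], .refl _, c, cw (.refl _) c⟩
    · exact ⟨by rw [pow_add, mul_comm, pow_mul, hy, one_pow], c.symm, .refl _, cw c.symm (.refl _)⟩
  | one => simp
  | mul u v _ hv h1 h2 => exact ⟨by rw [(h1.2.2.2 v hv).mul_pow, h1.1, h2.1, one_mul], h1.2.1.mul_left h2.2.1,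
      h1.2.2.1.mul_left h2.2.2.1, fun w hw => (h1.2.2.2 w hw).mul_left (h2.2.2.2 w hw)⟩
  | inv u _ h => exact ⟨by rw [inv_pow, h.1, inv_one], h.2.1.inv_left, h.2.2.1.inv_left, fun w hw => (h.2.2.2 w hw).inv_left⟩

theorem cl_mul_comm (h : SCl S T) (c : Commute x y) (hx : x ∈ Cl T) (hy : y ∈ Cl T) : x * y ∈ Cl T :=
  let ⟨_, a⟩ := cl_pel h hx; let ⟨_, b⟩ := cl_pel h hy
  cl_mul h (pg_comm c a b) (subset_closure (.inl rfl)) (subset_closure (.inr rfl)) hx hy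

theorem pg_zp {n : ℕ} (h : x ^ 2 ^ n = 1) : IsPGroup 2 (zpowers x) := by
  rintro ⟨_, i, rfl⟩
  exact ⟨n, Subtype.ext (by simp only [SubgroupClass.coe_pow, OneMemClass.coe_one]; rw [← zpow_natCast, ← zpow_mul, mul_comm,
    zpow_mul, zpow_natCast, h, one_zpow])⟩

theorem pg_nz (hR : IsPGroup 2 R) (hy : y ∈ nz R) {n : ℕ} (h : y ^ 2 ^ n = 1) : IsPGroup 2 (R ⊔ zpowers y : Subgroup G) := by
  rw [sup_comm]; exact isPGroup_sup_of_le_nz (pg_zp h) hR (zpowers_le.2 hy)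

theorem cl_nz (h : SCl S T) (hR : IsPGroup 2 R) (hy : y ∈ nz R) (a : x ∈ R) (b : y ∈ Cl T) :
    ⁅y, x⁆ ∈ Cl T ∧ (x ∈ Cl T → y * x ∈ Cl T ∧ x * y ∈ Cl T) :=
  let ⟨_, e⟩ := cl_pel h b
  have k := pg_nz hR hy e
  have u := mem_sup_left (T := zpowers y) a
  have v := mem_sup_right (S := R) (mem_zpowers y)
  ⟨cl_comm h k v u b, fun c => ⟨cl_mul h k v u b c, cl_mul h k u v c b⟩⟩

theorem pg_dih (hx : x * x = 1) (hy : y * y = 1) {n : ℕ} (h : (x * y) ^ 2 ^ n = 1) :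
    IsPGroup 2 (zpowers (x * y) ⊔ zpowers y : Subgroup G) := by
  have e : y * (x * y) * y⁻¹ = (x * y)⁻¹ := by
    rw [mul_inv_rev, inv_eq_of_mul_eq_one_right hx, inv_eq_of_mul_eq_one_right hy, mul_assoc, mul_assoc, hy, mul_one]
  refine pg_nz (pg_zp h) (mem_nz_of_conj_mem ?_) (n := 1) (by rw [pow_one, sq, hy])
  rintro _ ⟨i, rfl⟩
  exact ⟨-i, by simp only [← conj_zpow, e, inv_zpow, zpow_neg]⟩

/-- two involutions whose product is a 2-element -/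
theorem cl_dih (h : SCl S T) (hx : x * x = 1) (hy : y * y = 1) {n : ℕ} (e : (x * y) ^ 2 ^ n = 1) (a : x ∈ Cl T) (b : y ∈ Cl T) :
    x * y ∈ Cl T :=
  have v := mem_sup_right (S := zpowers (x * y)) (mem_zpowers y)
  cl_mul h (pg_dih hx hy e) (by simpa using mul_mem (mem_sup_left (mem_zpowers (x * y))) (inv_mem v)) v a b

end Cl

section Gd
variable {H G : Type*} [Group H] [Group G] {f : H →* G} {P Q : Subgroup H} {g k : H}

/-- conjugation by `f g` on `f P` belongs to every normal subsystem on `f S` of the fusion system of `G` -/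
def Gd (f : H →* G) (S P : Subgroup H) (g : H) : Prop :=
  ∀ E : FS G, E.Nml (FS.ofSub ⊤ (S.map f)) 2 → E.S = S.map f → E.T (P.map f) (f g)

theorem map_cj (f : H →* G) (g : H) (P : Subgroup H) : (cj g P).map f = cj (f g) (P.map f) := by
  rw [cj_def, cj_def, map_map, map_map]
  congr 1
  ext x
  simp

theorem Gd.mono {S : Subgroup H} (h : Gd f S P g) (e : Q ≤ P) : Gd f S Q g := fun E a b => (h E a b).mono (map_mono e)
theorem Gd.mul {S : Subgroup H} (h : Gd f S P g) (h' : Gd f S Q k) (e : cj g P ≤ Q) : Gd f S P (k * g) := fun E a b =>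
  map_mul f k g ▸ (h E a b).mul' (h' E a b) (map_cj f g P ▸ map_mono e)
theorem Gd.inv {S : Subgroup H} (h : Gd f S P g) (e : Q ≤ cj g P) : Gd f S Q g⁻¹ := fun E a b =>
  map_inv f g ▸ (h E a b).inv' (map_cj f g P ▸ map_mono e)
theorem gd_mem {S : Subgroup H} (hP : P ≤ S) (hg : g ∈ S) : Gd f S P g := fun E _ b =>
  E.of_mem (b ▸ map_mono hP) (b ▸ mem_map_of_mem f hg)
theorem gd_cz {S : Subgroup H} (hP : P ≤ S) (hg : g ∈ cz P) : Gd f S P g := fun E _ b =>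
  FS.of_cz (b ▸ map_mono hP) (by rintro _ ⟨x, hx, rfl⟩; rw [← map_mul, ← map_mul, hg x hx])

variable [Finite G]

/-- 2-elements of `N(P)` -/
theorem gd_two {S : Subgroup H} (hP : P ≤ S) (hg : g ∈ nz P) {n : ℕ} (h : g ^ 2 ^ n = 1) : Gd f S P g := fun E a b => by
  have e : cj (f g) (P.map f) = P.map f := by rw [← map_cj, mem_nz.1 hg]
  obtain ⟨i, -, hi⟩ := (Nat.dvd_prime_pow Nat.prime_two).1 ((orderOf_map_dvd f g).trans (orderOf_dvd_of_pow_eq_one h))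
  exact FS.T_of_mem_A (b ▸ map_mono hP) (a.wn.pgen_le b (map_mono hP) (mem_pgen
    ((FS.ofSub_top_T.2 ⟨map_mono hP, e.le.trans (map_mono hP)⟩).mem_A' e) hi))

/-- extension from a subgroup which is self-centralizing modulo the kernel -/
theorem Gd.ext {S : Subgroup H} (h : Gd f S P g) (hf : Surjective f) (h1 : P ≤ Q) (h2 : Q ≤ S) (h3 : cj g Q ≤ S)
    (hc : ∀ c, (∀ x ∈ P, ⁅c, x⁆ ∈ f.ker) → c ∈ P ⊔ f.ker) : Gd f S Q g := fun E a b => by
  have c0 : cz (P.map f) ≤ P.map f := fun c hc' => by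
    obtain ⟨c, rfl⟩ := hf c
    have := mem_map_of_mem f (hc c fun x hx => by
      rw [MonoidHom.mem_ker, map_commutatorElement, commutatorElement_eq_one_iff_mul_comm]
      exact (hc' _ (mem_map_of_mem f hx)).symm)
    rwa [Subgroup.map_sup, (Subgroup.map_eq_bot_iff f.ker).2 le_rfl, sup_bot_eq] at this
  refine a.satF.T_of_centric a.sat a.le b ⟨map_mono (h1.trans h2), fun u _ => inf_le_right.trans ?_⟩ (map_mono h1)
    (FS.ofSub_top_T.2 ⟨map_mono h2, map_cj f g Q ▸ map_mono h3⟩) (h E a b)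
  rw [← cj_cz]
  exact cj_mono u c0

end Gd

/-! ### Kit (proved by helper27 in `H27/FK1`, `H27/FK2`; use as hypotheses until then) -/

/-- transport -/
def TR : Prop := ∀ (G G' : Type) [Group G] [Group G'] [Finite G], (G ≃* G') → (SF G → SF G') ∧ (CF G → CF G')

/-- control of fusion by `N(S)` (abelian or TI Sylow subgroups) -/
def CTRL : Prop := ∀ (G : Type) [Group G] [Finite G] (S : Sylow 2 G),
  ((∀ x ∈ S, ∀ y ∈ S, x * y = y * x) ∨ ∀ g : G, ∀ x ∈ S, x ≠ 1 → g * x * g⁻¹ ∈ S → g ∈ nz S.1) → CF G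

/-- the criterion in a central extension -/
def CORE : Prop := ∀ (H G : Type) [Group H] [Group G] [Finite H] (f : H →* G) (S : Sylow 2 H), Surjective f → f.ker = center H →
  ¬ S.1 ≤ center H → (∀ T, SCl S T → ¬ T ≤ center H → S.1 ≤ T) → (∀ x ∈ nz S.1, Odd (orderOf x) → Gd f S S x) → SF G

/-- a Sylow subgroup inside `N` -/
def SYL : Prop := ∀ (H : Type) [Group H] [Finite H] (N R : Subgroup H), IsPGroup 2 R → R ≤ N →
  (∀ X : Subgroup H, IsPGroup 2 X → R ≤ X → X ≤ N → nz X ≤ N) → ∃ S : Sylow 2 H, R ≤ S ∧ S.1 ≤ N ∧ nz S.1 ≤ N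

/-- symmetric groups, strongly closed subgroups -/
def WEY : Prop := ∀ (H ι : Type) [Group H] [Finite H] [Fintype ι] [DecidableEq ι] (N T : Subgroup H) (π : N →* Equiv.Perm ι)
  (S : Sylow 2 H), S.1 ≤ N → SCl S T → (∀ i j, i ≠ j → ∃ y : N, y.1 ∈ Cl T ∧ π y = Equiv.swap i j) →
  ∀ s : N, s.1 ∈ S → ∃ t : N, t.1 ∈ T ∧ π t = π s

/-- symmetric groups, Sylow 2-subgroups are self-normalizing -/
def SN : Prop := ∀ (H ι : Type) [Group H] [Finite H] [Fintype ι] [DecidableEq ι] (N : Subgroup H) (π : N →* Equiv.Perm ι)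
  (S : Sylow 2 H), S.1 ≤ N → Surjective π → ∀ x : N, x.1 ∈ nz S.1 → Odd (orderOf x.1) → π x = 1

/-- enlarging a strongly closed subgroup -/
def SUP : Prop := ∀ (H : Type) [Group H] [Finite H] (S : Sylow 2 H) (T D : Subgroup H), SCl S T → nz T ≤ nz D →
  SCl S (T ⊔ S.1 ⊓ D)

/-- the master lemma for a block decomposition -/
def MB : Prop := ∀ (H G ι : Type) [Group H] [Group G] [Finite H] [Fintype ι] [DecidableEq ι] (f : H →* G) (N D R R' : Subgroup H)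
  (π : N →* Equiv.Perm ι), Surjective f → f.ker = center H → commutator H = ⊤ → IsPGroup 2 R → R' ≤ R → R ≤ N → ¬ R ≤ center H →
  (∀ X : Subgroup H, IsPGroup 2 X → R' ≤ X → X ≤ N → nz X ≤ N) → N ≤ nz D → (∀ a b : N, π a = 1 → π b = 1 → ⁅a.1, b.1⁆ ∈ D) →
  (∀ (S : Sylow 2 H) T, R ≤ S → S.1 ≤ N → SCl S T → ¬ T ≤ center H →
    R' ≤ T ∧ (∀ i j, i ≠ j → ∃ y : N, y.1 ∈ Cl T ∧ π y = Equiv.swap i j) ∧ ⁅S.1 ⊓ D, S.1 ⊓ D⁆ ≤ T) →
  (∀ (S : Sylow 2 H) (x : N), R ≤ S → S.1 ≤ N → x.1 ∈ nz S.1 → Odd (orderOf x.1) → π x = 1 → x.1 ∈ cz S.1) → SF G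

/-- no nontrivial strongly closed subgroup of class at most two -/
def NC2 : Prop := ∀ (G : Type) [Group G] [Finite G] [IsSimpleGroup G] (S : Sylow 2 G), 3 ∣ Nat.card G →
  ⁅⁅S.1, S.1⁆, S.1⁆ ≠ ⊥ → ∀ T, SCl S.1 T → ⁅⁅T, T⁆, T⁆ = ⊥ → T = ⊥

/-- one 2-local subgroup `M = N(V)` of characteristic 2 -/
structure LX {G : Type*} [Group G] (S V Q : Subgroup G) : Prop where
  VQ : V ≤ Q
  QS : Q ≤ S
  NS : nz S ≤ nz V
  nQ : nz V ≤ nz Q
  cQ : nz V ⊓ cz Q ≤ Q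
  cl : ⁅⁅Q, Q⁆, Q⁆ = ⊥
  min : ∀ W, W ≤ Q ⊓ cz Q → nz V ≤ nz W → W ≠ ⊥ → V ≤ W
  nor : ∀ N, Q ≤ N → N ≤ nz V → nz V ≤ nz N → S ⊓ N ≤ Q ∨ resid 2 (nz V) ≤ N
  der : ⁅nz V, nz V⁆ ≤ V ⊔ resid 2 (nz V)
  nab : ¬ ⁅S, S⁆ ≤ Q

def LXT : Prop := ∀ (G : Type) [Group G] [Finite G] [IsSimpleGroup G] (S : Sylow 2 G) (V Q : Subgroup G), 3 ∣ Nat.card G →
  LX S.1 V Q → SF G

/-- `LX` when `M/Q` is simple: `nor`, `der`, `QS` are automatic -/
def LXS : Prop := ∀ (G L : Type) [Group G] [Finite G] [IsSimpleGroup G] [Group L] [IsSimpleGroup L] (S : Sylow 2 G)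
  (V Q : Subgroup G) (π : nz V →* L), 3 ∣ Nat.card G → Surjective π → π.ker = Q.subgroupOf (nz V) → V ≤ Q → Q ≤ nz V →
  IsPGroup 2 Q → nz S.1 ≤ nz V → nz V ⊓ cz Q ≤ Q → ⁅Q, Q⁆ ≤ V → V ≤ cz Q →
  (∀ W, W ≤ Q ⊓ cz Q → nz V ≤ nz W → W ≠ ⊥ → V ≤ W) → (∀ P : Sylow 2 L, ¬ IsMulCommutative P.1) → SF G

/-- a 2-central involution `z` with `Z(Q) ≤ ⟨z⟩`: a Sylow subgroup with `NS`, `min` -/
def ZC : Prop := ∀ (G : Type) [Group G] [Finite G] (z : G) (Q : Subgroup G), orderOf z = 2 → Odd (centralizer {z}).index →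
  IsPGroup 2 Q → Q ≤ centralizer {z} → centralizer {z} ≤ nz Q → centralizer {z} ⊓ cz Q ≤ Q →
  (∀ x ∈ Q ⊓ cz Q, x * x = 1 → Odd (centralizer {x}).index → x ∈ zpowers z) →
  nz (zpowers z) = centralizer {z} ∧ (∃ S : Sylow 2 G, Q ≤ S ∧ nz S.1 ≤ nz (zpowers z)) ∧
    ∀ W, W ≤ Q ⊓ cz Q → nz (zpowers z) ≤ nz W → W ≠ ⊥ → zpowers z ≤ W

/-- an element of prime order `r` acting irreducibly on `V` of order `2 ^ d` -/
def IRR : Prop := ∀ (G : Type) [Group G] [Finite G] (V W : Subgroup G) (x : G) (r d : ℕ), r.Prime → r ≠ 2 → x ^ r = 1 →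
  Nat.card V = 2 ^ d → (∀ j, 0 < j → j < d → ¬ r ∣ 2 ^ j - 1) → x ∈ nz V → x ∉ cz V →
  x ∈ nz W → V ⊓ W ≠ ⊥ → V ≤ W

/-- all of the kit -/
structure Kit : Prop where
  tr : TR
  ctrl : CTRL
  core : CORE
  syl : SYL
  wey : WEY
  sn : SN
  sup : SUP
  mb : MB
  lx : LXT
  lxs : LXS
  zc : ZC
  irr : IRR

/-! ### Chunks: prove `theorem xx (k : Kit) : XX` -/

/-- Goldschmidt groups -/
def GO : Prop :=
  (∀ (F : Type) [Field F] [Fintype F], ¬ (Fintype.card F % 2 = 1 ∧ 16 ∣ Fintype.card F ^ 2 - 1) →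
    CF (Matrix.ProjectiveSpecialLinearGroup (Fin 2) F)) ∧ CF (alternatingGroup (Fin 5)) ∧
  (∀ (F : Type) [Field F] [Fintype F] (q : ℕ), Fintype.card F = q ^ 2 → Even q → q ≠ 2 → CF (PSU 3 F q)) ∧
  (∀ (G : Type) [Group G] [Finite G], Lie.IsoSuzuki G ∨ Lie.IsoRee G ∨ Spor.IsoJ1 G → CF G)

/-- linear groups, odd characteristic -/
def SLo : Prop := ∀ (F : Type) [Field F] [Fintype F] (n : ℕ), Odd (Fintype.card F) → 4 ≤ n →
  SF (Matrix.ProjectiveSpecialLinearGroup (Fin n) F)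
/-- unitary groups, odd characteristic -/
def SUo : Prop := ∀ (F : Type) [Field F] [Fintype F] (n q : ℕ), Fintype.card F = q ^ 2 → Odd q → 4 ≤ n → SF (PSU n F q)
/-- symplectic groups, odd characteristic -/
def SPo : Prop := ∀ (F : Type) [Field F] [Fintype F] (m : ℕ), Odd (Fintype.card F) → 3 ≤ m → SF (PSp m F)
/-- orthogonal groups, odd characteristic: the diagonal model -/
def OMd : Prop := ∀ (F : Type) [Field F] [Fintype F] (n : ℕ) (c d : F), Odd (Fintype.card F) → 6 ≤ n → c ≠ 0 →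
  (d = 1 ∨ Odd n ∧ ¬ IsSquare d) → SF (POmega F fun v : Option (Fin n) → F => c * (∑ i, v (some i) ^ 2 + d * v none ^ 2))
/-- orthogonal groups, odd characteristic -/
def OMo : Prop := ∀ (F : Type) [Field F] [Fintype F] (m : ℕ), Odd (Fintype.card F) → 3 ≤ m →
  SF (POmega F (quadFormOdd m F)) ∧ SF (POmega F (quadFormPlus (m + 1) F)) ∧ ∀ a b : F,
    (∀ z₁ z₂ : F, z₁ ^ 2 + a * z₁ * z₂ + b * z₂ ^ 2 = 0 → z₁ = 0 ∧ z₂ = 0) → SF (POmega F (quadFormMinus m F a b))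
/-- reduction to the diagonal model -/
def OMt : Prop := OMd → OMo
/-- orthogonal groups, characteristic 2 -/
def OMe : Prop := ∀ (F : Type) [Field F] [Fintype F] [CharP F 2] (m : ℕ), 3 ≤ m →
  SF (POmega F (quadFormPlus (m + 1) F)) ∧ ∀ a b : F,
    (∀ z₁ z₂ : F, z₁ ^ 2 + a * z₁ * z₂ + b * z₂ ^ 2 = 0 → z₁ = 0 ∧ z₂ = 0) → SF (POmega F (quadFormMinus m F a b))
/-- `E₆`, `E₇`, `E₈`, characteristic 2 -/
def Ee : Prop := ∀ (F : Type) [Field F] [Fintype F] [CharP F 2],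
  SF (Lie.chevE6.group F) ∧ SF (Lie.chevE7.group F) ∧ SF (Lie.chevE8.group F)
/-- `G₂`, `F₄`, characteristic 2 -/
def GFe : Prop := ∀ (F : Type) [Field F] [Fintype F] [CharP F 2],
  (3 ≤ Fintype.card F → SF (Lie.chevG2.group F)) ∧ SF (Lie.chevF4.group F)
/-- `²E₆`, `³D₄`, characteristic 2 -/
def TWe : Prop := ∀ (F : Type) [Field F] [Fintype F] [CharP F 2] (q : ℕ), IsPrimePow q →
  (Fintype.card F = q ^ 2 → SF (Lie.twistedE6 F q)) ∧ (Fintype.card F = q ^ 3 → SF (Lie.twistedD4 F q))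
/-- `²F₄` and the Tits group -/
def RF : Prop := (∀ (F : Type) [Field F] [Fintype F] (m : ℕ), 1 ≤ m → Fintype.card F = 2 ^ (2 * m + 1) →
  SF (Lie.twistedF4 F (2 ^ m))) ∧ SF Lie.TitsGroup
/-- exceptional groups, odd characteristic -/
def EXo : Prop := ∀ (F : Type) [Field F] [Fintype F], Odd (Fintype.card F) →
  (SF (Lie.chevG2.group F) ∧ SF (Lie.chevF4.group F) ∧ SF (Lie.chevE6.group F) ∧ SF (Lie.chevE7.group F) ∧
    SF (Lie.chevE8.group F)) ∧ ∀ q : ℕ, IsPrimePow q →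
  (Fintype.card F = q ^ 2 → SF (Lie.twistedE6 F q)) ∧ (Fintype.card F = q ^ 3 → SF (Lie.twistedD4 F q))
/-- the fact about known simple groups -/
def KF.{u} : Prop := ∀ (L : Type u) [Group L] [Finite L], IsKnownSimple' L → SF L ∨ CF L

/-- the reduction -/
def RED.{u} : Prop := KF.{u} → ∀ (G : Type u) [Group G] [Finite G], oddCore G = ⊥ →
  (∀ K : Subgroup G, IsComponent K → IsKnownSimple' (K ⧸ center K)) → ∀ (S : Sylow 2 G) (T : Subgroup G) (C : FusionSystem T),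
  C.IsComponentIn (groupFusionSystem (S : Subgroup G)) 2 → ∃ K : Subgroup G, IsComponent K ∧
    ∃ h : (S : Subgroup G) ⊓ K ≤ K, T = (S : Subgroup G) ⊓ K ∧
      ∀ P : Subgroup G, C.Hom P = (fusionSystemOfSubgroup K ((S : Subgroup G) ⊓ K) h).Hom P

end H27.FK
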