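import Cfsg.Agent.H27.MS2

/-! S5899, interface part 3: insoluble normalizers of `E₈`. Proof sketches: `notes/MS5899c.md`. -/

set_option autoImplicit false
set_option linter.unusedVariables false

namespace H27.MS
open Cfsg Subgroup H18 H17.GS H28.S H2.GW
open H19 hiding eq_bot_mono
open H28.NG hiding Hyp Uniq Ch
open H29.PU (bm)
open H9 (JJ MaxAb)

universe u
variable {G : Type u} [Group G]

/-- a bad local subgroup: `N/Q ≅ L₃(2)` acts naturally on `V` -/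
structure Bd (N Q T V : Subgroup G) : Prop extends Lc N Q T where
  sec : Sec N Q ⊥ V
  c8 : #V = 8

/-- point stabilizer and its radical -/
structure Pt (N Q V P R : Subgroup G) (v : G) : Prop where
  eP : P = N ⊓ C[v]
  eR : R = Oc {2} P
  QR : Q ≤ R
  cR : #R = 4 * #Q
  cP : #P = 6 * #R
  cm : ⁅V, R⁆ ≤ zpowers v
  ker : ∀ g ∈ P, g ∈ Cm (zpowers v) V → g ∈ R
  mx : ∀ X, P ≤ X → X ≤ N → X = P ∨ X = N
  irr : ∀ E, E ⊴ P → H19.PG 2 E → E ≤ Q ∨ E ⊔ Q = R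
  uni : ∀ X, X ≤ V → P ≤ N(X) → X = ⊥ ∨ X = zpowers v ∨ X = V
  tr : ∀ a ∈ V, ∀ b ∈ V, a ∉ zpowers v → b ∉ zpowers v → ∃ g ∈ P, g * a * g⁻¹ = b
  el : ∀ E, E ⊴ P → ⁅E, E⁆ ≤ V → (∀ e ∈ E, e * e ∈ V) → E ≤ Q

def BK : Prop := ∀ {G : Type u} [Group G] [Finite G] {N Q T V : Subgroup G}, Bd N Q T V →
  L7 N Q ∧ Abelem 2 V ∧ V < Q ∧ C(V) = Q ∧ N(V) = N ∧ #(V ⊓ C(T)) = 2 ∧
  (∀ a ∈ V, ∀ b ∈ V, a ≠ 1 → b ≠ 1 → ∃ n ∈ N, n * a * n⁻¹ = b) ∧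
  (∀ B, B ≤ N → Abelem 2 B → ⁅V, B⁆ ≤ C(B)) ∧
  ∀ v ∈ V, v ≠ 1 → ∃ P R, Pt N Q V P R v
def CP : Prop := ∀ {G : Type u} [Group G] [Finite G] {N Q T V R : Subgroup G}, Bd N Q T V → H19.PG 2 R → Q ≤ R →
  R ≤ N → ¬ N(R) ≤ N → ∃ g, H19.cj g V ≤ N ∧ V ≤ H19.cj g N ∧ ¬ H19.cj g V ≤ Q
def PU : Prop := ∀ {G : Type u} [Group G] [Finite G] {N Q T V : Subgroup G} {v : G}, Bd N Q T V → v ∈ V → v ≠ 1 →
  N(Oc {2} (N ⊓ C[v])) ≤ N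
def G2 : Prop := ∀ {G : Type u} [Group G] [Finite G] {N Q T V : Subgroup G} {v : G}, Bd N Q T V → v ∈ V → v ≠ 1 →
  Oc {2} C[v] ≤ Oc {2} (N ⊓ C[v]) ∧ V ≤ Oc {2} C[v] ∧ Kc V C[v] ≤ Q ∧ Abelem 2 (Kc V C[v])
def IC : Prop := ∀ {G : Type u} [Group G] [Finite G] {N Q T V N' Q' T' V' : Subgroup G}, Bd N Q T V →
  Bd N' Q' T' V' → V ⊓ V' ≠ ⊥ → V' ≤ Q
def NR : Prop := ∀ {G : Type u} [Group G] [Finite G] {N Q T V : Subgroup G}, Bd N Q T V → Syl 2 T ⊤ ∧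
  ∀ R, H19.PG 2 R → Q ≤ R → R ≤ N → N(R) ≤ N

/-- the centralizer of `Ω₁(Z(T))`, solvable and insoluble case -/
def CS : Prop := ∀ {G : Type u} [Group G] [Finite G] {N Q T V : Subgroup G} {p : G}, Bd N Q T V →
  Zs T = zpowers p → Sol C[p] → C[p] ≤ N
def CI : Prop := ∀ {G : Type u} [Group G] [Finite G] {N Q T V : Subgroup G} {p : G}, Bd N Q T V →
  Zs T = zpowers p → Sol C[p]
def CZ : Prop := ∀ {G : Type u} [Group G] [Finite G] {N Q T V : Subgroup G}, Bd N Q T V → #(Zs T) = 2 →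
  C(Zs T) ≤ N
/-- failure of factorization -/
def FK : Prop := ∀ {G : Type u} [Group G] [Finite G] {N Q T V : Subgroup G}, Bd N Q T V → JJ 2 T ≤ Q

/-- the weak form of `I3` -/
def I4 (G : Type u) [Group G] : Prop := ∀ N Q T V : Subgroup G, Bd N Q T V → bm 2 T ≤ Q ∧ #(Zs T) ≠ 2
def IW : Prop := ∀ {G : Type u} [Group G] [Finite G], Hy G → I4 G
def FIN : Prop := ∀ {G : Type u} [Group G] [Finite G], Hy G → ¬ I4 G

end H27.MS
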