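/-
Split BN-pairs of finite groups of fixed points, over an arbitrary field.
-/
import Cfsg.Agent.H8.LieTw
import Cfsg.Agent.H27.ID2

set_option autoImplicit false
set_option linter.unusedSectionVars false

namespace H27.ID

open H14 H14.RootSys H14.St H14.PreSt H14.St.Tw H8 H8.TwE

variable {ι κ : Type*} [Fintype κ] [DecidableEq κ] [Fintype ι] [DecidableEq ι] {R : RootSys ι κ}
  {C : Chev R} {K G : Type*} [Field K] [Group G] {S : St C K G} {T : S.Tw} {Γ : Type*} [Group Γ] {e : Γ →* G}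
  [Finite Γ] {p : ℕ} [Fact p.Prime] (h : TwE T e) (hU : IsPGroup p ((S.U {r | R.pos r}).comap e))
  (hH : ¬ p ∣ Nat.card (S.H.comap e))

/-- the split BN-pair -/
noncomputable def sb : SB p Γ κ where
  U := (S.U {r | R.pos r}).comap e
  H := S.H.comap e
  N := S.N.comap e
  s i := rep S e (R.w0 (T.orb i))
  X i := (T.Up (T.orb i)).comap e
  n0 := rep S e (R.w0 Set.univ)
  pU := hU
  pH := hH
  commH a ha b hb := h.inj (by rw [map_mul, map_mul]; exact h.hh.comm _ ha _ hb)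
  H_le_N := Subgroup.comap_mono H_le_N
  N_H n hn k hk := by simpa [Subgroup.mem_comap] using N_conj_mem_H (inv_mem hn) hk
  H_U k hk u hu := by simpa [Subgroup.mem_comap] using H_conj_mem_U (inv_mem hk) hu
  H_X i k hk u hu := ⟨by simpa using H_conj_mem_U (inv_mem hk) hu.1, h.fix _⟩
  s_mem i := NW.mem_N (h.s_NW i)
  s_sq i := mem_H_of_NW (by simpa using NW_mul (h.s_NW i) (h.s_NW i))
  n0_mem := NW.mem_N (h.rep_NW w0_univ_mem)
  X_le i := Subgroup.comap_mono (Up_le_U _)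
  X_ne i a := by
    obtain ⟨u, hu, hne⟩ := h.ex.exists_Up i
    obtain ⟨y, rfl⟩ := (h.big i).1 hu
    exact hne (by rw [Subgroup.mem_bot.1 (a.le hu), map_one])
  XV i u hu := by
    obtain ⟨a, ha, b, hb, e1⟩ := exists_mul closed_pos (htf κ) (fun _ => htf_pos) {r | R.InJ (T.orb i) r} hu
    have hJ : ∀ j, T.π j ∈ T.orb i ↔ j ∈ T.orb i := fun _ => π_mem_orb
    obtain ⟨h1, -⟩ := fix_mul (T := T) (f := htf κ) (closed_pos.inter (closed_inJ (T.orb i))) (closed_rad (T.orb i))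
      (fun _ h => htf_pos h.1) (fun _ h => htf_pos h.1) (Set.disjoint_left.2 fun _ h h' => h'.2 h.2)
      (fun r h => And.intro ((T.pos_ρ r).2 h.1) ((inJ_ρ_iff hJ r).2 h.2))
      (fun r h => And.intro ((T.pos_ρ r).2 h.1) ((inJ_ρ_iff hJ r).not.2 h.2)) ha hb (e1 ▸ h.fix u)
    obtain ⟨y, rfl⟩ := (h.big i).1 ⟨ha, h1⟩
    have e2 : e (y⁻¹ * u) = b := by rw [map_mul, e1]; simp
    exact ⟨y, ⟨ha, h1⟩, (h.mem_rad (e2 ▸ U_mono (fun _ h => h.1) hb) (h.s_NW i)).2 (e2 ▸ hb)⟩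
  U_V i u hu v hv a := by
    have h1 := (h.mem_rad hv (h.s_NW i)).1 a
    have h2 := (Subgroup.mem_normalizer_iff.1 (P_le_normalizer (T.orb i) (St.B_le_P _ (U_le_B (inv_mem hu)))) _).1 h1
    refine (h.mem_rad (mul_mem (mul_mem (inv_mem hu) hv) hu : u⁻¹ * v * u ∈ (S.U {r | R.pos r}).comap e)
      (h.s_NW i)).2 ?_
    simpa using h2
  rank1 i y hy hne := by
    have h0 := h.s_NW i
    generalize rep S e (R.w0 (T.orb i)) = s at h0
    have h1 := conj_Up (NW_w0_inv h0) (inv_mem (h.fix s)) hy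
    obtain ⟨a, ha, n, -, hn, b, hb, e1⟩ := exists_n h1 fun a => hne (h.inj (by
      simpa [mul_assoc] using congrArg (fun x => e s * x * (e s)⁻¹) a))
    obtain ⟨a, rfl⟩ := (h.big i).1 ha
    obtain ⟨b, rfl⟩ := (h.big i).1 hb
    refine ⟨a, ha, s⁻¹ * (a⁻¹ * (s⁻¹ * y * s) * b⁻¹), ?_, b, hb, by group⟩
    have := NW.inv_mul_mem_H h0 hn
    rw [show n = (e a)⁻¹ * ((e s)⁻¹ * e y * (e s)⁻¹⁻¹) * (e b)⁻¹ by rw [e1]; group] at this
    simpa [Subgroup.mem_comap] using this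
  bruhat g := by
    obtain ⟨w, hw⟩ := exists_cell (T.mem_top (e g))
    obtain ⟨a, ha, n, -, hn, b, hb, e1⟩ := Tw.bruhat hw (h.fix g)
    obtain ⟨a, rfl⟩ := h.liftU ha
    obtain ⟨b, rfl⟩ := h.liftU ⟨U_mono (fun _ h => h.1) hb.1, hb.2⟩
    refine ⟨a, ha.1, a⁻¹ * g * b⁻¹, ?_, b, U_mono (fun _ h => h.1) hb.1, by group⟩
    have := NW.mem_N hn
    rw [show n = (e a)⁻¹ * e g * (e b)⁻¹ by rw [e1]; group] at this
    simpa [Subgroup.mem_comap] using this
  opp u hu a := by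
    have := U_mono (B := ∅) (fun r hr => (R.pos_w0_univ r).1 (by simpa using hr.2) hr.1)
      (mem_U_of_conj T.sep (h.rep_NW w0_univ_mem) hu (by simpa [Subgroup.mem_comap] using a))
    exact h.inj (by simpa using this)
  dich n hn i := by
    obtain ⟨w, hw⟩ := exists_NW_of_N hn
    rw [h.pos_iff hw, h.pos_iff (NW_mul (h.s_NW i) hw), mul_inv_rev, w0_inv]
    exact (em _).imp_right fun a => pos_mul_w0 (W1_Aut (h.W1 hw)) (neg_orb (h.W1 hw) a) i (T.mem_orb i)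
  rdich n hn i := by
    obtain ⟨w, hw⟩ := exists_NW_of_N hn
    rw [h.pos_iff hw, h.pos_iff (NW_mul hw (h.rep_NW w0_univ_mem)), mul_inv_rev, w0_inv, Equiv.Perm.mul_apply,
      pos_w0_univ]
    exact em _
  one n hn a := by
    obtain ⟨w, hw⟩ := exists_NW_of_N hn
    have := R.eq_one_of_pos_simple (inv_mem (NW.mem_W hw)) fun i => (h.pos_iff hw).1 (a i)
    rw [inv_eq_one] at this
    exact mem_H_of_NW (this ▸ hw)
  inter n hn i a u hu b := by
    obtain ⟨w, hw⟩ := exists_NW_of_N hn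
    rw [h.pos_iff hw] at a
    refine (h.mem_rad hu (h.s_NW i)).2 (U_mono (fun r hr => And.intro hr.1 fun c => a ((tw_pos_iff (h.W1 hw) hr.1 c).1 hr.2))
      (mem_U_of_conj T.sep hw hu (by simpa [Subgroup.mem_comap] using b)))
  root n hn i j a := by
    obtain ⟨w, hw⟩ := exists_NW_of_N hn
    rw [h.pos_iff hw] at a
    rw [h.pos_iff (NW_mul hw (h.s_NW i)), mul_inv_rev, w0_inv]
    refine (em _).imp_right fun b y => ⟨fun hy => ⟨?_, h.fix _⟩, fun hy => ⟨?_, h.fix _⟩⟩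
    · rw [map_mul, map_mul, map_inv]
      exact NW.conj_mem_U' hw (fun r => (tw_root (h.W1 hw) a b r).1) hy.1
    · have := NW.conj_mem_U (B := {r | R.pos r ∧ R.InJ (T.orb j) r}) hw
        (fun r hr => (tw_root (h.W1 hw) a b _).2 (by simpa using hr)) hy.1
      simpa [mul_assoc] using this
  two n hn i k a b c := by
    obtain ⟨w, hw⟩ := exists_NW_of_N hn
    rw [h.pos_iff hw] at a b
    rw [h.pos_iff (NW_mul (h.s_NW k) hw), mul_inv_rev, w0_inv]
    exact tw_two (h.W1 hw) a b fun d => c (by rw [orb_eq d])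

theorem conn (hc : ∀ P : κ → Prop, (∀ i j, R.A i j ≠ 0 → P i → P j) → (∀ i, P (T.π i) ↔ P i) → ∀ i j, P i → P j) :
    (sb h hU hH).Conn := by
  rintro n hn ⟨j, hj⟩ ⟨k, hk⟩ a
  obtain ⟨w, hw⟩ := exists_NW_of_N hn
  by_contra b
  push Not at b
  refine hk ((h.pos_iff hw).2 (hc (fun i => R.pos (w⁻¹ (R.simple i))) (fun j k h1 h2 => by_contra fun h3 => ?_) (fun i =>
    ⟨fun c => pos_orb (h.W1 hw) c _ (orb_eq (π_mem_orb.2 (T.mem_orb i)) ▸ T.mem_orb i),
      fun c => pos_orb (h.W1 hw) c _ (π_mem_orb.2 (T.mem_orb i))⟩) j k ((h.pos_iff hw).1 hj)))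
  have h4 := b j k ((h.pos_iff hw).2 h2) ((h.pos_iff hw).not.2 h3)
  have h5 := (h.pos_iff (NW_mul (h.s_NW k) hw)).1 h4
  rw [mul_inv_rev, w0_inv] at h5
  refine tw_conn (h.W1 hw) h2 (fun h6 => ?_) h3 (fun h7 => h1 ?_) h5
  · have h8 : (sb h hU hH).Pos (n * (sb h hU hH).s j) j := (h.pos_iff (NW_mul hw (h.s_NW j))).2 (by rwa [mul_inv_rev, w0_inv])
    obtain ⟨y, hy, hne⟩ := (sb h hU hH).exists_ne_one j
    have := SB.eq_one_of_X (a j ((h.pos_iff hw).2 h2) y hy) (SB.U_le_B (by simpa [mul_assoc] using h8 y hy))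
    exact hne (by simpa [mul_assoc] using congrArg (fun x => n * x * n⁻¹) this)
  · rwa [← pair_simple_simple, pair_eq_zero_iff, pair_simple_simple]

end H27.ID
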