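import Cfsg.Agent.H27.PH9
import Cfsg.Agent.H11.LS3

/-!
# Phan systems X: weak Phan systems for `q = 2, 3`
-/

set_option autoImplicit false

namespace H27.PH

open H11 H12 Cfsg H13.SL2 Module Submodule
open Matrix hiding mul_apply'
open scoped MatrixGroups

variable {F : Type*} [Field F] [Fintype F] {q N : ℕ} (hF : Fintype.card F = q ^ 2) {G : Type*} [Group G]

local notation "σ" => frob hF
local notation "𝐂" => hermC (Fin 4) hF
local notation "𝐞" k => (Pi.single k (1 : F) : Fin 4 → F)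

theorem pull {H K : Type*} [Group H] [Group K] {g : K →* G} (hg : Function.Injective g) (ψ : H →* G)
    (h : ψ.range ≤ g.range) : ∃ θ : H →* K, ∀ a, g (θ a) = ψ a :=
  ⟨(MonoidHom.ofInjective hg).symm.toMonoidHom.comp (ψ.codRestrict _ fun a => h ⟨a, rfl⟩), fun _ =>
    MonoidHom.apply_ofInjective_symm hg _⟩

theorem range_eq {H : Type*} [Group H] [Finite H] {φ ψ : H →* G} (h : Function.Injective φ) (e : φ.range ≤ ψ.range) :
    φ.range = ψ.range :=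
  have := Finite.of_surjective _ ψ.rangeRestrict_surjective
  Subgroup.eq_of_le_of_card_ge e ((Subgroup.card_range_dvd _ |> Nat.le_of_dvd Nat.card_pos).trans
    (Nat.card_congr (MonoidHom.ofInjective h).toEquiv).le)

theorem scal_eq {c : SU 3 F q} (h : c ∈ Subgroup.center _) {a b : SU 2 F q →* SU 3 F q}
    (hab : a = i0 hF ∧ b = i1 hF ∨ a = i1 hF ∧ b = i0 hF) : ∃ x y, c = a x * b y ∧ (y = 1 → c = 1) := by
  obtain ⟨t, ht⟩ := (su_mem_center_iff hF (by simp) c).1 h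
  have t3 : t ^ 3 = 1 := by simpa [ht] using c.1.det_coe
  have t1 : σ t * t = 1 := by simpa [ht, ct, -frob_apply] using congrFun (congrFun (su_ct hF c) 0) 0
  have t2 : σ (t * t) * (t * t) = 1 := by rw [map_mul]; grind
  have : c.1.1 = (i0 hF (tor hF t1)).1.1 * (i1 hF (tor hF t2)).1.1 ∧
      c.1.1 = (i1 hF (tor hF t2)).1.1 * (i0 hF (tor hF t1)).1.1 := by
    have : t = σ t * (t * t) ∧ t = σ t * σ t := by grind
    constructor <;> ext i j <;> fin_cases i <;> fin_cases j <;> simp [ht, coe_i0, coe_i1, tor, ← this.2, mul_comm _ (σ t),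
      ← this.1, -frob_apply]
  have k : t = 1 → c = 1 := fun e => su_ext (by simp [ht, e])
  rcases hab with ⟨rfl, rfl⟩ | ⟨rfl, rfl⟩
  · exact ⟨_, _, su_ext this.1, fun e => k (by have := congrArg (·.1.1 0 0) e; simp [tor] at this; grind)⟩
  · exact ⟨_, _, su_ext this.2, fun e => k (by simpa [tor] using congrArg (·.1.1 0 0) e)⟩

theorem eq_one_of {a b : SU 2 F q →* SU 3 F q} (hab : a = i0 hF ∧ b = i1 hF ∨ a = i1 hF ∧ b = i0 hF) {z : SU 2 F q}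
    (h : ∀ u, Commute (a z) (b u)) : z = 1 := su_ext (by
  obtain ⟨w, hw⟩ := exists_w hF
  have := congrArg (·.1.1) (h w).eq
  have d := det' z.1
  change (a z).1.1 * (b w).1.1 = (b w).1.1 * (a z).1.1 at this
  rcases hab with ⟨rfl, rfl⟩ | ⟨rfl, rfl⟩ <;> simp [coe_i0, coe_i1, hw] at this <;> ext i j <;>
    fin_cases i <;> fin_cases j <;> simp <;> grind)

theorem inj3 {ψ ψ' : SU 3 F q →* G} (k : ψ.ker ≤ Subgroup.center _) (k' : ψ'.ker ≤ Subgroup.center _)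
    {a b : SU 2 F q →* SU 3 F q} (hab : a = i0 hF ∧ b = i1 hF ∨ a = i1 hF ∧ b = i0 hF)
    (e : (ψ.comp b).range ≤ (ψ'.comp a).range) (hi : Function.Injective (ψ.comp b))
    (hc : ∀ x y, Commute (ψ (a x)) (ψ' (b y))) : Function.Injective ψ := by
  refine (injective_iff_map_eq_one _).2 fun c h => ?_
  obtain ⟨x, y, h1, h2⟩ := scal_eq hF (k h) hab
  obtain ⟨z, hz⟩ := e ⟨y, rfl⟩
  obtain rfl : z = 1 := eq_one_of hF hab (lcomm hF (by simp) k' b fun u => by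
    rw [h1, map_mul, mul_eq_one_iff_inv_eq] at h
    rw [show ψ' (a z) = (ψ (a x))⁻¹ from hz.trans h.symm]; exact (hc x u).inv_left)
  exact h2 (hi (by rw [← hz]; simp))

theorem star (hq : q = 2 ∨ q = 3) {g : SU 4 F q →* G} (hg : g.ker ≤ Subgroup.center _) {ψ : SU 3 F q →* G}
    (hψ : Function.Injective ψ) (h : ψ.range ≤ g.range) {a b : SU 2 F q →* SU 3 F q}
    (hab : a = i0 hF ∧ b = i1 hF ∨ a = i1 hF ∧ b = i0 hF) {φ : SU 2 F q →* G} (hφ : Function.Injective φ)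
    (h' : φ.range ≤ g.range) (c : ∀ x y, Commute (ψ (a x)) (φ y)) :
    ∃ x, (𝐂).B x x = 1 ∧ ψ.range ≤ (MulAction.stabilizer _ x).map g := by
  refine hq.elim (fun hq => ?_) fun hq => star3 hF hq hg hψ h hab hφ h' c
  rw [Subgroup.card_eq_one.1 ((card_center_SU hF (by simp)).trans (by rw [hq]; rfl)), le_bot_iff,
    MonoidHom.ker_eq_bot_iff] at hg
  obtain ⟨θ, hθ⟩ := pull hg ψ h
  obtain ⟨x, x1, hx⟩ := star2 hF hq (θ := θ) fun a b e => hψ (by rw [← hθ, e, hθ])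
  exact ⟨x, x1, by rintro _ ⟨a, rfl⟩; exact ⟨_, hx a, hθ a⟩⟩

theorem coe_j0 (z : SU 3 F q) : (j0 hF z).1.1 = !![z.1.1 0 0, z.1.1 0 1, z.1.1 0 2, 0; z.1.1 1 0, z.1.1 1 1, z.1.1 1 2, 0;
    z.1.1 2 0, z.1.1 2 1, z.1.1 2 2, 0; 0, 0, 0, 1] := by
  ext a b; fin_cases a <;> fin_cases b <;> simp [j0, coe_bl, mul_apply, ct_Jm, Jm_apply, Fin.sum_univ_succ, one_apply]

theorem coe_j1 (z : SU 3 F q) : (j1 hF z).1.1 = !![1, 0, 0, 0; 0, z.1.1 0 0, z.1.1 0 1, z.1.1 0 2;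
    0, z.1.1 1 0, z.1.1 1 1, z.1.1 1 2; 0, z.1.1 2 0, z.1.1 2 1, z.1.1 2 2] := by
  ext a b; fin_cases a <;> fin_cases b <;> simp [j1, coe_bl, mul_apply, ct_Jm, Jm_apply, Fin.sum_univ_succ, one_apply]

theorem j_i (z : SU 2 F q) : j1 hF (i0 hF z) = j0 hF (i1 hF z) := su_ext (by simp [coe_j0, coe_j1, coe_i0, coe_i1])

theorem rj0 : (j0 hF).range = Bk F q {0, 1, 2} :=
  (range_bl (Fin.castSucc_injective 3)).trans (by congr 1; ext a; fin_cases a <;> simp)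

theorem rj1 : (j1 hF).range = Bk F q {1, 2, 3} :=
  (range_bl (Fin.succ_injective 3)).trans (by congr 1; ext a; fin_cases a <;> simp)

theorem rj2 : ((j1 hF).comp (i1 hF)).range = Bk F q {2, 3} := by
  have h := (Fin.succ_injective 3).comp (Fin.succ_injective 2)
  rw [show (j1 hF).comp (i1 hF) = bl hF _ (on_Jm h) from
    MonoidHom.ext fun g => (bl_bl (on_Jm (Fin.succ_injective 3)) (on_Jm (Fin.succ_injective 2)) g).trans (bl_congr _ (Jm_mul _ _) g), range_bl h]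
  congr 1; ext a; fin_cases a <;> simp [Fin.exists_fin_two]

theorem main4 (hq : q = 2 ∨ q = 3) {g : SU 4 F q →* G} (hg : g.ker ≤ Subgroup.center _) {χ ψ : SU 3 F q →* G}
    (hχ : Function.Injective χ) (hψ : Function.Injective ψ) (h : χ.range ≤ g.range) (h' : ψ.range ≤ g.range)
    (e : (χ.comp (i1 hF)).range ≤ ψ.range) (hc : ∀ x y, Commute (χ (i0 hF x)) (ψ (i1 hF y))) :
    ∃ f : SU 4 F q →* G, f.comp (j0 hF) = χ ∧ (f.comp (j1 hF)).range = ψ.range ∧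
      ((f.comp (j1 hF)).comp (i1 hF)).range = (ψ.comp (i1 hF)).range := by
  have hi : Function.Injective (ψ.comp (i1 hF)) := fun a b e => bl_inj _ (hψ e)
  obtain ⟨x, x1, hx⟩ := star hF hq hg hχ h (.inl ⟨rfl, rfl⟩) hi (fun _ ⟨_, e⟩ => h' ⟨_, e⟩) hc
  obtain ⟨k, -, rfl⟩ := tran hF (s := Set.univ) (a := 3) (b := 1) trivial trivial (by simp) (mem_Ws.2 (by simp)) x1
  have kc : ∀ γ : SU 4 F q ≃* SU 4 F q, (g.comp γ.toMonoidHom).ker ≤ Subgroup.center _ := fun γ z hz =>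
    Subgroup.mem_center_iff.2 fun y => γ.injective (by simpa using Subgroup.mem_center_iff.1 (hg hz) (γ y))
  obtain ⟨β, hβ⟩ := pull (g := (g.comp (MulAut.conj k).toMonoidHom).comp (j0 hF)) ((injective_iff_map_eq_one _).2
    fun z hz => by
      obtain ⟨c, hc⟩ := cen hF (by simp) (kc _ hz)
      have := congrFun ((hc _).symm.trans (mem_Bk.1 ((rj0 hF).le ⟨z, rfl⟩) 3 (by simp))) 3
      exact bl_inj _ (su_ext' (g := j0 hF z) (h := j0 hF 1) fun v => by simp_all)) χ fun z hz => by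
    obtain ⟨t, ht, rfl⟩ := hx hz
    obtain ⟨a, ha⟩ := (rj0 hF).ge (show k⁻¹ * t * k ∈ _ from mem_Bk.2 fun i hi => by
      obtain rfl : i = 3 := by fin_cases i <;> simp at hi ⊢
      rw [mul_smul, mul_smul, ht, inv_smul_smul])
    exact ⟨a, by simp [ha, mul_assoc]⟩
  obtain ⟨γ, hγ⟩ := ext4 hF (β := β) (hq.imp_right fun hq e => by
    simpa [hF, hq] using FiniteField.even_card_of_char_two (CharP.ringChar_of_prime_eq_zero Nat.prime_two e))
    fun a b e => hχ (by rw [← hβ, e, hβ])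
  obtain ⟨f, hf, fr, f0⟩ : ∃ f : SU 4 F q →* G, f.ker ≤ Subgroup.center _ ∧ g.range ≤ f.range ∧ ∀ z, f (j0 hF z) = χ z :=
    ⟨_, kc (γ.trans (MulAut.conj k)), fun _ ⟨z, e⟩ => ⟨(γ.trans (MulAut.conj k)).symm z, by simpa [mul_assoc] using e⟩, fun z => by
      simp [hγ, ← hβ]⟩
  obtain ⟨y, y1, hy⟩ := star hF hq hf hψ (h'.trans fr) (.inr ⟨rfl, rfl⟩) (φ := χ.comp (i0 hF)) (fun a b e => bl_inj _ (hχ e))
    (fun _ ⟨_, e⟩ => fr (h ⟨_, e⟩)) fun x y => (hc y x).symm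
  obtain ⟨θ, hθ⟩ := lift2 hF (by simp) hf (ψ.comp (i1 hF)) fun _ ⟨_, e⟩ => fr (h' ⟨_, e⟩)
  obtain ⟨t, ht, t1⟩ := exists_tor hF (two_le_of_card_sq hF)
  have r : θ.range = ((j1 hF).comp (i1 hF)).range := range_eq (fun a b e => hi (by rw [← hθ, e, hθ])) (by
    obtain ⟨p, k, hp, _, -⟩ := exists_prime_pow_of_card_sq hF
    have := Fact.mk hp
    rw [rj2]
    rintro _ ⟨u, rfl⟩
    refine su2_gen hF p (L := (Bk F q _).comap θ) (fun u hu => mem_Bk.2 fun i hi => ?_) u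
    have := (lcomm hF (by simp) hf θ (b := j0 hF (i0 hF (tor hF ht))) (fun y => by rw [f0, hθ]; exact hc _ _) u).eq
    have := fun j => congrArg (·.1.1 j i) this
    refine fix_p (p := p) (by rw [← map_pow, hu, map_one]) (c := (θ u).1.1 i i) (funext fun j => ?_)
    fin_cases i <;> simp at hi <;> simp [Fin.forall_fin_succ, coe_j0, coe_i0, tor, mul_apply, Fin.sum_univ_succ, -frob_apply] at this <;>
      fin_cases j <;> simp [su_smul] <;> grind)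
  have a := lfix hF (by simp) hf ((j0 hF).comp (i1 hF)) (fun u => hy (e ⟨u, (f0 _).symm⟩)) (tor hF ht)
  obtain ⟨u, hu⟩ := r.ge ⟨tor hF ht, rfl⟩
  have b := hu ▸ lfix hF (by simp) hf θ (fun u => hy ⟨_, (hθ u).symm⟩) u
  have a1 := congrFun a 1
  have a2 := congrFun a 2
  have a3 := congrFun b 3
  simp [su_smul, coe_j0, coe_j1, coe_i1, tor, vecHead, vecTail, -frob_apply] at a1 a2 a3
  have y0 : y = y 0 • 𝐞 0 := by ext i; fin_cases i <;> simp <;> grind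
  refine ⟨f, MonoidHom.ext f0, (range_eq hψ (hy.trans ?_)).symm, ?_⟩
  · rw [MonoidHom.range_comp, rj1]
    refine Subgroup.map_mono fun z hz => mem_Bk.2 fun i hi => ?_
    obtain rfl : i = 0 := by fin_cases i <;> simp at hi ⊢
    exact smul_right_injective _ (show y 0 ≠ 0 by intro e; rw [y0, e] at y1; simp at y1)
      (show _ • z • _ = _ • _ by rw [← smul_comm z, ← y0, hz])
  · rw [MonoidHom.comp_assoc, MonoidHom.range_comp, ← r, MonoidHom.map_range]; congr 1; exact MonoidHom.ext hθ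

theorem std' {V A B : Subgroup G} (h : IsStandardUnitaryPair V A B F q) : ∃ ψ : SU 3 F q →* G,
    ψ.ker ≤ Subgroup.center _ ∧ ψ.range = V ∧ (ψ.comp (i0 hF)).range = A ∧ (ψ.comp (i1 hF)).range = B := by
  rw [IsStandardUnitaryPair, suBlock_eq hF, suBlock_eq hF, ← rg0 hF, ← rg1 hF] at h
  simp only [MonoidHom.map_range] at h
  rcases h with ⟨ψ, h⟩ | ⟨ψ, h⟩
  · exact ⟨_, fun x hx => by simp [show x = 1 by simpa using hx], by simp [MonoidHom.range_comp, ← MonoidHom.range_eq_map], h⟩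
  · exact ⟨_, fun x hx => by simpa using hx, by simp [MonoidHom.range_comp, ← MonoidHom.range_eq_map], h⟩

theorem top4 : (j0 hF).range ⊔ (j1 hF).range = ⊤ := by
  rw [rj0, rj1, sup_comm, eq_top_iff]
  refine le_trans ?_ ((gen4 hF (s := Set.univ) (a := (0 : Fin 4)) (b := 1) (c := 2) (d := 3) trivial trivial trivial trivial
    (by simp) (by simp) (by simp) (by simp) (by simp) (by simp)).trans (sup_le_sup (Bk_mono fun a => ?_) (Bk_mono fun a => ?_)))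
  · intro; simp [mem_Bk]
  all_goals fin_cases a <;> simp

theorem step4 (hq : q = 2 ∨ q = 3) {ψ : SU 3 F q →* G} (a0 : Function.Injective ψ) {V C : Subgroup G}
    (h : IsStandardUnitaryPair V (ψ.comp (i1 hF)).range C F q) (e : SU 2 F q ≃* (ψ.comp (i1 hF)).range) {g : SU 4 F q →* G}
    (r : ψ.range ⊔ V ≤ g.range) (h1 : ∀ x, ∀ y ∈ C, ψ (i0 hF x) * y = y * ψ (i0 hF x)) :
    ∃ f : SU 4 F q →* G, f.comp (j0 hF) = ψ ∧ Function.Injective (f.comp (j1 hF)) ∧ (f.comp (j1 hF)).range = V ∧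
      ((f.comp (j1 hF)).comp (i0 hF)).range = (ψ.comp (i1 hF)).range ∧ ((f.comp (j1 hF)).comp (i1 hF)).range = C := by
  obtain ⟨ψ', k, rfl, d, rfl⟩ := std' hF h
  have hc : ∀ x y, Commute (ψ (i0 hF x)) (ψ' (i1 hF y)) := fun x y => h1 x _ ⟨y, rfl⟩
  have a1 := inj3 hF k (ψ' := ψ) (by simp [(MonoidHom.ker_eq_bot_iff _).2 a0]) (.inr ⟨rfl, rfl⟩) d.le
    (inj_of_range e d) fun x y => (hc y x).symm
  have hg : g.ker ≤ Subgroup.center _ := (LS.le_center_or (su_perfect hF (by simp) (by simp))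
    (psu_simple hF (by simp) (by simp)) _).resolve_right fun h => by
      obtain ⟨w, hw⟩ := exists_w hF
      obtain ⟨z, hz⟩ := r (Subgroup.mem_sup_left ⟨i0 hF w, rfl⟩)
      have := a0 (hz.symm.trans ((MonoidHom.mem_ker.1 (h.ge trivial)).trans (map_one ψ).symm))
      simpa [coe_i0, hw] using congrArg (·.1.1 0 0) this
  obtain ⟨f, f0, f1, f2⟩ := main4 hF hq hg a0 a1 (le_sup_left.trans r) (le_sup_right.trans r)
    (d.ge.trans fun _ ⟨_, e⟩ => ⟨_, e⟩) hc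
  exact ⟨f, f0, inj_of_range (MonoidHom.ofInjective a1) f1, f1, by
    rw [← f0]; congr 1; exact MonoidHom.ext fun z => congrArg f (j_i hF z), f2⟩

include hF in
theorem phan4 (hq : q = 2 ∨ q = 3) {n : ℕ} (hn : 3 ≤ n) (U : Fin n → Subgroup G) (e : ∀ i, SU 2 F q ≃* U i)
    (V : Fin n → Fin n → Subgroup G) (h1 : ∀ i j : Fin n, (i : ℕ) + 2 ≤ j → ∀ x ∈ U i, ∀ y ∈ U j, x * y = y * x)
    (h2 : ∀ i j : Fin n, (i : ℕ) + 1 = j → IsStandardUnitaryPair (V i j) (U i) (U j) F q)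
    (hgen : (⨆ i, U i) ⊔ (⨆ (i : Fin n) (j : Fin n) (_ : (i : ℕ) + 1 = j), V i j) = ⊤)
    (h4 : ∀ i j k : Fin n, (i : ℕ) + 1 = j → (j : ℕ) + 1 = k → ∃ g : SU 4 F q →* ↥(V i j ⊔ V j k), Function.Surjective g)
    (h5 : ∀ i j k : Fin n, (j : ℕ) + 1 = k → ((i : ℕ) + 2 ≤ j ∨ (k : ℕ) + 2 ≤ i) → ∀ x ∈ U i, ∀ y ∈ V j k, x * y = y * x)
    (h6 : ∀ i j k l : Fin n, (i : ℕ) + 1 = j → (k : ℕ) + 1 = l → (j : ℕ) + 2 ≤ k → ∀ x ∈ V i j, ∀ y ∈ V k l, x * y = y * x) :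
    ∃ f : SU (n + 1) F q →* G, Function.Surjective f := by
  let P : ℕ → (SU 3 F q →* G) → Prop := fun i ψ => ∀ h : i + 1 < n, Function.Injective ψ ∧ ψ.range = V ⟨i, by omega⟩ ⟨i + 1, h⟩ ∧
    (ψ.comp (i0 hF)).range = U ⟨i, by omega⟩ ∧ (ψ.comp (i1 hF)).range = U ⟨i + 1, h⟩
  have st : ∀ i ψ, P i ψ → ∃ χ, P (i + 1) χ ∧ (i + 2 < n → ∃ f : SU 4 F q →* G, f.comp (j0 hF) = ψ ∧ f.comp (j1 hF) = χ) :=
    fun i ψ h => by
    by_cases hi : i + 2 < n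
    swap; · exact ⟨1, fun h => absurd h hi, fun h => absurd h hi⟩
    obtain ⟨a0, a, b, b'⟩ := h (by omega)
    obtain ⟨g, hg⟩ := h4 ⟨i, by omega⟩ ⟨i + 1, by omega⟩ ⟨i + 2, hi⟩ rfl rfl
    obtain ⟨f, f0, f1⟩ := step4 hF hq a0 (b' ▸ h2 ⟨i + 1, by omega⟩ ⟨i + 2, hi⟩ rfl) (b' ▸ e _) (g := (Subgroup.subtype _).comp g) (by
      rw [MonoidHom.range_comp, MonoidHom.range_eq_top.2 hg, ← MonoidHom.range_eq_map, Subgroup.range_subtype, a])
      fun x => h1 ⟨i, by omega⟩ ⟨i + 2, hi⟩ le_rfl _ (b.le ⟨x, rfl⟩)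
    exact ⟨f.comp (j1 hF), fun _ => b' ▸ f1, fun _ => ⟨f, f0, rfl⟩⟩
  choose T t1 t2 using st
  obtain ⟨ψ0, k0, h0⟩ := std' hF (h2 ⟨0, by omega⟩ ⟨1, by omega⟩ rfl)
  obtain ⟨ψ1, k1, -, k2, k3⟩ := std' hF (h2 ⟨1, by omega⟩ ⟨2, hn⟩ rfl)
  let Ψ : ∀ i, {ψ // P i ψ} := Nat.rec ⟨ψ0, fun _ => ⟨inj3 hF k0 k1 (.inl ⟨rfl, rfl⟩) (h0.2.2.trans k2.symm).le
    (inj_of_range (e _) h0.2.2) fun x y => h1 ⟨0, by omega⟩ ⟨2, hn⟩ le_rfl _ (h0.2.1.le ⟨x, rfl⟩) _ (k3.le ⟨y, rfl⟩), h0⟩⟩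
    fun i x => ⟨T i x.1 x.2, t1 _ _ _⟩
  let j : ∀ m i, i + m < n + 1 → Fin (m + 1) → Fin (n + 1) := fun m i h k => ⟨i + k, by omega⟩
  have hj : ∀ m i h, Function.Injective (j m i h) := fun m i h a b k => by simpa [j, Fin.ext_iff] using k
  have rj : ∀ m i h, Set.range (j m i h) = Iv _ i (i + m) := fun m i h => Set.ext fun k =>
    ⟨by rintro ⟨a, rfl⟩; simp [j, Iv, Nat.lt_succ_iff.1 a.2], fun hk => ⟨⟨k - i, by have := hk.2; omega⟩, by
      have := hk.1; simp [j, Fin.ext_iff]; omega⟩⟩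
  have b0 : ∀ m i h A, bl hF _ (on_Jm (hj (m + 1) i h)) (bl hF _ (on_Jm (Fin.castSucc_injective _)) A) =
      bl hF _ (on_Jm (hj m i (by omega))) A := fun m i h A => (bl_bl _ _ A).trans (bl_congr _ (Jm_mul _ _) A)
  have b1 : ∀ m i h A, bl hF _ (on_Jm (hj (m + 1) i h)) (bl hF _ (on_Jm (Fin.succ_injective _)) A) =
      bl hF _ (on_Jm (hj m (i + 1) (by omega))) A := fun m i h A =>
    (bl_bl _ _ A).trans (bl_congr _ ((Jm_mul _ _).trans (by congr 1; ext a; simp [j]; omega)) A)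
  have v : ∀ i (h : i + 1 < n) x, (Ψ i).1 x ∈ V ⟨i, by omega⟩ ⟨i + 1, h⟩ := fun i h x => ((Ψ i).2 h).2.1.le ⟨x, rfl⟩
  have := ind' hF (fun i => ⨆ h : i + 2 < n + 1, ((bl hF _ (on_Jm (hj 2 i h))).prod (Ψ i).1).range)
    (fun i h => by rw [iSup_pos h, ← rj 2 i h]; exact gr_bl hF (hj 2 i h) _) (fun i h => ?_) (fun i k h h' x hx hx' y hy => ?_)
    (fun i h x hx y hy hy' => ?_) (fun i k h h' x hx y hy => ?_) (n - 2) 0 (n - 1) (by omega) (by omega)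
  · obtain ⟨f, hf⟩ := this.hom fun k => ⟨k.1.zero_le, by omega⟩
    have k : ∀ i j : Fin n, (i : ℕ) + 1 = j → V i j ≤ f.range := fun i ⟨j, hj⟩ h => by
      obtain rfl : i + 1 = j := h
      refine ((Ψ i).2 hj).2.1.ge.trans ?_
      rintro _ ⟨x, rfl⟩
      exact ⟨_, hf.le (Subgroup.mem_iSup_of_mem i.1 (Subgroup.mem_iSup_of_mem ⟨i.1.zero_le, by omega⟩
        (Subgroup.mem_iSup_of_mem (by omega : i.1 + 2 < n + 1) ⟨x, rfl⟩)))⟩
    refine ⟨f, MonoidHom.range_eq_top.1 (eq_top_iff.2 (hgen.ge.trans (sup_le (iSup_le fun ⟨i, hi⟩ => ?_)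
      (iSup₂_le fun i j => iSup_le (k i j)))))⟩
    cases i
    · exact ((Ψ 0).2 (by omega)).2.2.1.ge.trans fun _ ⟨_, e⟩ => k _ _ rfl (e ▸ v 0 (by omega) _)
    · exact ((Ψ _).2 hi).2.2.2.ge.trans fun _ ⟨_, e⟩ => k _ _ rfl (e ▸ v _ hi _)
  · obtain ⟨f, f0, f1⟩ := t2 i (Ψ i).1 (Ψ i).2 (by omega)
    rw [iSup_pos (by omega), iSup_pos (by omega), ← rj 3 i h]
    convert gr_bl hF (hj 3 i h) f
    refine .trans ?_ (MonoidHom.range_eq_map _).symm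
    rw [← top4 hF, Subgroup.map_sup, MonoidHom.map_range, MonoidHom.map_range, ← f0, show (Ψ (i + 1)).1 = _ from f1.symm]
    congr 2 <;> refine MonoidHom.ext fun g => Prod.ext (.symm ?_) rfl
    exacts [b0 2 i h _, b1 2 i h _]
  · rw [iSup_pos (by omega)] at hx hy
    obtain ⟨x, rfl⟩ := hx
    obtain ⟨y, rfl⟩ := hy
    obtain ⟨z, hz⟩ := (range_bl (hF := hF) (hj 1 i (by omega))).ge (rj 1 i (by omega) ▸ hx')
    obtain rfl := bl_inj _ ((b0 1 i (by omega) z).trans hz)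
    exact Prod.ext (hz ▸ bl_comm hF (hj 1 i (by omega)) (hj 2 k h') (fun a b => by simp [j, Fin.ext_iff]; omega) z y).eq
      (h5 ⟨i, by omega⟩ ⟨k, by omega⟩ ⟨k + 1, by omega⟩ rfl (.inl h) _ (((Ψ i).2 (by omega)).2.2.1.le ⟨z, rfl⟩) _ (v _ _ _))
  · rw [iSup_pos (by omega)] at hx hy
    obtain ⟨x, rfl⟩ := hx
    obtain ⟨y, rfl⟩ := hy
    obtain ⟨z, hz⟩ := (range_bl (hF := hF) (hj 1 (i + 3) (by omega))).ge (rj 1 (i + 3) h ▸ hy')
    obtain rfl := bl_inj _ ((b1 1 (i + 2) (by omega) z).trans hz)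
    exact Prod.ext (hz ▸ bl_comm hF (hj 2 i (by omega)) (hj 1 (i + 3) h) (fun a b => by simp [j, Fin.ext_iff]; omega) x z).eq
      (h5 ⟨i + 3, by omega⟩ ⟨i, by omega⟩ ⟨i + 1, by omega⟩ rfl (.inr le_rfl) _ (((Ψ (i + 2)).2 (by omega)).2.2.2.le ⟨z, rfl⟩) _
        (v _ _ _)).symm
  · rw [iSup_pos (by omega)] at hx hy
    obtain ⟨x, rfl⟩ := hx
    obtain ⟨y, rfl⟩ := hy
    exact Prod.ext (bl_comm hF (hj 2 i (by omega)) (hj 2 k h') (fun a b => by simp [j, Fin.ext_iff]; omega) x y)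
      (h6 ⟨i, by omega⟩ ⟨i + 1, by omega⟩ ⟨k, by omega⟩ ⟨k + 1, by omega⟩ rfl rfl h _ (v _ _ _) _ (v _ _ _))

end H27.PH
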