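/-
S5161: the kit, part 1.
-/
import Cfsg.Agent.H27.FK0
import Cfsg.Agent.H21.FusAlt

set_option autoImplicit false
set_option linter.unusedSectionVars false

namespace H27.FK
open Cfsg Subgroup H25 Equiv
open Function hiding swap
open scoped commutatorElement

section
variable {G G' H : Type*} [Group G] [Group G'] [Group H] [Finite G] [Finite H]

theorem fs_iso (e : G ≃* G') (S : Subgroup G) :
    fs (top e.toMonoidHom) (groupFusionSystem S) = FS.ofSub ⊤ (S.map e.toMonoidHom) := by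
  rw [groupFusionSystem_eq, fs_ofSubgroup (top_inj e.injective) le_top, im_top, im_top, map_top_of_surjective _ e.surjective]

theorem rep_iso (e : G ≃* G') (S : Subgroup G) : Rep (top e.toMonoidHom) (groupFusionSystem S) := by
  rw [groupFusionSystem_eq]; exact rep_ofSubgroup (top_inj e.injective) le_top le_top

theorem exists_iso (e : G ≃* G') (S : Sylow 2 G) (S' : Sylow 2 G') : ∃ e' : G ≃* G', S.1.map e'.toMonoidHom = S' := by
  have := Finite.of_equiv _ e.toEquiv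
  obtain ⟨g, k⟩ := MulAction.exists_smul_eq G' (S.mapSurjective (f := e.toMonoidHom) e.surjective) S'
  refine ⟨e.trans (MulAut.conj g), ?_⟩
  rw [← k]
  exact (map_map S.1 (MulAut.conj g).toMonoidHom e.toMonoidHom).symm

theorem sf_of [Finite G'] (e : G ≃* G') {S' : Sylow 2 G'} (h : (FS.ofSub ⊤ S'.1).Simple 2) : SF G := fun S => by
  obtain ⟨e', k⟩ := exists_iso e S S'
  rwa [(rep_iso e' S.1).simple_iff S.isPGroup', fs_iso, k]

theorem cf_of [Finite G'] (e : G ≃* G') {S' : Sylow 2 G'} (h : (FS.ofSub ⊤ S'.1).Constr 2) : CF G := fun S => by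
  obtain ⟨e', k⟩ := exists_iso e S S'
  rwa [(rep_iso e' S.1).constr_iff S.isPGroup', fs_iso, k]

theorem SF.simple (h : SF G) (S : Sylow 2 G) : (FS.ofSub ⊤ S.1).Simple 2 := by
  have := h S
  rwa [(rep_group S.1).simple_iff S.isPGroup', fs_group] at this

theorem CF.constr (h : CF G) (S : Sylow 2 G) : (FS.ofSub ⊤ S.1).Constr 2 := by
  have := h S
  rwa [(rep_group S.1).constr_iff S.isPGroup', fs_group] at this

theorem SF.congr (h : SF G) (e : G ≃* G') : SF G' :=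
  have := Finite.of_equiv _ e.toEquiv
  sf_of e.symm (h.simple default)

theorem CF.congr (h : CF G) (e : G ≃* G') : CF G' :=
  have := Finite.of_equiv _ e.toEquiv
  cf_of e.symm (h.constr default)

theorem cf_ab (S : Sylow 2 G) (h : ∀ x ∈ S, ∀ y ∈ S, x * y = y * x) : CF G :=
  have hF := FS.sat_ofSub S.isPGroup' (syl_sylow S)
  cf_of (.refl G) ⟨hF, S, hF.nm_of_sc_abelian (FS.sc_S _) fun x hx y hy => h y hy x hx, FS.centric_S _⟩

theorem cf_ti (S : Sylow 2 G) (h : ∀ g : G, ∀ x ∈ S, x ≠ 1 → g * x * g⁻¹ ∈ S → g ∈ nz S.1) : CF G := by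
  refine cf_of (.refl G) ⟨FS.sat_ofSub S.isPGroup' (syl_sylow S), S, ⟨le_rfl, fun P g H => ?_⟩, FS.centric_S _⟩
  by_cases e : P = ⊥
  · subst e
    exact ⟨1, one_mem _, FS.one (by simp), by rintro _ rfl; simp⟩
  obtain ⟨⟨x, hx⟩, k⟩ := ne_bot_iff_exists_ne_one.1 e
  have := h g x (H.le hx) (fun e => k (Subtype.ext e)) (H.conj_mem hx)
  exact ⟨g, this, FS.ofSub_top_T.2 ⟨sup_le H.le le_rfl, (cj_mono g (sup_le H.le le_rfl)).trans (mem_nz.1 this).le⟩, .refl _ _⟩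

theorem mem_of_center (S : Sylow 2 H) {z : H} (hz : z ∈ center H) {n : ℕ} (h : z ^ 2 ^ n = 1) : z ∈ S :=
  (syl_sylow S).le_of_normal (pg_zp h) le_top (fun g _ => cz_le_nz _ (mem_cz_zpowers.2 (by
    rw [mem_center_iff.1 hz g, mul_inv_cancel_right]))) (mem_zpowers z)

theorem core' (f : H →* G') (S : Sylow 2 H) (hf : Surjective f) (hk : f.ker = center H) (h0 : ¬ S.1 ≤ center H)
    (h1 : ∀ T, SCl S T → ¬ T ≤ center H → S.1 ≤ T) (h2 : ∀ x ∈ nz S.1, Odd (orderOf x) → Gd f S S x) : SF G' := by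
  have := Finite.of_surjective f hf
  have hF := FS.sat_ofSub (S.mapSurjective hf).isPGroup' (syl_sylow _)
  refine sf_of (.refl G') (S' := S.mapSurjective hf) (hF.simple_of (fun e => h0 (hk ▸ (Subgroup.map_eq_bot_iff _).1 e))
    (fun T hT => or_iff_not_imp_left.2 fun n => le_antisymm hT.le ?_) fun E hE e a ha => ?_)
  · have hT := SCl.of_sc hT
    refine map_le_iff_le_comap.2 ((h1 (S.1 ⊓ T.comap f) ⟨inf_le_left, fun x hx g k => ⟨k, ?_⟩⟩ fun k => n ?_).trans inf_le_right)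
    · simpa using hT.2 _ hx.2 (f g) (by simpa using mem_map_of_mem f k)
    · refine eq_bot_iff.2 fun t ht => ?_
      obtain ⟨s, hs, rfl⟩ := hT.1 ht
      exact (hk.ge (k ⟨hs, ht⟩) : s ∈ f.ker)
  obtain ⟨g, rfl⟩ := hf a
  have hg : g ∈ nz S.1 := mem_nz_of_conj_mem fun x hx => by
    obtain ⟨y, hy, k⟩ := conj_mem_of_mem_nz (FS.A_le_nz _ _ ha) (mem_map_of_mem f hx)
    have c : y⁻¹ * (g * x * g⁻¹) ∈ center H := hk.le (by
      rw [MonoidHom.mem_ker, map_mul, map_inv, k]; simp [mul_assoc])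
    obtain ⟨a, k1⟩ := S.isPGroup' ⟨x, hx⟩
    obtain ⟨b, k2⟩ := S.isPGroup' ⟨y, hy⟩
    replace k1 : x ^ 2 ^ a = 1 := congrArg Subtype.val k1
    replace k2 : y ^ 2 ^ b = 1 := congrArg Subtype.val k2
    have k3 := (show Commute y _ from mem_center_iff.1 c y).mul_pow (2 ^ (a + b))
    rw [mul_inv_cancel_left, conj_pow, pow_add, pow_mul, k1, one_pow, mul_comm (2 ^ a), pow_mul y, k2, one_pow, one_mul,
      ← pow_add, mul_one, mul_inv_cancel] at k3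
    simpa using mul_mem hy (mem_of_center S c k3.symm)
  obtain ⟨r, hr, u, hu, rfl⟩ := ((syl_sylow S).mono_right (le_nz_self _) le_top).exists_resid_mul hg
  have k : ∀ x ∈ nz S.1, Gd f S S x → x ∈ (E.A (S.1.map f)).comap f := fun x hx h =>
    (h E hE e).mem_A' (by rw [← map_cj, mem_nz.1 hx])
  exact mul_mem (resid_le_iff.2 (fun x hx c => k x hx (h2 x hx (Nat.coprime_two_right.1 c))) hr)
    (k u (le_nz_self _ hu) (gd_mem le_rfl hu))

theorem syl' {N R : Subgroup H} (hR : IsPGroup 2 R) (h1 : R ≤ N)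
    (h2 : ∀ X : Subgroup H, IsPGroup 2 X → R ≤ X → X ≤ N → nz X ≤ N) : ∃ S : Sylow 2 H, R ≤ S ∧ S.1 ≤ N ∧ nz S.1 ≤ N := by
  obtain ⟨X, a, b, c⟩ := exists_syl_ge hR h1
  obtain ⟨S, d⟩ := b.exists_le_sylow
  have k := h2 X b a c.le
  obtain rfl : X = S := by
    by_contra n
    obtain ⟨x, e1, e2, e3⟩ := exists_mem_nz_of_lt S.isPGroup' (lt_of_le_of_ne d n)
    exact e3 ((c.eq_of_le (S.isPGroup'.to_le (inf_le_left (b := N))) (le_inf d c.le) inf_le_right).le ⟨e1, k e2⟩)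
  exact ⟨S, a, c.le, k⟩

theorem sup' (S : Sylow 2 H) {T D : Subgroup H} (h : SCl S T) (hn : nz T ≤ nz D) : SCl S (T ⊔ S.1 ⊓ D) := by
  have h₁ := h.sc
  refine .of_sc (FS.sc_iff_zpowers.2 ⟨sup_le h.1 inf_le_left, fun y hy g K => ?_⟩)
  obtain ⟨k, Hh, m⟩ := (FS.sat_ofSub S.isPGroup' (syl_sylow S)).ext_mod_sc h₁ K
  obtain ⟨a, ha, b, hb, rfl⟩ := (mem_sup_of_le_nz_left (inf_le_left.trans h₁.S_le_nz)).1 hy
  have h3 : b ∈ zpowers (a * b) ⊔ T := by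
    simpa using mul_mem (mem_sup_right (inv_mem ha) : _ ∈ zpowers (a * b) ⊔ T) (mem_sup_left (mem_zpowers (a * b)))
  have h4 : k * b * k⁻¹ ∈ S.1 ⊓ D := ⟨Hh.conj_mem h3, conj_mem_of_mem_nz (hn (h₁.wc.mem_nz Hh le_sup_right)) hb.2⟩
  convert mul_mem (mul_mem (mem_sup_left (h₁.conj_mem Hh (mem_sup_right ha) ha) : _ ∈ T ⊔ S.1 ⊓ D)
    (mem_sup_right h4)) (mem_sup_left (m _ (mem_zpowers _))) using 1
  group

section W
variable {W : Type*} [Group W] {N T : Subgroup H} (π : N →* W) {S : Sylow 2 H}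

/-- the image of `Cl T` -/
def Im (T : Subgroup H) : Set W := {w | ∃ y : N, y.1 ∈ Cl T ∧ π y = w}

variable {π}

theorem im_one : (1 : W) ∈ Im π T := ⟨1, cl_one, map_one π⟩

theorem im_conj {w : W} (h : w ∈ Im π T) (n : N) : π n * w * (π n)⁻¹ ∈ Im π T :=
  let ⟨y, a, b⟩ := h; ⟨n * y * n⁻¹, cl_conj a n.1, by simp [b]⟩

theorem im_into (h : SCl S T) {R : Subgroup W} {X : Subgroup H} (hX : Syl 2 X ((R.comap π).map N.subtype))
    (h1 : R ≤ (X.subgroupOf N).map π) {w : W} (a : w ∈ R) (b : w ∈ Im π T) : ∃ y : N, y.1 ∈ X ∧ y.1 ∈ Cl T ∧ π y = w := by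
  obtain ⟨y, c, rfl⟩ := b
  obtain ⟨n, e⟩ := cl_pel h c
  obtain ⟨_, ⟨g, k1, rfl⟩, k2⟩ := hX.exists_cj_le (pg_zp e) (zpowers_le.2 ⟨y, a, rfl⟩)
  obtain ⟨x, k3, k4⟩ := h1 k1
  refine ⟨x⁻¹ * (g * y * g⁻¹) * x, mul_mem (mul_mem (inv_mem k3) (k2 (conj_mem_cj _ (mem_zpowers _)))) k3,
    cl_conj' (cl_conj c g.1) x.1, by simp [k4, mul_assoc]⟩

theorem le_map_syl {R : Subgroup W} (hR : IsPGroup 2 R) (h0 : R ≤ π.range) {X : Subgroup H}
    (hX : Syl 2 X ((R.comap π).map N.subtype)) : R ≤ (X.subgroupOf N).map π := fun w a => by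
  obtain ⟨y, rfl⟩ := h0 a
  obtain ⟨r, k1, u, k2, e⟩ := hX.exists_resid_mul (a := y.1) ⟨y, a, rfl⟩
  obtain ⟨u, -, rfl⟩ := hX.le k2
  obtain ⟨r, k3, rfl⟩ : r ∈ π.ker.map N.subtype := by
    refine resid_le_iff.2 ?_ k1
    rintro _ ⟨x, k, rfl⟩ c
    obtain ⟨n, e⟩ := hR ⟨π x, k⟩
    exact ⟨x, (pow_eq_one_iff_of_coprime (c.pow_right n)).1 ⟨by
      rw [← map_pow, coe_subtype, orderOf_coe, pow_orderOf_eq_one, map_one], congrArg Subtype.val e⟩, rfl⟩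
  obtain rfl : r * u = y := Subtype.ext e
  exact ⟨u, k2, by rw [map_mul, k3, one_mul]⟩

theorem im_mul (h : SCl S T) {R : Subgroup W} (hR : IsPGroup 2 R) {v w : W} (a : v ∈ R) (b : w ∈ R) (c : v ∈ Im π T)
    (d : w ∈ Im π T) : v * w ∈ Im π T := by
  obtain ⟨X, k1, k2⟩ := exists_syl (p := 2) (((R ⊓ π.range).comap π).map N.subtype)
  have k3 := le_map_syl (hR.to_le inf_le_left) inf_le_right k2
  obtain ⟨x, e1, e2, rfl⟩ := im_into h k2 k3 ⟨a, let ⟨y, _, e⟩ := c; ⟨y, e⟩⟩ c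
  obtain ⟨y, e3, e4, rfl⟩ := im_into h k2 k3 ⟨b, let ⟨y, _, e⟩ := d; ⟨y, e⟩⟩ d
  exact ⟨x * y, cl_mul h k1 e1 e3 e2 e4, map_mul π x y⟩

theorem im_mem (h : SCl S T) (hS : S.1 ≤ N) {w : W} (a : w ∈ (S.1.subgroupOf N).map π) (b : w ∈ Im π T) :
    ∃ t : N, t.1 ∈ T ∧ π t = w :=
  let ⟨y, c, d, e⟩ := im_into h ((syl_sylow S).mono_right (fun s hs => ⟨⟨s, hS hs⟩, mem_map_of_mem π hs, rfl⟩) le_top) le_rfl a b
  ⟨y, cl_mem h d c, e⟩

theorem im_pel (h : SCl S T) {w : W} (a : w ∈ Im π T) : ∃ n, w ^ 2 ^ n = 1 := by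
  obtain ⟨y, b, rfl⟩ := a
  obtain ⟨n, e⟩ := cl_pel h b
  exact ⟨n, by rw [← map_pow, show y ^ 2 ^ n = 1 from Subtype.ext e, map_one]⟩

theorem im_mul_comm (h : SCl S T) {v w : W} (c : Commute v w) (a : v ∈ Im π T) (b : w ∈ Im π T) : v * w ∈ Im π T :=
  let ⟨_, e⟩ := im_pel h a; let ⟨_, e'⟩ := im_pel h b
  im_mul h (pg_comm c e e') (subset_closure (.inl rfl)) (subset_closure (.inr rfl)) a b

/-- the image of `S` as a Sylow subgroup -/
def sylW (hS : S.1 ≤ N) (hπ : Surjective π) : Sylow 2 W := (S.subtype hS).mapSurjective hπ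

end W

variable {ι : Type*} [Fintype ι] [DecidableEq ι] {N T : Subgroup H} {π : N →* Perm ι} {S : Sylow 2 H}

omit [Finite H] in
theorem surj_of_swap (h : ∀ i j, i ≠ j → ∃ y : N, π y = swap i j) : Surjective π :=
  MonoidHom.range_eq_top.1 (eq_top_iff.2 (Perm.closure_isSwap.ge.trans ((closure_le _).2 fun _ ⟨i, j, a, b⟩ => b ▸ h i j a)))

theorem im_inv (h : SCl S T) (hs : ∀ i j, i ≠ j → swap i j ∈ Im π T) (w : Perm ι) (hw : w * w = 1) : w ∈ Im π T := by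
  induction hn : w.support.card using Nat.strong_induction_on generalizing w with | _ n ih => ?_
  by_cases e : w = 1
  · exact e ▸ im_one
  obtain ⟨i, hi⟩ : ∃ i, w i ≠ i := not_forall.1 fun k => e (Equiv.ext k)
  have c : Commute (swap i (w i)) w := by
    rw [Commute, SemiconjBy, mul_swap_eq_swap_mul, ← Perm.mul_apply w w, hw, Perm.one_apply, swap_comm]
  simpa [← mul_assoc] using im_mul_comm h ((Commute.refl _).mul_right c) (hs _ _ hi.symm) (ih _ (hn ▸ Perm.card_support_swap_mul hi)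
    _ (by rw [← sq, c.mul_pow, sq, sq, hw, swap_mul_self, one_mul]) rfl)

theorem gen_two (P : Sylow 2 (Perm ι)) : P.1 ≤ closure {x | x ∈ P.1 ∧ x ^ 2 = 1} := H21.gen_step (fun _ => H21.gen_fin _) P

theorem wey' (hS : S.1 ≤ N) (h : SCl S T) (hs : ∀ i j, i ≠ j → ∃ y : N, y.1 ∈ Cl T ∧ π y = swap i j) (s : N) (a : s.1 ∈ S) :
    ∃ t : N, t.1 ∈ T ∧ π t = π s :=
  have hπ := surj_of_swap fun i j e => (hs i j e).imp fun _ k => k.2
  ((gen_two (sylW hS hπ)).trans ((closure_le ((T.subgroupOf N).map π)).2 fun w hw =>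
    im_mem h hS hw.1 (im_inv h hs w (sq w ▸ hw.2)))) (mem_map_of_mem π a)

theorem sn' (hS : S.1 ≤ N) (hπ : Surjective π) (x : N) (a : x.1 ∈ nz S.1) (b : Odd (orderOf x.1)) : π x = 1 := by
  have : π x ∈ (sylW hS hπ).1 := (H21.normalizer_sylow_two_perm _).le (mem_nz_of_conj_mem (by
    rintro _ ⟨y, hy, rfl⟩
    exact ⟨x * y * x⁻¹, conj_mem_of_mem_nz (x := y.1) a hy, by simp⟩))
  obtain ⟨n, e⟩ := (sylW hS hπ).isPGroup' ⟨_, this⟩
  exact (pow_eq_one_iff_of_coprime ((Nat.coprime_two_right.2 b).pow_right n)).1 ⟨by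
    rw [← map_pow, orderOf_coe, pow_orderOf_eq_one, map_one], congrArg Subtype.val e⟩

omit [Finite H] in
theorem scl_self (S : Subgroup H) : SCl S S := ⟨le_rfl, fun _ _ _ h => h⟩

omit [Finite H] in
theorem der_le_sup {S T D K : Subgroup H} (h : SCl S T) (h1 : S ≤ T ⊔ S ⊓ K) (h2 : ⁅S ⊓ K, S ⊓ K⁆ ≤ T ⊔ D) : ⁅S, S⁆ ≤ T ⊔ D := by
  have n := h.sc.S_le_nz
  have c : ∀ s ∈ S, ∀ t ∈ T, ⁅s, t⁆ ∈ T := fun s hs t ht => mul_mem (conj_mem_of_mem_nz (n hs) ht) (inv_mem ht)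
  refine commutator_le.2 fun x hx y hy => ?_
  obtain ⟨a, ha, b, hb, rfl⟩ := (mem_sup_of_le_nz_left (inf_le_left.trans n)).1 (h1 hx)
  obtain ⟨u, hu, v, hv, rfl⟩ := (mem_sup_of_le_nz_left (inf_le_left.trans n)).1 (h1 hy)
  have e : ⁅a * b, u * v⁆ = a * (⁅b, u⁆ * u) * ((b * v) * (a * b)⁻¹ * (b * v)⁻¹ * (b * v * b * (b * v)⁻¹)) *
      (b * v * b⁻¹ * v⁻¹ * u⁻¹ * (b * v * b⁻¹ * v⁻¹)⁻¹) * ⁅b, v⁆ := by simp only [commutatorElement_def]; group
  have k : (a * b)⁻¹ * b ∈ T := by simpa [mul_assoc] using conj_mem_of_mem_nz' (n hb.1) (inv_mem ha)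
  rw [e]
  refine mul_mem (mem_sup_left (mul_mem (mul_mem (mul_mem ha (mul_mem (c b hb.1 u hu) hu)) ?_) ?_))
    (h2 (commutator_mem_commutator hb hv))
  · simpa [mul_assoc] using conj_mem_of_mem_nz (n (mul_mem hb.1 hv.1)) k
  · exact conj_mem_of_mem_nz (n (mul_mem (mul_mem (mul_mem hb.1 hv.1) (inv_mem hb.1)) (inv_mem hv.1))) (inv_mem hu)

/-- two abelian steps -/
theorem le_of_steps {D : Subgroup H} (hp : commutator H = ⊤) (h : SCl S T) (hn : nz T ≤ nz D) (h1 : ⁅S.1, S.1⁆ ≤ T ⊔ S.1 ⊓ D)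
    (h2 : ⁅S.1 ⊓ D, S.1 ⊓ D⁆ ≤ T) (h3 : ∀ x ∈ nz S.1, Odd (orderOf x) → x ∈ cz S.1) : S.1 ≤ T := by
  have k : ∀ X : Subgroup H, ∀ g ∈ nz S.1, (orderOf g).Coprime 2 → ∀ x ∈ S, x⁻¹ * (g * x * g⁻¹) ∈ X := fun X g a b x c => by
    rw [mem_cz.1 (h3 g a (Nat.coprime_two_right.1 b)) x c, inv_mul_cancel]; exact one_mem X
  exact h.eq_of_perfect S hp (sup_bot_eq T ▸ der_le_sup h ((sup' S h hn).eq_of_perfect S hp h1 (k _)) (by rwa [sup_bot_eq])) (k _)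

end

theorem tr : TR := fun _ _ _ _ _ e => ⟨fun h => h.congr e, fun h => h.congr e⟩
theorem ctrl : CTRL := fun _ _ _ S h => h.elim (cf_ab S) (cf_ti S)
theorem core : CORE := fun _ _ _ _ _ f S => core' f S
theorem syl : SYL := fun _ _ _ _ _ => syl'
theorem wey : WEY := fun _ _ _ _ _ _ _ _ _ _ => wey'
theorem sn : SN := fun _ _ _ _ _ _ _ _ _ => sn'
theorem sup : SUP := fun _ _ _ S _ _ => sup' S

theorem mb : MB := fun H G ι _ _ _ _ _ f N D R R' π hf hk hp hR h1 h2 h3 h4 h5 h6 h7 h8 => by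
  obtain ⟨S, a, b, c⟩ := syl' hR h2 fun X u v => h4 X u (h1.trans v)
  have d : ¬ S.1 ≤ center H := fun k => h3 (a.trans k)
  have hπ := surj_of_swap fun i j e => ((h7 S S a b (scl_self _) d).2.1 i j e).imp fun _ k => k.2
  have e : ∀ x ∈ nz S.1, Odd (orderOf x) → x ∈ cz S.1 := fun x u v => h8 S ⟨x, c u⟩ a b u v (sn' b hπ _ u v)
  refine core' f S hf hk d (fun T hT n => ?_) fun x u v => gd_cz le_rfl (e x u v)
  obtain ⟨k1, k2, k3⟩ := h7 S T a b hT n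
  refine le_of_steps hp hT ((h4 T (S.isPGroup'.to_le hT.1) k1 (hT.1.trans b)).trans h5)
    (der_le_sup (K := π.ker.map N.subtype) hT (fun s hs => ?_) (commutator_le.2 ?_)) k3 e
  · obtain ⟨t, u, v⟩ := wey' b hT k2 ⟨s, b hs⟩ hs
    simpa using mul_mem (mem_sup_left u) (mem_sup_right (show t.1⁻¹ * s ∈ S.1 ⊓ π.ker.map N.subtype from
      ⟨S.1.mul_mem (S.1.inv_mem (hT.1 u)) hs, t⁻¹ * ⟨s, b hs⟩, by simp [MonoidHom.mem_ker, v], rfl⟩))
  · rintro _ ⟨u1, x, u2, rfl⟩ _ ⟨v1, y, v2, rfl⟩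
    exact mem_sup_right ⟨S.1.mul_mem (S.1.mul_mem (S.1.mul_mem u1 v1) (S.1.inv_mem u1)) (S.1.inv_mem v1), h6 x y u2 v2⟩

end H27.FK
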