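/-
S5161, exceptional groups in odd characteristic: interface (root data, torus data). Paper proofs: notes/FK.md, part EXo.
-/
import Cfsg.Agent.H27.FK1
import Cfsg.Agent.H11.AS3

set_option autoImplicit false
set_option linter.unusedSectionVars false

namespace H27.FX
open H14 H14.RootSys Equiv Matrix H27.FK

variable {ι κ : Type*} [Fintype κ] [DecidableEq κ] (R : RootSys ι κ) (τ : Perm ι)

/-- strongly orthogonal roots -/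
def SO (a b : ι) : Prop := ∀ x ∈ [a, R.neg a], ∀ y ∈ [b, R.neg b], y ≠ R.neg x ∧ ¬ R.IsSum x y
/-- an orbit of two strongly orthogonal roots -/
def S2 (c : ι) : Prop := τ (τ c) = c ∧ R.pair c (τ c) = 0 ∧ SO R c (τ c)
/-- value of a coweight at a root -/
def ev (v : κ → ℤ) (r : ι) : ℤ := v ⬝ᵥ R.cf r
/-- divisible by two -/
def Ev (v : κ → ℤ) : Prop := ∀ j, Even (v j)
/-- equal up to sign -/
def Sg (u v : κ → ℤ) : Prop := u = v ∨ u = -v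
/-- a zero-one vector -/
def bv (m : κ → Bool) : κ → ℤ := fun j => if m j then 1 else 0
/-- invariant modulo two -/
def Iv (v : κ → ℤ) : Prop := ∀ j, Even (ev R v (τ (R.simple j)) - v j)

/-- root data; `pw x` is the coroot of `x` as a coweight, `f i` are the coordinate vectors -/
structure RD where
  pw : ι → κ → ℤ
  d0 : ℤ
  n : ℕ
  a : Fin (n + 1) → ι
  b : Fin (n + 1) → ι
  f : Fin (n + 1) → κ → ℤ
  c : Fin (n + 1) → ℤ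
  al : ι
  cs : ℤ
  M : ℤ
  L1 : List ι
  L2 : List (ι × ι)
  P : ι → Prop
  hP : ∀ x, P x ↔ τ x = x ∧ R.d x = d0
  hpw : ∀ x j, pw x j = R.pair x (R.simple j)
  hf : ∀ i, f i = pw (a i) + pw (b i)
  h1 : ∀ x y, P x → P y → Ev (pw x - pw y) → y = x ∨ y = R.neg x
  h2 : ∀ x, P x → ∃ y, P y ∧ Odd (ev R (pw (a 0)) y) ∧ Odd (ev R (pw y) x)
  h3 : 0 < M ∧ P al ∧ (cs = 0 ∨ Ev (pw al - f 0)) ∧ ∀ j, M = ∑ i, c i * f i j + cs * pw al j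
  h4 : ∀ r s, (∀ x, P x → ev R (pw x) r = ev R (pw x) s) → s = r ∨ s = τ r ∨ s = τ (τ r)
  h5 : ∀ r, ∃ x, P x ∧ Odd (ev R (pw x) r)
  g : ∀ i, P (a i) ∧ P (b i) ∧ ev R (pw (a i)) (b i) = ev R (pw (a 0)) (b 0) ∧ Ev (f i - f 0)
  f1 : ∀ x y, P x → P y → Ev (pw x + pw y - f 0) → ev R (pw x) y = ev R (pw (a 0)) (b 0) → ∃ i, Sg (pw x + pw y) (f i)
  f2 : ∀ i k, i ≠ k → ∃ r, ev R (f i) r = 0 ∧ ev R (f k) r ≠ 0
  f3 : ∀ i k, i ≠ k → ∃ x, P x ∧ Even (ev R (f 0) x) ∧ Sg (f k - ev R (f k) x • pw x) (f i) ∧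
    ∀ l, l ≠ i → l ≠ k → ev R (f l) x = 0
  k1 : ∀ x ∈ L1, τ x = x ∧ ∀ l, Sg (f l - ev R (f l) x • pw x) (f l)
  k2 : ∀ x ∈ L2, ev R (pw x.1) x.2 = 0 ∧ (τ x.1 = x.1 ∧ τ x.2 = x.2 ∨ x.2 = τ x.1 ∧ S2 R τ x.1) ∧
    ∀ l, Sg (f l - ev R (f l) x.1 • pw x.1 - ev R (f l) x.2 • pw x.2) (f l)
  f5 : ∀ m, Iv R τ (bv m) → (∀ x ∈ L1, Ev (ev R (bv m) x • pw x)) →
    (∀ x ∈ L2, Ev (ev R (bv m) x.1 • pw x.1 + ev R (bv m) x.2 • pw x.2)) → bv m = 0 ∨ Ev (bv m - f 0)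
  f6 : ∀ m, Iv R τ (bv m) → bv m = 0 ∨ ∃ x, (τ x = x ∨ S2 R τ x) ∧ Odd (ev R (bv m) x)

/-- torus data: `D` is the torus, `N` its normalizer, `a β = h_β(i)` -/
structure TD (Γ M : Type*) [Group Γ] [CommGroup M] where
  i : M
  N : Subgroup Γ
  D : Subgroup Γ
  π : N →* Perm ι
  χ : Γ → ι → M
  a : ι → Γ
  hi : orderOf i = 4
  sq : ∀ x : M, x * x = 1 → x = 1 ∨ x = i ^ 2
  le : D ≤ N
  ker : ∀ n, π n = 1 ↔ n.1 ∈ D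
  mW : ∀ n, π n ∈ R.W
  cτ : ∀ n r, π n (τ r) = τ (π n r)
  mul : ∀ d ∈ D, ∀ e ∈ D, ∀ r, χ (d * e) r = χ d r * χ e r
  lin : ∀ d ∈ D, ∀ r, χ d r = ∏ j, χ d (R.simple j) ^ R.cf r j
  inj : ∀ d ∈ D, (∀ r, χ d r = 1) → d = 1
  cj : ∀ d ∈ D, ∀ (n : N) r, χ (n * d * n⁻¹) (π n r) = χ d r
  tw : ∃ u : ℤ, ∀ d ∈ D, ∀ r, χ d (τ r) = χ d r ^ (4 * u + 1)
  ha : ∀ β, τ β = β → a β ∈ D ∧ ∀ r, χ (a β) r = i ^ R.pair β r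
  s1 : ∀ c, τ c = c → ∀ t ∈ D, χ t c = i ^ 2 → ∃ g, ∃ h : g * t * g⁻¹ ∈ N, π ⟨_, h⟩ = R.refl c
  s2 : ∀ c, S2 R τ c → ∀ t ∈ D, χ t c = i ^ 2 → ∃ g, ∃ h : g * t * g⁻¹ ∈ N, π ⟨_, h⟩ = R.refl c * R.refl (τ c)
  br : ∀ (g : Γ) (X : Set Γ), (∀ x ∈ X, x ∈ D ∧ g * x * g⁻¹ ∈ D) → (∀ r, ∃ x ∈ X, χ x r ≠ 1) → g ∈ N

/-- the group-theoretic part (helper27, `H27/FX1`) -/
def MT : Prop := ∀ (ι κ Γ M : Type) [Fintype κ] [DecidableEq κ] [Fintype ι] [DecidableEq ι] (R : RootSys ι κ) (τ : Perm ι) [Group Γ] [Finite Γ] [CommGroup M],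
  RD R τ → TD R τ Γ M → commutator Γ = ⊤ → Subgroup.center Γ = ⊥ → SF Γ

/-- torus data from a Steinberg endomorphism acting on the torus as `± q τ` -/
def LT : Prop := ∀ (ι κ K G Γ : Type) [Fintype κ] [DecidableEq κ] [Fintype ι] [DecidableEq ι] (R : RootSys ι κ) (τ : Perm ι)
  (C : Chev R) [Field K] [IsAlgClosed K] [Group G] [Group Γ] (S : St C K G) (Φ : S.Fr) (p q : ℕ) [Fact p.Prime] [CharP K p]
  (e : Γ →* G), H11.AS.Em p Φ e → Subgroup.center G = ⊥ → (∀ r, Φ.p ^ Φ.e r = q) →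
  (q % 4 = 1 ∧ (∀ r, Φ.ρ r = τ r) ∨ q % 4 = 3 ∧ ∀ r, Φ.ρ r = R.neg (τ r)) → 1 < q → Nonempty (TD R τ Γ Kˣ)

end H27.FX
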