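import Cfsg.Agent.H11.SUMat

/-! # Laws in alternating and classical groups (Jones) -/

set_option autoImplicit false
set_option linter.unusedSectionVars false

namespace H27.Law
open Matrix Polynomial Function Subgroup Cfsg
open scoped MatrixGroups

section pp

/-- upper unitriangular -/
def uu {R : Type*} [CommRing R] (a : R) : SL(2, R) := ⟨!![1, a; 0, 1], by simp [det_fin_two]⟩
/-- lower unitriangular -/
def ll {R : Type*} [CommRing R] (a : R) : SL(2, R) := ⟨!![1, 0; a, 1], by simp [det_fin_two]⟩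

theorem cm {n R : Type*} [Fintype n] [DecidableEq n] [CommRing R] (a b : Matrix.SpecialLinearGroup n R) :
    (a * b).1 = a.1 * b.1 := rfl
theorem c1 {n R : Type*} [Fintype n] [DecidableEq n] [CommRing R] : (1 : Matrix.SpecialLinearGroup n R).1 = 1 := rfl
theorem uu_coe {R : Type*} [CommRing R] (a : R) : (uu a).1 = !![1, a; 0, 1] := rfl
theorem ll_coe {R : Type*} [CommRing R] (a : R) : (ll a).1 = !![1, 0; a, 1] := rfl

theorem ulu {R : Type*} [CommRing R] (a b c : R) (N : SL(2, R)) :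
    (uu a * ll b * uu c * N).1 0 0 - a * (uu a * ll b * uu c * N).1 1 0 = N.1 0 0 + c * N.1 1 0 ∧
      (uu a * ll b * uu c * N).1 1 0 = N.1 1 0 + b * (N.1 0 0 + c * N.1 1 0) := by
  rw [cm, cm, cm, uu_coe, uu_coe, ll_coe]
  simp only [mul_fin_two, mul_apply, Fin.sum_univ_two, of_apply,
    cons_val', cons_val_zero, cons_val_one, cons_val_fin_one]
  constructor <;> ring

/-- left exponent -/
noncomputable def al (x : ℕ × Bool) : ℤ[X] := cond x.2 (X ^ (2 * x.1)) (-X ^ (2 * x.1 + 1))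
/-- right exponent -/
noncomputable def be (x : ℕ × Bool) : ℤ[X] := cond x.2 (X ^ (2 * x.1 + 1)) (-X ^ (2 * x.1))
/-- sign -/
noncomputable def ep (x : ℕ × Bool) : ℤ[X] := cond x.2 X (-X)
/-- the free generators -/
noncomputable def gen (i : ℕ) : SL(2, ℤ[X]) := uu (X ^ (2 * i)) * ll X * uu (X ^ (2 * i + 1))

theorem letter (x : ℕ × Bool) : cond x.2 (gen x.1) (gen x.1)⁻¹ = uu (al x) * ll (ep x) * uu (be x) := by
  obtain ⟨i, _ | _⟩ := x
  · refine inv_eq_of_mul_eq_one_right (Subtype.ext ?_)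
    rw [gen, cm, cm, cm, cm, cm, c1, uu_coe, uu_coe, uu_coe, uu_coe, ll_coe, ll_coe]
    simp only [al, ep, be, cond_false, mul_fin_two, one_fin_two]
    ring_nf
  · rfl

theorem unit_lc {m n : ℕ} (h : m ≠ n) {s t : ℤ[X]} (hs : s = X ^ m ∨ s = -X ^ m) (ht : t = X ^ n ∨ t = -X ^ n) :
    IsUnit (s + t).leadingCoeff := by
  wlog hl : m < n generalizing m n s t
  · rw [add_comm]; exact this h.symm ht hs (by omega)
  have h1 : s.degree = m := by rcases hs with rfl | rfl <;> simp
  have h2 : t.degree = n := by rcases ht with rfl | rfl <;> simp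
  rw [leadingCoeff_add_of_degree_lt (by rw [h1, h2]; exact_mod_cast hl)]
  rcases ht with rfl | rfl <;> simp

theorem unit_ab {x y : ℕ × Bool} (h : y.1 = x.1 → y.2 = x.2) : IsUnit (be y + al x).leadingCoeff := by
  obtain ⟨i, _ | _⟩ := x <;> obtain ⟨j, _ | _⟩ := y
  · exact unit_lc (m := 2 * j) (n := 2 * i + 1) (by omega) (.inr rfl) (.inr rfl)
  · exact unit_lc (m := 2 * j + 1) (n := 2 * i + 1) (by simp at h; omega) (.inl rfl) (.inr rfl)
  · exact unit_lc (m := 2 * j) (n := 2 * i) (by simp at h; omega) (.inr rfl) (.inl rfl)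
  · exact unit_lc (m := 2 * j + 1) (n := 2 * i) (by omega) (.inl rfl) (.inl rfl)

theorem step (x : ℕ × Bool) {p r : ℤ[X]} (hp : IsUnit p.leadingCoeff) (h : r.degree ≤ p.degree) :
    p.degree < (r + ep x * p).degree ∧ IsUnit (r + ep x * p).leadingCoeff := by
  have p0 : p ≠ 0 := by rintro rfl; simp at hp
  have e : (ep x).degree = 1 ∧ IsUnit (ep x).leadingCoeff := by obtain ⟨i, _ | _⟩ := x <;> simp [ep]
  have h1 : p.degree < (ep x * p).degree := by
    rw [degree_mul, e.1, degree_eq_natDegree p0]; norm_cast; omega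
  rw [degree_add_eq_right_of_degree_lt (h.trans_lt h1), leadingCoeff_add_of_degree_lt (h.trans_lt h1),
    leadingCoeff_mul]
  exact ⟨h1, e.2.mul hp⟩

theorem inv_word (L : List (ℕ × Bool)) : ∀ x, FreeGroup.IsReduced (x :: L) →
    let M := (FreeGroup.lift gen (FreeGroup.mk (x :: L))).1
    (M 0 0 - al x * M 1 0).degree < (M 1 0).degree ∧ IsUnit (M 1 0).leadingCoeff := by
  induction L with
  | nil =>
    intro x _
    have := step x (p := 1) (r := 0) (by simp) (by simp)
    simp only [FreeGroup.lift_mk, List.map, List.prod_cons, List.prod_nil, letter]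
    rw [(ulu ..).1, (ulu ..).2]
    simpa using this
  | cons y L ih =>
    intro x h
    rw [FreeGroup.isReduced_cons_cons] at h
    obtain ⟨h1, h2⟩ := ih y h.2
    rw [FreeGroup.lift_mk] at h1 h2
    rw [FreeGroup.lift_mk, List.map_cons, List.prod_cons, letter]
    generalize (List.map (fun x : ℕ × Bool => cond x.2 (gen x.1) (gen x.1)⁻¹) (y :: L)).prod = N at h1 h2
    have hu := unit_ab (x := y) (y := x) h.1
    have c0 : be x + al y ≠ 0 := by intro e; simp [e] at hu
    have h3 : (N.1 1 0).degree ≤ ((be x + al y) * N.1 1 0).degree := by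
      rw [degree_mul]; exact le_add_of_nonneg_left (zero_le_degree_iff.2 c0)
    have e : N.1 0 0 + be x * N.1 1 0 = (N.1 0 0 - al y * N.1 1 0) + (be x + al y) * N.1 1 0 := by ring
    have := step x (p := N.1 0 0 + be x * N.1 1 0) (r := N.1 1 0)
      (by rw [e, leadingCoeff_add_of_degree_lt (h1.trans_le h3), leadingCoeff_mul]; exact hu.mul h2)
      (by rw [e, degree_add_eq_right_of_degree_lt (h1.trans_le h3)]; exact h3)
    dsimp only
    rwa [(ulu ..).1, (ulu ..).2]

end pp

/-- `w` takes central values only -/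
def CL (w : FreeGroup ℕ) (X : Type*) [Group X] : Prop := ∀ f : ℕ → X, FreeGroup.lift f w ∈ center X

/-- embeddability -/
def Emb (Y X : Type*) [Group Y] [Group X] : Prop := ∃ f : Y →* X, Injective f

variable {w : FreeGroup ℕ} {X Y Z : Type*} [Group X] [Group Y] [Group Z]

theorem map_lift (φ : Y →* X) (f : ℕ → Y) : φ (FreeGroup.lift f w) = FreeGroup.lift (φ ∘ f) w :=
  FreeGroup.lift_unique (φ.comp (FreeGroup.lift f)) (by simp)

theorem Emb.trans (h : Emb Z Y) (h' : Emb Y X) : Emb Z X := by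
  obtain ⟨f, hf⟩ := h; obtain ⟨g, hg⟩ := h'; exact ⟨g.comp f, hg.comp hf⟩

theorem CL.emb (h : CL w X) (e : Emb Y X) : CL w Y := fun f => by
  obtain ⟨φ, hφ⟩ := e
  refine mem_center_iff.2 fun y => hφ ?_
  rw [map_mul, map_mul, map_lift]; exact mem_center_iff.1 (h _) _

theorem cl_quot {G : Type*} [Group G] (e : G ≃* X ⧸ center X) (h : ∀ f : ℕ → G, FreeGroup.lift f w = 1) :
    CL w X := fun f => by
  rw [← QuotientGroup.eq_one_iff, ← e.symm.map_eq_one_iff]
  exact (map_lift (e.symm.toMonoidHom.comp (QuotientGroup.mk' _)) f).trans (h _)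

theorem Emb.comm (h : Emb Y X) (hY : commutator Y = ⊤) {N : Subgroup X} (hN : commutator X ≤ N) : Emb Y N := by
  obtain ⟨f, hf⟩ := h
  have : ∀ y, f y ∈ N := fun y => hN <| by
    have : f y ∈ (commutator Y).map f := ⟨y, hY ▸ mem_top y, rfl⟩
    rw [map_commutator_eq] at this
    exact commutator_mono le_top le_top this
  exact ⟨f.codRestrict N this, fun a b e => hf (congrArg Subtype.val e)⟩

theorem exists_D (hw : w ≠ 1) : ∃ D : ℕ, ∀ (F : Type) [Field F] [Fintype F], CL w SL(2, F) →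
    Fintype.card F ≤ D := by
  obtain ⟨x, L, e⟩ : ∃ x L, w.toWord = x :: L := by
    rcases h : w.toWord with _ | ⟨x, L⟩
    · exact absurd (FreeGroup.toWord_eq_nil_iff.1 h) hw
    · exact ⟨x, L, rfl⟩
  have h := (inv_word L x (e ▸ FreeGroup.isReduced_toWord)).2
  rw [← e, FreeGroup.mk_toWord] at h
  refine ⟨((FreeGroup.lift gen w).1 1 0).natDegree, fun F _ _ hc => not_lt.1 fun hlt => ?_⟩
  have h0 : ((FreeGroup.lift gen w).1 1 0).map (Int.castRingHom F) = 0 := by
    refine eq_zero_of_natDegree_lt_card_of_eval_eq_zero _ injective_id (fun t => ?_) (natDegree_map_le.trans_lt hlt)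
    have h1 := hc (SpecialLinearGroup.map (eval₂RingHom (Int.castRingHom F) t) ∘ gen)
    rw [← map_lift] at h1
    obtain ⟨r, -, hr⟩ := Matrix.SpecialLinearGroup.mem_center_iff.1 h1
    rw [eval_map]
    simpa using (congrFun (congrFun hr 1) 0).symm
  exact (h.map (Int.castRingHom F)).ne_zero (by rw [← coeff_natDegree, ← coeff_map, h0, coeff_zero])

theorem hom_eq_one (hY : commutator Y = ⊤) {A : Type*} [CommMonoid A] (f : Y →* A) (y : Y) : f y = 1 := by
  have := Abelianization.commutator_subset_ker f.toHomUnits (hY ▸ mem_top y)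
  exact congrArg Units.val this

theorem emb_perm [Fintype Y] {n : ℕ} (h : Fintype.card Y ≤ n) : Emb Y (Equiv.Perm (Fin n)) := by
  obtain ⟨e⟩ := Function.Embedding.nonempty_of_card_le (α := Y) (β := Fin n) (by simpa using h)
  exact Emb.trans ⟨MulAction.toPermHom Y Y, MulAction.toPerm_injective⟩ ⟨_, Equiv.Perm.viaEmbeddingHom_injective e⟩

theorem emb_alt [Fintype Y] (hY : commutator Y = ⊤) {n : ℕ} (h : Fintype.card Y ≤ n) :
    Emb Y (alternatingGroup (Fin n)) :=
  (emb_perm h).comm hY (Abelianization.commutator_subset_ker Equiv.Perm.sign)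

variable {F : Type*} [Field F]

theorem emb_su [Fintype Y] (hY : commutator Y = ⊤) {n : ℕ} (h : Fintype.card Y ≤ n) (q : ℕ) :
    Emb Y (SU n F q) := by
  obtain ⟨f, hf⟩ := emb_perm h
  let g : Y →* Matrix (Fin n) (Fin n) F := permMatrixHom.comp f
  refine ⟨MonoidHom.mk' (fun y => ⟨⟨g y, hom_eq_one hY (detMonoidHom.comp g) y⟩, fun u v => ?_⟩)
    fun a b => Subtype.ext (Subtype.ext (map_mul g a b)), fun a b e => hf ?_⟩
  · change hermForm n F q (g y *ᵥ u) (g y *ᵥ v) = _
    simp only [g, hermForm, MonoidHom.comp_apply, permMatrixHom_apply, permMatrix_mulVec, Function.comp_apply]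
    exact Equiv.sum_comp _ fun i => u i * v i ^ q
  · have e' : g a = g b := congrArg (·.1.1) e
    rw [← _root_.inv_inj]
    exact Equiv.ext fun i => by
      have := congrFun (congrFun e' i) ((f a)⁻¹ i)
      simp [g, Equiv.Perm.permMatrix, PEquiv.toMatrix_apply] at this
      exact this.symm

theorem emb_su_sl (n q : ℕ) : Emb (SU n F q) SL(n, F) := ⟨_, subtype_injective _⟩

/-- block matrix -/
def bk {m : ℕ} (k : ℕ) : SL(m, F) →* SL(m + k, F) :=
  MonoidHom.mk' (fun g => ⟨reindex finSumFinEquiv finSumFinEquiv (fromBlocks g.1 0 0 1), by simp⟩) fun a b =>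
    Subtype.ext (by
      change reindex _ _ (fromBlocks (a.1 * b.1) 0 0 1) = reindex _ _ (fromBlocks a.1 0 0 1) * reindex _ _ (fromBlocks b.1 0 0 1)
      simp [fromBlocks_multiply])

theorem bk_inj {m : ℕ} (k : ℕ) : Injective (bk k : SL(m, F) →* _) := fun _ _ e =>
  Subtype.ext (fromBlocks_inj.1 ((reindex _ _).injective (congrArg Subtype.val e))).1

theorem emb_sl {m n : ℕ} (h : m ≤ n) : Emb SL(m, F) SL(n, F) := by
  obtain ⟨k, rfl⟩ := Nat.exists_eq_add_of_le h; exact ⟨_, bk_inj k⟩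

theorem emb_su_su {m n : ℕ} (h : m ≤ n) (q : ℕ) : Emb (SU m F q) (SU n F q) := by
  obtain ⟨k, rfl⟩ := Nat.exists_eq_add_of_le h
  refine ⟨((bk k).comp (SU m F q).subtype).codRestrict _ fun g u v => ?_, fun a b e =>
    Subtype.ext (bk_inj k (congrArg Subtype.val e))⟩
  have := g.2 (u ∘ Fin.castAdd k) (v ∘ Fin.castAdd k)
  change hermForm m F q (g.1.1 *ᵥ _) (g.1.1 *ᵥ _) = _ at this
  change hermForm _ F q (reindex finSumFinEquiv finSumFinEquiv (fromBlocks g.1.1 0 0 1) *ᵥ _)
    (reindex finSumFinEquiv finSumFinEquiv (fromBlocks g.1.1 0 0 1) *ᵥ _) = _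
  simp only [hermForm, Function.comp_apply] at this
  simp only [hermForm, Fin.sum_univ_add, reindex_apply, submatrix_mulVec_equiv, Equiv.symm_symm, Function.comp_apply,
    finSumFinEquiv_symm_apply_castAdd, finSumFinEquiv_symm_apply_natAdd, fromBlocks_mulVec, Sum.elim_inl,
    Sum.elim_inr, zero_mulVec, one_mulVec, add_zero, zero_add, ← this]
  rfl

/-- Levi matrix -/
def lv {m : ℕ} : SL(m, F) →* Matrix (Fin m ⊕ Fin m) (Fin m ⊕ Fin m) F where
  toFun g := fromBlocks g.1 0 0 (g⁻¹).1ᵀ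
  map_one' := by simp
  map_mul' a b := by simp [fromBlocks_multiply]

theorem lv_inj {m : ℕ} : Injective (lv : SL(m, F) →* _) := fun _ _ e => Subtype.ext (fromBlocks_inj.1 e).1

theorem emb_sp (m : ℕ) : Emb SL(m, F) (symplecticGroup (Fin m) F) :=
  ⟨(lv (F := F)).codRestrict (symplecticGroup (Fin m) F) fun g => by
    change fromBlocks _ _ _ _ ∈ _
    rw [SymplecticGroup.mem_iff, fromBlocks_transpose, J, fromBlocks_multiply, fromBlocks_multiply]
    simp [← transpose_mul, adjugate_mul, mul_adjugate], fun a b e => lv_inj (congrArg Subtype.val e)⟩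

theorem lv_plus {m : ℕ} (g : SL(m, F)) (v : Fin m ⊕ Fin m → F) :
    quadFormPlus m F (lv g *ᵥ v) = quadFormPlus m F v := by
  change (fromBlocks g.1 0 0 (g⁻¹).1ᵀ *ᵥ v) ∘ Sum.inl ⬝ᵥ (fromBlocks g.1 0 0 (g⁻¹).1ᵀ *ᵥ v) ∘ Sum.inr =
    v ∘ Sum.inl ⬝ᵥ v ∘ Sum.inr
  simp only [fromBlocks_mulVec, Sum.elim_comp_inl, Sum.elim_comp_inr, zero_mulVec, add_zero, zero_add]
  rw [mulVec_transpose, dotProduct_comm, ← dotProduct_mulVec, mulVec_mulVec, ← cm,
    inv_mul_cancel, c1, one_mulVec, dotProduct_comm]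

theorem emb_isom {ι : Type} [Fintype ι] [DecidableEq ι] {Q : (ι → F) → F} (f : Y →* Matrix ι ι F)
    (hf : Injective f) (h : ∀ y v, Q (f y *ᵥ v) = Q v) : Emb Y (isometryGroup F Q) :=
  ⟨f.toHomUnits.codRestrict _ fun y u _ => h y u, fun _ _ e => hf (congrArg (·.1.1) e)⟩

theorem emb_plus (m : ℕ) : Emb SL(m, F) (isometryGroup F (quadFormPlus m F)) := emb_isom lv lv_inj lv_plus

theorem emb_odd (m : ℕ) : Emb SL(m, F) (isometryGroup F (quadFormOdd m F)) :=
  emb_isom ⟨⟨fun g => fromBlocks 1 0 0 (lv g), by simp⟩, fun a b => by simp [fromBlocks_multiply]⟩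
    (fun _ _ e => lv_inj (fromBlocks_inj.1 e).2.2.2) fun g v => by
      have := lv_plus g (v ∘ Sum.inr)
      simp only [quadFormPlus, Function.comp_apply] at this
      simp [quadFormOdd, fromBlocks_mulVec, this]

theorem emb_minus (m : ℕ) (a b : F) : Emb SL(m, F) (isometryGroup F (quadFormMinus m F a b)) :=
  emb_isom ⟨⟨fun g => fromBlocks (lv g) 0 0 1, by simp⟩, fun a b => by simp [fromBlocks_multiply]⟩
    (fun _ _ e => lv_inj (fromBlocks_inj.1 e).1) fun g v => by
      have := lv_plus g (v ∘ Sum.inl)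
      simp only [quadFormPlus, Function.comp_apply] at this
      simp [quadFormMinus, fromBlocks_mulVec, this]

theorem card_mat {G ι : Type*} [Group G] [Fintype ι] [Fintype F] (e : G ≃* X ⧸ center X) (f : X → Matrix ι ι F)
    (hf : Injective f) {M d : ℕ} (h1 : Fintype.card F ≤ M) (h2 : Fintype.card ι ≤ d) :
    Nat.card G ≤ M ^ (d * d) := by
  classical
  haveI := Finite.of_injective f hf
  have : 1 ≤ M := Fintype.card_pos.trans_le h1
  calc Nat.card G = Nat.card (X ⧸ center X) := Nat.card_congr e.toEquiv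
    _ ≤ Nat.card X := Nat.card_le_card_of_surjective _ QuotientGroup.mk_surjective
    _ ≤ Nat.card (Matrix ι ι F) := Nat.card_le_card_of_injective f hf
    _ = Fintype.card F ^ (Fintype.card ι * Fintype.card ι) := by
      rw [Nat.card_eq_fintype_card, pow_mul, ← Fintype.card_fun, ← Fintype.card_fun]; rfl
    _ ≤ M ^ (d * d) := (Nat.pow_le_pow_left h1 _).trans (Nat.pow_le_pow_right this (Nat.mul_le_mul h2 h2))

theorem sl2_perf [Fintype F] (h : 4 ≤ Fintype.card F) : commutator SL(2, F) = ⊤ := by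
  classical
  obtain ⟨a, ha⟩ : ∃ a : F, a ∉ ({0, 1, -1} : Finset F) := by
    by_contra! hc
    have := (Finset.card_le_card (s := Finset.univ) fun a _ => hc a).trans Finset.card_le_three
    rw [Finset.card_univ] at this; omega
  simp only [Finset.mem_insert, Finset.mem_singleton, not_or] at ha
  exact SL2.commutator_eq_top ha.1 fun e => (sq_eq_one_iff.1 e).elim ha.2.1 ha.2.2

theorem exists_sqrt [Fintype F] {q : ℕ} (h : Fintype.card F = q ^ 2) :
    ∃ (K : Type) (_ : Field K) (_ : Fintype K), Fintype.card K = q := by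
  obtain ⟨p, _, n, hp, e⟩ := FiniteField.card' F
  haveI := Fact.mk hp
  obtain ⟨k, -, rfl⟩ := (Nat.dvd_prime_pow hp).1 (show q ∣ p ^ (n : ℕ) from e ▸ h ▸ dvd_pow_self q two_ne_zero)
  have k0 : k ≠ 0 := by rintro rfl; have := Fintype.one_lt_card (α := F); simp [h] at this
  letI := Fintype.ofFinite (GaloisField p k)
  exact ⟨GaloisField p k, inferInstance, this, by rw [← Nat.card_eq_fintype_card, GaloisField.card p k k0]⟩

theorem jones (hw : w ≠ 1) : ∃ N : ℕ, ∀ (G : Type*) [Group G] [Finite G],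
    (IsAlternating G ∨ IsPSL G ∨ IsPSp G ∨ IsPSU G ∨ IsPOmegaOdd G ∨ IsPOmegaPlus G ∨ IsPOmegaMinus G) →
    (∀ f : ℕ → G, FreeGroup.lift f w = 1) → Nat.card G ≤ N := by
  obtain ⟨D, hD⟩ := exists_D hw
  obtain ⟨p, hp, pp⟩ := Nat.exists_infinite_primes (D + 4)
  haveI := Fact.mk pp
  have hY : commutator SL(2, ZMod p) = ⊤ := sl2_perf (by simp; omega)
  have h0 : ∀ {X : Type} [Group X], CL w X → ¬ Emb SL(2, ZMod p) X := fun h e => by
    have := hD _ (h.emb e); simp at this; omega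
  obtain ⟨n0, hn0⟩ : ∃ n0, n0 = Fintype.card SL(2, ZMod p) := ⟨_, rfl⟩
  have h1 : ∀ {X F : Type} [Group X] [Field F] [Fintype F] {n : ℕ}, 2 ≤ n → CL w X →
      (∀ {Y : Type} [Group Y], commutator Y = ⊤ → Emb Y SL(n, F) → Emb Y X) →
      n ≤ n0 ∧ Fintype.card F ≤ (D + 4) ^ 2 := fun {X F} _ _ _ n hn h e => by
    refine ⟨not_lt.1 fun hl => h0 h (e hY ((emb_su hY (by omega) 0).trans (emb_su_sl ..))), ?_⟩
    by_cases h4 : 4 ≤ Fintype.card F
    · have := hD F (h.emb (e (sl2_perf h4) (emb_sl hn))); nlinarith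
    · nlinarith
  refine ⟨n0.factorial + ((D + 4) ^ 2) ^ ((2 * n0 + 2) * (2 * n0 + 2)), fun G _ _ hG hl => ?_⟩
  rcases hG with ⟨n, -, ⟨e⟩⟩ | hG
  · have : n ≤ n0 := not_lt.1 fun hlt => h0 (X := alternatingGroup (Fin n)) (fun f => by
      have := (map_lift e.symm.toMonoidHom f).trans (hl _)
      rw [e.symm.map_eq_one_iff.1 this]; exact one_mem _) (emb_alt hY (by omega))
    refine le_add_right ((Nat.card_congr e.toEquiv).trans_le (((alternatingGroup _).card_le_card_group).trans ?_))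
    rw [Nat.card_perm, Nat.card_eq_fintype_card, Fintype.card_fin]
    exact Nat.factorial_le this
  refine le_add_left ?_
  rcases hG with ⟨F, _, _, n, hn, -, ⟨e⟩⟩ | ⟨F, _, _, n, hn, -, ⟨e⟩⟩ | ⟨F, _, _, n, q, hq, hn, -, ⟨e⟩⟩ |
    ⟨F, _, _, n, hn, -, ⟨e⟩⟩ | ⟨F, _, _, n, hn, ⟨e⟩⟩ | ⟨F, _, _, n, a, b, hn, -, ⟨e⟩⟩
  · obtain ⟨a, b⟩ := h1 hn (cl_quot e hl) fun _ h => h
    exact card_mat e _ Subtype.val_injective b (by simp; omega)
  · obtain ⟨a, b⟩ := h1 hn (cl_quot e hl) fun _ h => h.trans (emb_sp n)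
    exact card_mat e _ Subtype.val_injective b (by simp; omega)
  · have h := cl_quot e hl
    have a : n ≤ n0 := not_lt.1 fun hlt => h0 h (emb_su hY (by omega) q)
    obtain ⟨K, _, _, hK⟩ := exists_sqrt hq
    obtain ⟨j⟩ := H11.nonempty_su_two_equiv hq hK
    have b := hD K (h.emb (Emb.trans ⟨j.symm.toMonoidHom, j.symm.injective⟩ (emb_su_su (by omega) q)))
    exact card_mat e _ (Subtype.val_injective.comp Subtype.val_injective)
      (hq ▸ Nat.pow_le_pow_left (by omega) 2) (by simp; omega)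
  · obtain ⟨a, b⟩ := h1 (F := F) (n := n) (by omega) (cl_quot e hl) fun hY h => (h.trans (emb_odd n)).comm hY le_rfl
    exact card_mat e _ (Units.val_injective.comp (Subtype.val_injective.comp Subtype.val_injective)) b
      (by simp; omega)
  · obtain ⟨a, b⟩ := h1 (F := F) (n := n) (by omega) (cl_quot e hl) fun hY h => (h.trans (emb_plus n)).comm hY le_rfl
    exact card_mat e _ (Units.val_injective.comp (Subtype.val_injective.comp Subtype.val_injective)) b
      (by simp; omega)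
  · obtain ⟨a, b⟩ := h1 (F := F) (n := n - 1) (by omega) (cl_quot e hl) fun hY h =>
      (h.trans (emb_minus _ a b)).comm hY le_rfl
    exact card_mat e _ (Units.val_injective.comp (Subtype.val_injective.comp Subtype.val_injective)) b
      (by simp; omega)

end H27.Law
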