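/-
S5161: the kit, part 2 (one 2-local subgroup).
-/
import Cfsg.Agent.H27.FK1
import Cfsg.Agent.H25.NM
import Cfsg.Agent.H25.CP

set_option autoImplicit false
set_option linter.unusedSectionVars false

namespace H27.FK
open Cfsg Subgroup H25 Function H25.FS
open scoped commutatorElement

section
variable {G : Type*} [Group G] [Finite G] {E F : FS G} {V Q H : Subgroup G}

theorem nml_NF (h : E.Nml F 2) (h1 : V ≤ E.S) (h2 : F.S ≤ nz V) : (E.NF V).Nml (F.NF V) 2 := by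
  have h3 := h1.trans h.S_le
  have fn := FN_of_le_nz h3 h2
  have e1 : (E.NF V).S = E.S := inf_eq_left.2 (h.S_le.trans h2)
  have e2 : (F.NF V).S = F.S := inf_eq_left.2 h2
  refine ⟨⟨h.sat.NF (h.wn.fn fn h1), h.satF.NF fn, (h.satF.NF fn).inv_of_strong (NF_mono h.le h1) ?_ fun P R g k a b c d e => ?_⟩,
    fun a ha => ?_⟩
  · rw [e1]
    exact ⟨e2 ▸ h.S_le, fun P g K => h.sc.2 P g (K.of_le (F.NF_le V))⟩
  · obtain ⟨-, g', a1, a2, a3⟩ := (NK_T h1 le_rfl).1 a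
    obtain ⟨-, k', b1, b2, b3⟩ := (NK_T h3 le_rfl).1 b
    have := h.inv.conj' a2 b2 (sup_le (e1 ▸ c) h1) (sup_le_sup_right d V)
      (by rw [cj_sup, mem_nz.1 a1, ← a3.cj_eq]; exact sup_le_sup_right e V)
    rw [cj_sup, mem_nz.1 b1, ← b3.cj_eq' d] at this
    exact (NK_T h1 le_rfl).2 ⟨e1.ge.trans' (le_sup_left.trans this.le), _, mul_mem (mul_mem b1 a1) (inv_mem b1), this,
      a3.conj₂ b3 d e⟩
  · rw [e1, NF_A h1 e1.ge] at ha
    obtain ⟨b, b1, b2, b3⟩ := h.ext a ha.1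
    have e3 : (F.NF V).C E.S = F.C E.S := congrArg (· ⊓ cz E.S) e2
    rw [e1, e3, NF_A (le_sup_of_le_left h1) ((sup_le h.S_le inf_le_left).trans e2.ge)]
    exact ⟨b, ⟨b1, (b2.mono h1).mem_nz ha.2⟩, b2, b3⟩

theorem loc (S : Sylow 2 G) (h : E.Nml (ofSub ⊤ S.1) 2) (h1 : V ≤ E.S) (h2 : S.1 ≤ nz V) (h3 : ChP 2 (nz V)) :
    ∃ H, H ≤ nz V ∧ nz V ≤ nz H ∧ S.1 ⊓ H = E.S ∧ ofSub H E.S ≤ E := by
  have k := nml_NF h h1 h2
  rw [NF, NF, NK_ofSub (S := S.1) le_top (h1.trans h.S_le) (cz_le_nz V) le_rfl, top_inf_eq, inf_eq_left.2 h2] at k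
  obtain ⟨H, a, b, c, d⟩ := (mdl_ofSub S.isPGroup' ((syl_sylow S).mono_right h2 le_top) h3).exists_normal k
  have e1 : (E.NK (nz V) V).S = E.S := inf_eq_left.2 (h.S_le.trans h2)
  rw [e1] at c d
  exact ⟨H, a, b, c, d ▸ E.NK_le _ _⟩

theorem resid_sup_le (h : Q ≤ nz H) (hQ : IsPGroup 2 Q) : resid 2 (H ⊔ Q) ≤ H := resid_le_of_pel fun a ha => by
  obtain ⟨x, hx, y, hy, rfl⟩ := (mem_sup_of_le_nz_left h).1 ha
  obtain ⟨n, e⟩ := hQ ⟨y, hy⟩
  have k : ∀ m : ℕ, (x * y) ^ m * (y ^ m)⁻¹ ∈ H := fun m => by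
    induction m with
    | zero => simp
    | succ m ih =>
      convert mul_mem ih (conj_mem_of_mem_nz (h (pow_mem hy m)) hx) using 1
      rw [pow_succ, pow_succ]; group
  exact ⟨n, by simpa [show y ^ 2 ^ n = 1 from congrArg Subtype.val e] using k (2 ^ n)⟩

theorem perfect_of [IsSimpleGroup G] {S : Subgroup G} (h : ⁅S, S⁆ ≠ ⊥) : commutator G = ⊤ :=
  (IsSimpleGroup.eq_bot_or_eq_top_of_normal _ inferInstance).resolve_left fun e =>
    h (eq_bot_iff.2 (e ▸ commutator_mono le_top le_top))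

theorem lx' [IsSimpleGroup G] (S : Sylow 2 G) (h : LX S.1 V Q)
    (nc : ⁅⁅S.1, S.1⁆, S.1⁆ ≠ ⊥ → ∀ T, SCl S.1 T → ⁅⁅T, T⁆, T⁆ = ⊥ → T = ⊥) : SF G := by
  have s1 : S.1 ≤ nz V := (le_nz_self _).trans h.NS
  have q2 := S.isPGroup'.to_le h.QS
  have s0 : ⁅S.1, S.1⁆ ≠ ⊥ := fun e => h.nab (e ▸ bot_le)
  have s2 : ⁅S.1, S.1⁆ ≤ S := commutator_le_self' _
  refine sf_of (.refl G) (S' := S) ⟨sat_ofSub S.isPGroup' (syl_sylow S), fun e => s0 (eq_bot_iff.2 (s2.trans e.le)), fun E hE =>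
    or_iff_not_imp_left.2 fun n => ?_⟩
  have hT := SCl.of_sc hE.sc
  obtain ⟨z, z1, z2, z3⟩ := hT.exists_central S.isPGroup' n
  have z4 : z ∈ cz Q := fun x hx => z3 x (h.QS hx)
  have v1 : V ≤ E.S := (h.min (E.S ⊓ (Q ⊓ cz Q)) inf_le_right (fun m hm => mem_nz_of_conj_mem fun x hx =>
    have k := conj_mem_of_mem_nz (mem_nz_inf (h.nQ hm) (mem_nz_cz (h.nQ hm))) hx.2
    ⟨hT.2 x hx.1 m (h.QS k.1), k⟩) fun e => by
      have := e.le ⟨z1, h.cQ ⟨s1 (hT.1 z1), z4⟩, z4⟩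
      rw [mem_bot.1 this, orderOf_one] at z2
      omega).trans inf_le_left
  obtain ⟨H, a, b, c, d⟩ := loc S hE v1 s1 (chP_of (h.QS.trans s1) h.nQ q2 h.cQ)
  rcases h.nor (H ⊔ Q) le_sup_right (sup_le a (h.QS.trans s1)) (fun m hm => mem_nz_sup (b hm) (h.nQ hm)) with k | k
  · have t : E.S ≤ Q := c.ge.trans ((inf_le_inf_left _ le_sup_left).trans k)
    refine (n (nc (fun e => h.nab (fun x hx => h.cQ ⟨s1 (s2 hx), cz_anti h.QS ?_⟩)) _ hT
      (eq_bot_iff.2 (h.cl ▸ commutator_mono (commutator_mono t t) t)))).elim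
    exact commutator_eq_bot_iff_le_centralizer.1 e hx
  have r : resid 2 (nz V) ≤ H := (resid_resid _).ge.trans ((resid_mono k).trans (resid_sup_le ((h.QS.trans s1).trans b) q2))
  have t : S.1 ≤ E.S := hT.eq_of_perfect S (perfect_of s0) (c ▸ le_inf s2 ((commutator_mono s1 s1).trans (h.der.trans
    (sup_le (v1.trans (c.ge.trans inf_le_right)) r)))) fun g g1 g2 x hx => c.le ⟨S.1.mul_mem (S.1.inv_mem hx)
      (conj_mem_of_mem_nz g1 hx), by
        have k := r (mem_resid (h.NS g1) g2)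
        simpa [mul_assoc] using mul_mem (conj_mem_of_mem_nz' (b (s1 hx)) k) (inv_mem k)⟩
  have e : E.S = S := le_antisymm hT.1 t
  refine hE.inv.eq_of_A_le e fun g hg => ?_
  have g1 := A_le_nz _ _ hg
  obtain ⟨u, u1, w, w1, rfl⟩ := ((syl_sylow S).mono_right s1 le_top).exists_resid_mul (h.NS (e ▸ g1))
  exact (d _ _ (ofSub_T_of_mem le_rfl (mul_mem (r u1) ((c.ge (t w1)).2)) (mem_nz.1 g1).le)).mem_A g1

theorem lx_simple {L : Type*} [Group L] [IsSimpleGroup L] (S : Sylow 2 G) (π : nz V →* L) (h1 : Surjective π)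
    (h2 : π.ker = Q.subgroupOf (nz V)) (h3 : V ≤ Q) (h4 : Q ≤ nz V) (h5 : IsPGroup 2 Q) (h6 : nz S.1 ≤ nz V)
    (h7 : nz V ⊓ cz Q ≤ Q) (h8 : ⁅Q, Q⁆ ≤ V) (h9 : V ≤ cz Q) (h10 : ∀ W, W ≤ Q ⊓ cz Q → nz V ≤ nz W → W ≠ ⊥ → V ≤ W)
    (h11 : ∀ P : Sylow 2 L, ¬ IsMulCommutative P.1) : LX S.1 V Q := by
  have s1 : S.1 ≤ nz V := (le_nz_self _).trans h6
  have m : ∀ x : nz V, x.1 ∈ Q ↔ π x = 1 := fun x => by rw [← MonoidHom.mem_ker, h2]; rfl
  have n : nz V ≤ nz Q := fun g hg => mem_nz_of_conj_mem fun x hx =>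
    (m (⟨g, hg⟩ * ⟨x, h4 hx⟩ * ⟨g, hg⟩⁻¹)).2 (by
      rw [map_mul, map_mul, (m ⟨x, h4 hx⟩).1 hx, mul_one, map_inv, mul_inv_cancel])
  have nor : ∀ N, Q ≤ N → nz V ≤ nz N → nz V ⊓ N ≤ Q ∨ nz V ≤ N := fun N a c => by
    have : (N.subgroupOf (nz V)).Normal := ⟨fun x hx g => conj_mem_of_mem_nz (x := x.1) (c g.2) hx⟩
    rcases (this.map π h1).eq_bot_or_eq_top with e | e
    · exact .inl fun x hx => (m ⟨x, hx.1⟩).2 (e.le (mem_map_of_mem π hx.2))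
    · refine .inr fun x hx => ?_
      obtain ⟨y, y1, y2⟩ := e.ge (mem_top (π ⟨x, hx⟩))
      simpa using mul_mem (show y.1 ∈ N from y1) (a ((m (y⁻¹ * ⟨x, hx⟩)).2 (by simp [y2])))
  have nab : ¬ ⁅S.1, S.1⁆ ≤ Q := fun k => h11 (sylW s1 h1) ⟨⟨by
    rintro ⟨_, x, hx, rfl⟩ ⟨_, y, hy, rfl⟩
    refine Subtype.ext (commutatorElement_eq_one_iff_mul_comm.1 ?_)
    exact (map_commutatorElement π x y).symm.trans ((m _).1 (k (commutator_mem_commutator (g₁ := x.1) (g₂ := y.1) hx hy)))⟩⟩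
  have qs : Q ≤ S := ((syl_sylow S).mono_right s1 le_top).le_of_normal h5 h4 n
  have r := nz_le_nz_resid (p := 2) (nz V)
  refine ⟨h3, qs, h6, n, h7, eq_bot_iff.2 ((commutator_mono h8 le_rfl).trans
    (commutator_eq_bot_iff_le_centralizer.2 h9).le), h10, fun N a b c => (nor N a c).imp
      (fun k => (inf_le_inf_right N s1).trans k) (resid_le _ _).trans, ?_, nab⟩
  rcases nor (resid 2 (nz V) ⊔ Q) le_sup_right (fun g hg => mem_nz_sup (r (le_nz_self _ hg)) (n hg)) with k | k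
  · have : nz V ≤ S := ((syl_sylow S).mono_right s1 le_top).le_resid_sup.trans
      (sup_le ((le_inf (resid_le _ _) le_sup_left).trans (k.trans qs)) le_rfl)
    have p : IsPGroup 2 L := ((S.isPGroup'.to_le this).of_surjective π h1)
    have := Finite.of_surjective π h1
    have := p.isNilpotent
    exact (h11 default ⟨⟨fun a b => Subtype.ext (IsSimpleGroup.comm_iff_isSolvable.2 inferInstance a.1 b.1)⟩⟩).elim
  refine commutator_le.2 fun x hx y hy => ?_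
  have r' := (h4.trans (le_nz_self _)).trans r
  obtain ⟨a, ha, b, hb, rfl⟩ := (mem_sup_of_le_nz_left r').1 (k hx)
  obtain ⟨u, hu, v, hv, rfl⟩ := (mem_sup_of_le_nz_left r').1 (k hy)
  have e : ⁅a * b, u * v⁆ = a * (b * u * b⁻¹) * (b * v * b⁻¹ * a⁻¹ * (b * v * b⁻¹)⁻¹) * (⁅b, v⁆ * u⁻¹ * ⁅b, v⁆⁻¹) * ⁅b, v⁆ := by
    simp only [commutatorElement_def]; group
  have c := commutator_mem_commutator hb hv
  rw [e]
  exact mul_mem (mem_sup_right (mul_mem (mul_mem (mul_mem ha (conj_mem_of_mem_nz (r' hb) hu)) (conj_mem_of_mem_nz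
    (r' (mul_mem (mul_mem hb hv) (inv_mem hb))) (inv_mem ha))) (conj_mem_of_mem_nz (r' (h3 (h8 c))) (inv_mem hu))))
    (mem_sup_left (h8 c))

theorem exists_cen {S W : Subgroup G} (hS : IsPGroup 2 S) (h1 : W ≤ S) (h2 : S ≤ nz W) (h0 : W ≠ ⊥) :
    ∃ x ∈ W, x ∈ cz S ∧ x * x = 1 ∧ x ≠ 1 := by
  obtain ⟨⟨x, hx⟩, k⟩ := ne_bot_iff_exists_ne_one.1 (inf_cz_ne_bot hS h1 h2 h0)
  obtain ⟨n, e⟩ := hS ⟨x, h1 hx.1⟩
  replace e : x ^ 2 ^ n = 1 := congrArg Subtype.val e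
  replace k : x ≠ 1 := fun e => k (Subtype.ext e)
  induction n generalizing x with
  | zero => exact (k (by simpa using e)).elim
  | succ n ih =>
    by_cases c : x * x = 1
    · exact ⟨x, hx.1, hx.2, c, k⟩
    · exact ih (x * x) (mul_mem hx hx) (by rw [← sq, ← pow_mul, ← pow_succ', e]) c

end

theorem zc : ZC := fun G _ _ z Q h1 h2 h3 h4 h5 h6 h7 => by
  classical
  have z2 : z * z = 1 := by rw [← sq, ← h1, pow_orderOf_eq_one]
  have zp : ∀ x ∈ zpowers z, x ≠ 1 → x = z := fun x hx n => by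
    obtain ⟨i, hi, rfl⟩ := Finset.mem_image.1 (mem_zpowers_iff_mem_range_orderOf.1 hx)
    rw [h1, Finset.mem_range] at hi
    interval_cases i <;> simp_all
  have z1 : z ≠ 1 := fun e => by simp [e] at h1
  have c : ∀ {g}, g ∈ centralizer {z} ↔ g * z * g⁻¹ = z := by
    intro g; rw [mem_centralizer_singleton_iff, mul_inv_eq_iff_eq_mul]
  have e : nz (zpowers z) = centralizer {z} := le_antisymm (fun g hg => c.2 (zp _ (conj_mem_of_mem_nz hg (mem_zpowers z))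
    (by simpa using z1))) fun g hg => cz_le_nz _ (mem_cz_zpowers.2 (c.1 hg))
  obtain ⟨S, hS⟩ := H21.exists_sylow_le (p := 2) (H := centralizer {z}) (by rwa [← even_iff_two_dvd, Nat.not_even_iff_odd])
  have sy := (syl_sylow S).mono_right hS le_top
  have q := sy.le_of_normal h3 h4 h5
  have key : ∀ x ∈ S.1, x ∈ cz S.1 → x * x = 1 → x ≠ 1 → x = z := fun x a b d n =>
    zp x (h7 x ⟨h6 ⟨hS a, cz_anti q b⟩, cz_anti q b⟩ d (Nat.not_even_iff_odd.1 fun k => S.not_dvd_index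
      (k.two_dvd.trans (index_dvd_of_le fun s hs => mem_centralizer_singleton_iff.2 (b s hs))))) n
  have zc : z ∈ cz S.1 := fun s hs => mem_centralizer_singleton_iff.1 (hS hs)
  have zS : z ∈ S.1 := q (h6 ⟨mem_centralizer_singleton_iff.2 rfl, cz_anti q zc⟩)
  refine ⟨e, ⟨S, q, e ▸ fun g hg => c.2 (key _ (conj_mem_of_mem_nz hg zS) (conj_mem_of_mem_nz (mem_nz_cz hg) zc)
    (by rw [conj_mul, z2]; simp) (by simpa using z1))⟩, fun W a b n => ?_⟩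
  have w := (a.trans inf_le_left).trans q
  obtain ⟨x, x1, x2, x3, x4⟩ := exists_cen S.isPGroup' w (hS.trans (e ▸ b)) n
  exact zpowers_le.2 (key x (w x1) x2 x3 x4 ▸ x1)

theorem fix_card {G : Type*} [Group G] [Finite G] {V : Subgroup G} {x : G} {r : ℕ} (h1 : r.Prime) (h3 : x ^ r = 1)
    (h : x ∈ nz V) : Nat.card V ≡ Nat.card (V ⊓ cz (zpowers x) : Subgroup G) [MOD r] := by
  have := Fact.mk h1
  have p : IsPGroup r (zpowers x) := by
    rintro ⟨_, i, rfl⟩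
    exact ⟨1, Subtype.ext (by simp only [SubgroupClass.coe_pow, OneMemClass.coe_one, pow_one]; rw [← zpow_natCast, ← zpow_mul,
      mul_comm, zpow_mul, zpow_natCast, h3, one_zpow])⟩
  let _ : MulAction (zpowers x) V := MulAction.compHom V (V.normalizerMonoidHom.comp (inclusion (zpowers_le.2 h)))
  refine (p.card_modEq_card_fixedPoints V).trans (by
    rw [Nat.card_congr (β := (V ⊓ cz (zpowers x) : Subgroup G)) ⟨fun a => ⟨a.1.1, a.1.2, mem_cz'.2 fun g hg =>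
      mul_inv_eq_iff_eq_mul.1 (congrArg Subtype.val (a.2 ⟨g, hg⟩))⟩, fun a => ⟨⟨a.1, a.2.1⟩, fun g => Subtype.ext
        (mul_inv_eq_iff_eq_mul.2 (a.2.2 g.1 g.2))⟩, fun _ => rfl, fun _ => rfl⟩])

theorem irr : IRR := fun G _ _ V W x r d h1 h2 h3 h4 h5 h6 h7 h8 h9 => by
  have key : ∀ X ≤ V, x ∈ nz X → X ≤ cz (zpowers x) ∨ X = V ∧ X ⊓ cz (zpowers x) = ⊥ := fun X a b => by
    obtain ⟨j, j1, j2⟩ := (Nat.dvd_prime_pow Nat.prime_two).1 (h4 ▸ card_dvd_of_le a)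
    obtain ⟨i, i1, i2⟩ := (Nat.dvd_prime_pow Nat.prime_two).1 (j2 ▸ card_dvd_of_le (inf_le_left : X ⊓ cz (zpowers x) ≤ X))
    have k := fix_card h1 h3 b
    rw [j2, i2] at k
    rcases i1.eq_or_lt with rfl | i1
    · exact .inl (inf_eq_left.1 (eq_of_le_of_card_ge inf_le_left (by rw [i2, j2])))
    have k2 : r ∣ 2 ^ (j - i) - 1 := by
      have := (Nat.modEq_iff_dvd' (Nat.pow_le_pow_right two_pos i1.le)).1 k.symm
      rw [show 2 ^ j - 2 ^ i = 2 ^ i * (2 ^ (j - i) - 1) by rw [Nat.mul_sub, ← pow_add, mul_one, Nat.add_sub_cancel' i1.le]] at this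
      exact (((Nat.coprime_primes h1 Nat.prime_two).2 h2).pow_right i).dvd_of_dvd_mul_left this
    have : ¬ j - i < d := fun k => h5 _ (by omega) k k2
    exact .inr ⟨eq_of_le_of_card_ge a (by rw [h4, j2, show j = d by omega]), card_eq_one.1 (by rw [i2, show i = 0 by omega, pow_zero])⟩
  rcases key V le_rfl h6 with k | k
  · exact (h7 (zpowers_le.1 (le_cz_comm.1 k))).elim
  rcases key (V ⊓ W) inf_le_left (mem_nz_inf h6 h8) with l | l
  · exact (h9 (eq_bot_iff.2 (k.2 ▸ le_inf inf_le_left l))).elim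
  · exact inf_eq_left.1 l.1

theorem kit (nc : NC2) : Kit := ⟨tr, ctrl, core, syl, wey, sn, sup, mb, fun G _ _ _ S _ _ h k => lx' S k (nc G S h),
  fun G _ _ _ _ _ _ S _ _ π h a b c d e f g i j k l => lx' S (lx_simple S π a b c d e f g i j k l) (nc G S h), zc, irr⟩

end H27.FK
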