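/-
Standard subgroups of alternating groups.
-/
import Cfsg.Agent.H1.Layer

set_option autoImplicit false

namespace H27.A3
open Subgroup Equiv Equiv.Perm Cfsg Finset
open scoped Pointwise

variable {α : Type*} [DecidableEq α] [Fintype α]

/-- even permutations supported on `s` -/
abbrev A (s : Finset α) : Subgroup (alternatingGroup α) := (alternatingGroup.ofSubtype s).range

theorem mem {s : Finset α} {g : alternatingGroup α} : g ∈ A s ↔ ∀ x, x ∉ s → g.1 x = x := by
  rw [alternatingGroup.mem_range_ofSubtype_iff]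
  exact forall_congr' fun x => by rw [mem_support, not_imp_comm]

theorem map_conj (s : Finset α) (g : alternatingGroup α) : (A s).map (MulAut.conj g).toMonoidHom = A (g • s) :=
  alternatingGroup.conj_smul_range_ofSubtype s g

theorem three {s : Finset α} {x : α} (hx : x ∈ s) (h : 4 ≤ #s) (w : α) :
    ∃ c ∈ A s, c.1 x ≠ x ∧ (w ≠ x → c.1 w = w) := by
  obtain ⟨y, hy, z, hz, e⟩ := one_lt_card.1 (show 1 < #(s \ {x, w}) by
    have := le_card_sdiff {x, w} s; have := card_le_two (a := x) (b := w); omega)
  simp only [mem_sdiff, mem_insert, mem_singleton, not_or] at hy hz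
  refine ⟨⟨swap x y * swap x z, (isThreeCycle_swap_mul_swap_same (Ne.symm hy.2.1) (Ne.symm hz.2.1) e).mem_alternatingGroup⟩,
    mem.2 fun u hu => ?_, ?_, fun hw => ?_⟩ <;> simp only [Perm.mul_apply, swap_apply_def] <;> grind

theorem cent {s : Finset α} (h : 4 ≤ #s) : centralizer (A s : Set (alternatingGroup α)) = A sᶜ := by
  ext g
  refine ⟨fun hg => mem.2 fun x hx => by_contra fun e => ?_, fun hg c hc => Subtype.ext (Disjoint.commute fun x => ?_)⟩
  · obtain ⟨c, hc, h1, h2⟩ := three (not_not.1 (mem_compl.not.1 hx)) h (g.1 x)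
    exact h1 (g.1.injective ((congrArg (fun a : alternatingGroup α => a.1 x) (hg c hc)).symm.trans (h2 e)))
  · by_cases hx : x ∈ s
    exacts [.inr (mem.1 hg x (by simpa)), .inl (mem.1 hc x hx)]

theorem std {s : Finset α} (h4 : #sᶜ = 4) (h5 : 5 ≤ #s) : IsStandardSubgroup (A s) := by
  have h := cent (s := s) (by omega)
  haveI := Fact.mk Nat.prime_two
  refine ⟨?_, ⟨?_, fun g hg => ?_⟩, fun g _ e => ?_, le_antisymm (H1.normalizer_le_normalizer_centralizer _) ?_⟩
  · haveI := alternatingGroup.isSimpleGroup (α := s) (by simpa)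
    refine H1.isQuasisimple_of_equiv (H1.isQuasisimple_of_isSimpleGroup fun e => ?_)
      (MonoidHom.ofInjective alternatingGroup.ofSubtype_injective)
    exact top_ne_bot ((center_eq_top_iff.2 e).symm.trans (alternatingGroup.center_eq_bot (by simp; omega)))
  · rw [h, ← Nat.card_congr (MonoidHom.ofInjective alternatingGroup.ofSubtype_injective).toEquiv]
    haveI : Nontrivial ↥sᶜ := Fintype.one_lt_card_iff_nontrivial.1 (by rw [Fintype.card_coe, h4]; norm_num)
    rw [nat_card_alternatingGroup, Nat.card_eq_fintype_card, Fintype.card_coe, h4]; decide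
  · rw [h] at hg ⊢
    rw [map_conj, ← Nat.not_even_iff_odd, even_iff_two_dvd]
    intro h2
    obtain ⟨⟨x, hx1, hx2⟩, hx⟩ := exists_prime_orderOf_dvd_card' 2 h2
    rw [← orderOf_coe, ← orderOf_coe] at hx
    obtain ⟨k, hk⟩ := cycleType_prime_order (σ := x.1) (hx ▸ Nat.prime_two)
    have c1 := (sign_of_cycleType x.1).symm.trans x.2
    have c2 := card_le_card (subset_inter ((alternatingGroup.mem_range_ofSubtype_iff _ _).1 hx1)
      ((alternatingGroup.mem_range_ofSubtype_iff _ _).1 hx2))
    rw [← sum_cycleType] at c2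
    rw [hk, show orderOf x.1 = 2 from hx, Multiset.sum_replicate, smul_eq_mul] at c1 c2
    refine hg (mem_normalizer_iff_map_conj_eq.2 ((map_conj _ g).trans (congrArg A ?_)))
    refine (eq_of_subset_of_card_le (inter_eq_left.1 (eq_of_subset_of_card_le inter_subset_left ?_))
      (card_smul_finset g _).le).symm
    obtain rfl | hk : k = 0 ∨ 1 ≤ k := by omega
    · exact absurd c1 (by decide)
    · omega
  · rw [commutator_comm, commutator_eq_bot_iff_le_centralizer, h, map_conj] at e
    obtain ⟨x, hx, hx'⟩ := exists_mem_notMem_of_card_lt_card (show #sᶜ < #(g • s) by rw [card_smul_finset]; omega)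
    obtain ⟨c, hc, h1, -⟩ := three hx (by rw [card_smul_finset]; omega) x
    exact h1 (mem.1 (e hc) x hx')
  · refine (H1.normalizer_le_normalizer_centralizer _).trans ?_
    rw [h, cent h4.ge, compl_compl]

end H27.A3
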