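import Cfsg.Agent.H27.Asch31

/-! Small unitary groups over the field with four elements. -/

set_option autoImplicit false

namespace H27.Asch

open Matrix Cfsg Cfsg.Geo Module H12

/-- equality test avoiding casts -/
instance (priority := high) qaDecEq {R : Type} [DecidableEq R] {a b : R} :
    DecidableEq (QuadraticAlgebra R a b) := fun x y =>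
  decidable_of_iff (x.re = y.re ∧ x.im = y.im) QuadraticAlgebra.ext_iff.symm

attribute [local instance high] List.decidableBAll List.decidableBEx

/-- an element of order 11 -/
def y5 : Matrix (Fin 5) (Fin 5) F4 := !![⟨1,1⟩,⟨0,1⟩,⟨1,1⟩,⟨1,1⟩,⟨1,0⟩;⟨1,0⟩,⟨0,0⟩,⟨0,1⟩,⟨1,1⟩,⟨0,0⟩;⟨0,0⟩,⟨0,0⟩,⟨0,1⟩,⟨1,1⟩,⟨0,1⟩;⟨1,0⟩,⟨1,1⟩,⟨1,1⟩,⟨0,1⟩,⟨0,1⟩;⟨0,0⟩,⟨1,0⟩,⟨1,1⟩,⟨1,0⟩,⟨0,0⟩]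
/-- an element of order 5 -/
def s5 : Matrix (Fin 5) (Fin 5) F4 := !![⟨0,0⟩,⟨0,1⟩,⟨1,1⟩,⟨0,0⟩,⟨0,1⟩;⟨0,0⟩,⟨0,0⟩,⟨1,0⟩,⟨0,1⟩,⟨1,1⟩;⟨1,1⟩,⟨1,0⟩,⟨1,0⟩,⟨1,1⟩,⟨0,1⟩;⟨1,1⟩,⟨1,0⟩,⟨1,1⟩,⟨1,1⟩,⟨1,1⟩;⟨1,0⟩,⟨0,0⟩,⟨1,1⟩,⟨0,0⟩,⟨0,1⟩]
/-- an involution -/
def w5 : Matrix (Fin 5) (Fin 5) F4 := !![⟨1,0⟩,⟨1,1⟩,⟨1,0⟩,⟨0,1⟩,⟨1,0⟩;⟨0,1⟩,⟨1,0⟩,⟨1,1⟩,⟨0,1⟩,⟨0,1⟩;⟨1,0⟩,⟨0,1⟩,⟨0,0⟩,⟨0,0⟩,⟨0,1⟩;⟨1,1⟩,⟨1,1⟩,⟨0,0⟩,⟨0,0⟩,⟨0,1⟩;⟨1,0⟩,⟨1,1⟩,⟨1,1⟩,⟨1,1⟩,⟨1,0⟩]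
/-- a transvection -/
def g5 : Matrix (Fin 5) (Fin 5) F4 := !![⟨1,0⟩,⟨0,0⟩,⟨0,0⟩,⟨0,0⟩,⟨0,0⟩;⟨0,0⟩,⟨1,0⟩,⟨0,0⟩,⟨0,0⟩,⟨0,0⟩;⟨0,0⟩,⟨0,0⟩,⟨1,0⟩,⟨0,0⟩,⟨0,0⟩;⟨0,0⟩,⟨0,0⟩,⟨0,0⟩,⟨0,0⟩,⟨1,1⟩;⟨0,0⟩,⟨0,0⟩,⟨0,0⟩,⟨0,1⟩,⟨0,0⟩]
/-- an orbit of `L₂(11)` -/
def T5 : List (Fin 5 → F4) := [![⟨0,0⟩,⟨0,0⟩,⟨1,0⟩,⟨0,1⟩,⟨0,0⟩], ![⟨0,0⟩,⟨0,0⟩,⟨1,0⟩,⟨1,1⟩,⟨0,0⟩],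
  ![⟨0,0⟩,⟨1,0⟩,⟨0,0⟩,⟨0,0⟩,⟨1,1⟩], ![⟨0,0⟩,⟨1,0⟩,⟨0,0⟩,⟨1,0⟩,⟨0,0⟩],
  ![⟨0,0⟩,⟨1,0⟩,⟨0,1⟩,⟨0,1⟩,⟨1,0⟩], ![⟨0,0⟩,⟨1,0⟩,⟨0,1⟩,⟨0,1⟩,⟨1,1⟩],
  ![⟨0,0⟩,⟨1,0⟩,⟨0,1⟩,⟨1,1⟩,⟨1,1⟩], ![⟨0,0⟩,⟨1,0⟩,⟨1,0⟩,⟨0,0⟩,⟨0,0⟩],
  ![⟨0,0⟩,⟨1,0⟩,⟨1,1⟩,⟨0,1⟩,⟨1,1⟩], ![⟨0,0⟩,⟨1,0⟩,⟨1,1⟩,⟨1,1⟩,⟨0,1⟩],
  ![⟨0,0⟩,⟨1,0⟩,⟨1,1⟩,⟨1,1⟩,⟨1,1⟩], ![⟨1,0⟩,⟨0,0⟩,⟨0,0⟩,⟨0,0⟩,⟨1,0⟩],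
  ![⟨1,0⟩,⟨0,0⟩,⟨0,0⟩,⟨0,0⟩,⟨1,1⟩], ![⟨1,0⟩,⟨0,0⟩,⟨0,0⟩,⟨0,1⟩,⟨0,0⟩],
  ![⟨1,0⟩,⟨0,0⟩,⟨0,0⟩,⟨1,0⟩,⟨0,0⟩], ![⟨1,0⟩,⟨0,0⟩,⟨0,1⟩,⟨1,0⟩,⟨1,1⟩],
  ![⟨1,0⟩,⟨0,0⟩,⟨0,1⟩,⟨1,1⟩,⟨1,0⟩], ![⟨1,0⟩,⟨0,0⟩,⟨0,1⟩,⟨1,1⟩,⟨1,1⟩],
  ![⟨1,0⟩,⟨0,0⟩,⟨1,0⟩,⟨0,1⟩,⟨1,0⟩], ![⟨1,0⟩,⟨0,0⟩,⟨1,0⟩,⟨1,1⟩,⟨1,0⟩],
  ![⟨1,0⟩,⟨0,0⟩,⟨1,0⟩,⟨1,1⟩,⟨1,1⟩], ![⟨1,0⟩,⟨0,0⟩,⟨1,1⟩,⟨0,1⟩,⟨1,1⟩],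
  ![⟨1,0⟩,⟨0,0⟩,⟨1,1⟩,⟨1,0⟩,⟨1,0⟩], ![⟨1,0⟩,⟨0,0⟩,⟨1,1⟩,⟨1,1⟩,⟨0,1⟩],
  ![⟨1,0⟩,⟨0,1⟩,⟨0,0⟩,⟨0,1⟩,⟨1,0⟩], ![⟨1,0⟩,⟨0,1⟩,⟨0,0⟩,⟨0,1⟩,⟨1,1⟩],
  ![⟨1,0⟩,⟨0,1⟩,⟨0,0⟩,⟨1,0⟩,⟨1,0⟩], ![⟨1,0⟩,⟨0,1⟩,⟨0,1⟩,⟨0,0⟩,⟨0,1⟩],
  ![⟨1,0⟩,⟨0,1⟩,⟨0,1⟩,⟨0,0⟩,⟨1,1⟩], ![⟨1,0⟩,⟨0,1⟩,⟨0,1⟩,⟨0,1⟩,⟨0,0⟩],
  ![⟨1,0⟩,⟨0,1⟩,⟨0,1⟩,⟨1,0⟩,⟨0,0⟩], ![⟨1,0⟩,⟨0,1⟩,⟨1,1⟩,⟨0,0⟩,⟨0,1⟩],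
  ![⟨1,0⟩,⟨0,1⟩,⟨1,1⟩,⟨0,1⟩,⟨0,0⟩], ![⟨1,0⟩,⟨1,0⟩,⟨0,0⟩,⟨0,1⟩,⟨1,1⟩],
  ![⟨1,0⟩,⟨1,0⟩,⟨0,0⟩,⟨1,0⟩,⟨1,0⟩], ![⟨1,0⟩,⟨1,0⟩,⟨0,0⟩,⟨1,0⟩,⟨1,1⟩],
  ![⟨1,0⟩,⟨1,0⟩,⟨1,0⟩,⟨0,0⟩,⟨0,1⟩], ![⟨1,0⟩,⟨1,0⟩,⟨1,0⟩,⟨0,0⟩,⟨1,0⟩],
  ![⟨1,0⟩,⟨1,0⟩,⟨1,0⟩,⟨0,1⟩,⟨0,0⟩], ![⟨1,0⟩,⟨1,0⟩,⟨1,0⟩,⟨1,0⟩,⟨0,0⟩],
  ![⟨1,0⟩,⟨1,0⟩,⟨1,1⟩,⟨0,0⟩,⟨0,1⟩], ![⟨1,0⟩,⟨1,0⟩,⟨1,1⟩,⟨1,0⟩,⟨0,0⟩],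
  ![⟨1,0⟩,⟨1,1⟩,⟨0,0⟩,⟨0,0⟩,⟨0,0⟩], ![⟨1,0⟩,⟨1,1⟩,⟨0,0⟩,⟨0,1⟩,⟨0,1⟩],
  ![⟨1,0⟩,⟨1,1⟩,⟨0,0⟩,⟨0,1⟩,⟨1,0⟩], ![⟨1,0⟩,⟨1,1⟩,⟨0,0⟩,⟨1,0⟩,⟨0,1⟩],
  ![⟨1,0⟩,⟨1,1⟩,⟨0,0⟩,⟨1,0⟩,⟨1,1⟩], ![⟨1,0⟩,⟨1,1⟩,⟨0,0⟩,⟨1,1⟩,⟨1,0⟩],
  ![⟨1,0⟩,⟨1,1⟩,⟨0,0⟩,⟨1,1⟩,⟨1,1⟩], ![⟨1,0⟩,⟨1,1⟩,⟨0,1⟩,⟨1,0⟩,⟨0,0⟩],
  ![⟨1,0⟩,⟨1,1⟩,⟨0,1⟩,⟨1,1⟩,⟨0,0⟩], ![⟨1,0⟩,⟨1,1⟩,⟨1,0⟩,⟨0,1⟩,⟨0,0⟩],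
  ![⟨1,0⟩,⟨1,1⟩,⟨1,0⟩,⟨1,1⟩,⟨0,0⟩], ![⟨1,0⟩,⟨1,1⟩,⟨1,1⟩,⟨0,1⟩,⟨0,0⟩],
  ![⟨1,0⟩,⟨1,1⟩,⟨1,1⟩,⟨1,0⟩,⟨0,0⟩]]

variable {F : Type*} [Field F] [Fintype F] {q : ℕ} (hF : Fintype.card F = q ^ 2)
include hF

theorem su5_field {H : Subgroup (GL (Fin 5) F)} (hH : IsMaximalIn (GU 5 F q ⊓ specialLinear (Fin 5) F) H)
    {K : Subalgebra F (Matrix (Fin 5) (Fin 5) F)} (h : IsFieldSubalgebra 5 K ∧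
      IsAdjointClosedFor (hermForm 5 F q) K ∧
      H = subalgebraNormalizer K ⊓ (GU 5 F q ⊓ specialLinear (Fin 5) F)) : 3 ≤ q := by
  obtain ⟨h1, h2, rfl⟩ := h
  have := two_le_of_sq hF
  by_contra a
  obtain rfl : q = 2 := by omega
  obtain ⟨χ⟩ := exists_equiv_F4 hF
  exact singer_cert hF (by norm_num) h1 h2 hH (r := 11) (m := 1) (N := 2) (by norm_num) (by norm_num)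
    (by decide) (by norm_num) (by norm_num) χ (y := y5) (s := s5) (w := w5) (g := g5) (T := T5)
    (by decide +kernel) (by decide +kernel) (by decide +kernel) (by decide +kernel)
    (by decide +kernel) (by decide +kernel)

/-- the roots of the reflection group `6.U₄(3).2` modulo 2 -/
def K6 {R : Type*} [CommRing R] [DecidableEq R] (v : Fin 6 → R) : Prop :=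
  ∑ i, (if v i = 0 then 0 else 1) = 2 ∨ ∏ i, v i = 1

instance {R : Type*} [CommRing R] [DecidableEq R] (v : Fin 6 → R) : Decidable (K6 v) :=
  inferInstanceAs (Decidable (_ ∨ _))

omit hF in
theorem det_of_sq {a : Matrix (Fin 6) (Fin 6) F4} (h : a * a = 1) : a.det = 1 :=
  (by decide : ∀ x : F4, x * x = 1 → x = 1) _ (by rw [← det_mul, h, det_one])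

omit hF in
theorem K6_dec : ∀ a b c d e f : F4, K6 ![a, b, c, d, e, f] →
    K6 ((1 + of fun _ _ => 1 : Matrix (Fin 6) (Fin 6) F4) *ᵥ ![a, b, c, d, e, f]) := by
  decide +kernel

theorem su6_mono {H : Subgroup (GL (Fin 6) F)} (hH : IsMaximalIn (GU 6 F q ⊓ specialLinear (Fin 6) F) H)
    {D : Fin 6 → Submodule F (Fin 6 → F)} (h : IsNondegenerateMDecomposition (hermForm 6 F q) 1 D ∧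
      H = decompositionStabilizer D ⊓ (GU 6 F q ⊓ specialLinear (Fin 6) F)) : 3 ≤ q := by
  classical
  have := two_le_of_sq hF
  by_contra a
  obtain rfl : q = 2 := by omega
  obtain ⟨χ⟩ := exists_equiv_F4 hF
  have h2 : (2 : F) = 0 := two_eq_zero_of_even (by rw [hF]; decide)
  have b : ∀ v : Fin 6 → F4, K6 (χ ∘ v) ↔ K6 v := fun v => by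
    simp only [K6, Function.comp, map_eq_zero_iff _ χ.injective, ← map_prod,
      map_eq_one_iff _ χ.injective]
  obtain ⟨w, w1, w2⟩ := exists_su hF (χ : F4 →+* F) (a := (1 + of fun _ _ => 1 : Matrix (Fin 6) _ _))
    (by decide +kernel) (det_of_sq (by decide +kernel))
  obtain ⟨g, g1, g2⟩ := exists_su hF (χ : F4 →+* F)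
    (a := (1 + vecMulVec ![1, 1, 1, 1, 0, 0] ![1, 1, 1, 1, 0, 0] : Matrix (Fin 6) _ _))
    (by decide +kernel) (det_of_sq (by decide +kernel))
  refine mono_not_max hF hH h (L := stabM {v | K6 v}) (fun d s h1 h3 v hv => ?_) w1 g1
    (fun v hv => ?_) (fun e => ?_) (i := 1) (j := 2) (k := 0) (by decide) (by simp [w2]) (by simp [w2])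
  · have : ((Equiv.Perm.sign s : ℤ) : F) = 1 := by
      rcases Int.units_eq_one_or (Equiv.Perm.sign s) with e | e <;> rw [e]
      · simp
      · simpa using (by linear_combination -h2 : (-1 : F) = 1)
    rw [this, one_mul] at h3
    change _ ∨ _
    rw [← Equiv.sum_comp s, ← Equiv.prod_comp s]
    simpa [monoU, mono_mulVec, Finset.prod_mul_distrib, h3, K6] using hv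
  · obtain ⟨v, rfl⟩ := χ.surjective.comp_left v
    have := K6_dec (v 0) (v 1) (v 2) (v 3) (v 4) (v 5)
    rw [show ![v 0, v 1, v 2, v 3, v 4, v 5] = v from List.ofFn_inj.1 rfl] at this
    rw [w2]
    exact map_mulVec' (χ : F4 →+* F) _ v ▸ (b _).2 (this ((b v).1 hv))
  · have := e (χ ∘ ![1, ⟨0, 1⟩, 0, 0, 0, 0]) ((b _).2 (by decide +kernel))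
    rw [g2] at this
    erw [map_mulVec' (χ : F4 →+* F)] at this
    exact absurd ((b _).1 this) (by decide +kernel)

end H27.Asch
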