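import Cfsg.Agent.H18.CL0
set_option autoImplicit false
/-! S5242 chunks B0 and B1. -/
namespace H27.CL
open Subgroup Pointwise H18.CL

universe u v

section basic
variable {G : Type*} [Group G]

theorem mc {g x : G} {H : Subgroup G} : x ∈ MulAut.conj g • H ↔ g⁻¹ * x * g ∈ H := by
  rw [Subgroup.mem_pointwise_smul_iff_inv_smul_mem]; simp

theorem mcs {p : ℕ} {g x : G} {H : Sylow p G} : x ∈ ((g • H : Sylow p G) : Subgroup G) ↔ g⁻¹ * x * g ∈ (H : Subgroup G) := by
  rw [Sylow.coe_subgroup_smul, mc]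

theorem nm {g : G} {H : Subgroup G} : g ∈ normalizer (H : Set G) ↔ MulAut.conj g • H = H := by
  rw [mem_normalizer_iff'']
  constructor
  · intro h; ext x; rw [mc]; exact (h x).symm
  · intro h x
    constructor
    · intro hx; have : x ∈ MulAut.conj g • H := by rw [h]; exact hx
      exact mc.1 this
    · intro hx; rw [← h]; exact mc.2 hx

theorem cj_le {g : G} {A B : Subgroup G} : MulAut.conj g • A ≤ MulAut.conj g • B ↔ A ≤ B :=
  Subgroup.pointwise_smul_le_pointwise_smul_iff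

theorem cj_card (g : G) (A : Subgroup G) : Nat.card (MulAut.conj g • A : Subgroup G) = Nat.card A :=
  (Nat.card_congr (Subgroup.equivSMul (MulAut.conj g) A).toEquiv).symm

theorem cj_cj (g h : G) (A : Subgroup G) : MulAut.conj g • MulAut.conj h • A = MulAut.conj (g * h) • A := by
  rw [map_mul, mul_smul]

theorem cj_inv (g : G) (A : Subgroup G) : MulAut.conj g⁻¹ • MulAut.conj g • A = A := by
  rw [cj_cj, inv_mul_cancel, map_one, one_smul]

theorem cj_inv' (g : G) (A : Subgroup G) : MulAut.conj g • MulAut.conj g⁻¹ • A = A := by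
  rw [cj_cj, mul_inv_cancel, map_one, one_smul]

theorem cj_pg {p : ℕ} (g : G) {A : Subgroup G} (h : IsPGroup p A) : IsPGroup p (MulAut.conj g • A : Subgroup G) :=
  h.of_equiv (Subgroup.equivSMul (MulAut.conj g) A)

theorem card_lt [Finite G] {A B : Subgroup G} (h : A ≤ B) (h' : ¬ B ≤ A) : Nat.card A < Nat.card B := by
  by_contra hc
  exact h' (Subgroup.eq_of_le_of_card_ge h (not_lt.1 hc)).ge

theorem card_le [Finite G] {A B : Subgroup G} (h : A ≤ B) : Nat.card A ≤ Nat.card B :=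
  Subgroup.card_le_of_le h

/-- normalizers grow in `p`-groups -/
theorem grow {p : ℕ} [Fact p.Prime] [Finite G] {P y : Subgroup G} (hy : IsPGroup p y) (h : P ≤ y) (h' : ¬ y ≤ P) :
    ¬ y ⊓ normalizer (P : Set G) ≤ P := by
  intro hc
  haveI := hy.isNilpotent
  have hn := Group.normalizerCondition_of_isNilpotent (G := y) (P.subgroupOf y)
    (lt_top_iff_ne_top.2 fun e => h' (subgroupOf_eq_top.1 e))
  obtain ⟨z, hz, hz'⟩ := SetLike.exists_of_lt hn
  apply hz'
  rw [mem_subgroupOf]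
  apply hc
  refine ⟨z.2, ?_⟩
  have hz2 := mem_normalizer_iff.1 hz
  have key : ∀ w ∈ P, (z : G) * w * (z : G)⁻¹ ∈ P := fun w hw => (hz2 ⟨w, h hw⟩).1 hw
  exact Subgroup.mem_normalizer_fintype key

theorem sylext {p : ℕ} [Fact p.Prime] [Finite G] {N A : Subgroup G} (hA : IsPGroup p A) (hAN : A ≤ N) :
    ∃ y : Sylow p G, A ≤ y ∧ ¬ p ∣ ((y : Subgroup G) ⊓ N).relIndex N := by
  obtain ⟨T, hT⟩ := (hA.comap_subtype (K := N)).exists_le_sylow
  obtain ⟨y, hy⟩ := Sylow.exists_comap_subtype_eq T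
  refine ⟨y, fun a ha => ?_, ?_⟩
  · have : (⟨a, hAN ha⟩ : N) ∈ (T : Subgroup N) := hT ha
    rw [← hy] at this; exact this
  · rw [inf_relIndex_right]
    have : (y : Subgroup G).relIndex N = (T : Subgroup N).index := by rw [← hy]; rfl
    rw [this]; exact T.not_dvd_index

theorem sylconj {p : ℕ} [Fact p.Prime] [Finite G] {N A B : Subgroup G} (hA : IsPGroup p A) (hAN : A ≤ N)
    (hB : IsPGroup p B) (hBN : ¬ p ∣ B.relIndex N) : ∃ g ∈ N, MulAut.conj g • A ≤ B := by
  obtain ⟨T, hT⟩ := (hA.comap_subtype (K := N)).exists_le_sylow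
  let T' : Sylow p N := (hB.comap_subtype (K := N)).toSylow hBN
  obtain ⟨g, hg⟩ := MulAction.exists_smul_eq N T T'
  refine ⟨g, g.2, fun a ha => ?_⟩
  rw [mc] at ha
  have h1 : (⟨_, hAN ha⟩ : N) ∈ (T : Subgroup N) := hT ha
  have haN : a ∈ N := by
    have := N.mul_mem (N.mul_mem g.2 (hAN ha)) (N.inv_mem g.2)
    simpa [mul_assoc] using this
  have h2 : (⟨a, haN⟩ : N) ∈ ((g • T : Sylow p N) : Subgroup N) := mcs.2 h1
  rw [hg] at h2
  exact h2

theorem smul_self {p : ℕ} {x : Sylow p G} {g : G} (h : g ∈ (x : Subgroup G)) : g • x = x :=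
  Sylow.smul_eq_iff_mem_normalizer.2 (le_normalizer h)

theorem le_smul {p : ℕ} {x : Sylow p G} {g : G} {U : Subgroup G} (hg : g ∈ normalizer (U : Set G)) (h : U ≤ x) :
    U ≤ (g • x : Sylow p G) := by
  rw [Sylow.coe_subgroup_smul, ← nm.1 hg]; exact cj_le.2 h
end basic

theorem b0 : B0.{u, v} := by
  intro p _ G _ _ D _ _ e he D₁ Q hQ τ hτ hc
  classical
  haveI := Fintype.ofFinite (Sylow p G)
  let F : Subgroup G → Finset (Sylow p G) := fun R => Finset.univ.filter fun y => R ≤ (y : Subgroup G)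
  have hF : ∀ (g : G) R, F (MulAut.conj g • R) = (F R).map (MulAction.toPerm g).toEmbedding := by
    intro g R; ext y
    simp only [F, Finset.mem_filter, Finset.mem_univ, true_and, Finset.mem_map_equiv, MulAction.toPerm_symm_apply]
    rw [Sylow.coe_subgroup_smul, ← cj_le (g := g⁻¹), cj_inv]
  refine ⟨fun R x => (F R).card ^ (Nat.totient (p ^ e) - 1) • ∑ y ∈ F R, τ y x, fun R x => ?_, fun g R x => ?_,
    fun R x y hR hx hy => ?_⟩
  · exact D₁.nsmul_mem (D₁.sum_mem fun y _ => hτ y x) _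
  · simp only
    rw [hF, Finset.card_map, Finset.sum_map, smul_comm g]
    congr 1
    rw [Finset.smul_sum]
    exact Finset.sum_congr rfl fun y _ => hc.1 g y x
  · simp only
    rw [← smul_sub, ← Finset.sum_sub_distrib]
    have h1 : ∑ z ∈ F R, (τ z y - τ z x) = (F R).card • τ x y := by
      rw [← Finset.sum_const]
      refine Finset.sum_congr rfl fun z hz => ?_
      have hz' : R ≤ (z : Subgroup G) := (Finset.mem_filter.1 hz).2
      rw [← hc.2 z x y (hQ _ _ (le_inf (le_inf hz' hx) hy) hR)]; abel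
    rw [h1, smul_smul, ← pow_succ, Nat.sub_add_cancel (Nat.totient_pos.2 (pow_pos (Fact.out : p.Prime).pos e))]
    have hRp : IsPGroup p R := x.2.to_le hx
    have h2 : (F R).card ≡ 1 [MOD p] := by
      have h3 := hRp.card_modEq_card_fixedPoints (Sylow p G)
      have h4 : Nat.card (MulAction.fixedPoints R (Sylow p G)) = (F R).card := by
        rw [← Fintype.card_coe, ← Nat.card_eq_fintype_card]
        refine Nat.card_congr (Equiv.subtypeEquivRight fun z => ?_)
        rw [hRp.sylow_mem_fixedPoints_iff]; simp [F]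
      rw [← h4]; exact h3.symm.trans (card_sylow_modEq_one p G)
    have h5 : Nat.Coprime (F R).card (p ^ e) := by
      apply Nat.Coprime.pow_right
      rw [Nat.coprime_comm, (Fact.out : p.Prime).coprime_iff_not_dvd]
      intro hd
      have := (h2.dvd_iff dvd_rfl).1 hd
      exact (Fact.out : p.Prime).one_lt.ne' (Nat.dvd_one.1 this)
    have h6 := (Nat.ModEq.pow_totient h5).symm
    obtain ⟨k, hk⟩ := (Nat.modEq_iff_dvd' (Nat.one_le_iff_ne_zero.2 (pow_ne_zero _ (by
      intro h0; rw [h0] at h2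
      exact (Fact.out : p.Prime).one_lt.ne' (Nat.dvd_one.1 ((h2.dvd_iff dvd_rfl).1 (dvd_zero p))))))).1 h6
    have h7 : (F R).card ^ Nat.totient (p ^ e) = 1 + k * p ^ e := by
      have : 1 ≤ (F R).card ^ Nat.totient (p ^ e) := Nat.one_le_iff_ne_zero.2 (pow_ne_zero _ (by
        intro h0; rw [h0] at h2
        exact (Fact.out : p.Prime).one_lt.ne' (Nat.dvd_one.1 ((h2.dvd_iff dvd_rfl).1 (dvd_zero p)))))
      rw [mul_comm, ← hk]; omega
    rw [h7, add_smul, one_smul, mul_smul, he, smul_zero, add_zero]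

theorem b1 : B1.{u, v} := by
  intro p _ G _ _ D _ _ e he D₁ Q hQ hQg W hW hWg hWQ τ₀ hτ₀ hc₀
  obtain ⟨σ₀, hσ₀D, hσ₀g, hσ₀⟩ := b0 p G D e he D₁ Q hQ τ₀ hτ₀ hc₀
  let σ1 : Sylow p G → D := fun x => σ₀ (W x) x
  have hσ1 : ∀ (g : G) x, σ1 (g • x) = g • σ1 x := fun g x => by
    simp only [σ1]; rw [Sylow.coe_subgroup_smul, hWg, hσ₀g]
  let τ : Sylow p G → Sylow p G → D := fun x y => τ₀ x y - (σ1 y - σ1 x)
  have hτD : ∀ x y, τ x y ∈ D₁ := fun x y => D₁.sub_mem (hτ₀ x y) (D₁.sub_mem (hσ₀D _ _) (hσ₀D _ _))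
  have hc : Cy D Q τ := by
    refine ⟨fun g x y => ?_, fun x y z h => ?_⟩
    · simp only [τ]; rw [hc₀.1, hσ1, hσ1, smul_sub, smul_sub]
    · simp only [τ]; rw [← hc₀.2 x y z h]; abel
  have hτW : ∀ x y : Sylow p G, Q x → W y = W x → τ x y = 0 := by
    intro x y hx hxy
    simp only [τ, σ1]
    rw [hσ₀ (W x) x y (hWQ _ x.2 hx) (hW _) (by rw [← hxy]; exact hW _), hxy, sub_self]
  have co : ∀ (P : Subgroup G) (a b c : Sylow p G), Q P → P ≤ a → P ≤ b → P ≤ c → τ a b + τ b c = τ a c :=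
    fun P a b c h ha hb hc' => hc.2 a b c (hQ _ _ (le_inf (le_inf ha hb) hc') h)
  have self0 : ∀ a : Sylow p G, Q a → τ a a = 0 := fun a h => by
    have := co a a a a h le_rfl le_rfl le_rfl
    simpa using this
  by_cases h0 : ∀ x y : Sylow p G, Q ((x : Subgroup G) ⊓ y) → τ x y = 0
  · left
    exact ⟨σ1, hσ1, fun x y h => sub_eq_zero.1 (h0 x y h)⟩
  right
  let bad : Subgroup G × Sylow p G → Prop := fun z => Q z.1 ∧ z.1 ≤ z.2 ∧
    ¬ p ∣ ((z.2 : Subgroup G) ⊓ normalizer (z.1 : Set G)).relIndex (normalizer (z.1 : Set G)) ∧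
    ∃ g ∈ normalizer (z.1 : Set G), τ z.2 (g • z.2) ≠ 0
  let sz : Subgroup G × Sylow p G → ℕ := fun z => Nat.card ((z.2 : Subgroup G) ⊓ normalizer (z.1 : Set G) : Subgroup G)
  -- Claim A
  have hA : ∀ y z : Sylow p G, Q ((y : Subgroup G) ⊓ z) → τ y z ≠ 0 →
      ∃ w, bad w ∧ Nat.card ((y : Subgroup G) ⊓ z : Subgroup G) < sz w := by
    intro y1 z1 h1 h2
    obtain ⟨⟨y, z⟩, ⟨hq, hne⟩, hmax⟩ := Set.exists_max_image
      {w : Sylow p G × Sylow p G | Q ((w.1 : Subgroup G) ⊓ w.2) ∧ τ w.1 w.2 ≠ 0}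
      (fun w => Nat.card ((w.1 : Subgroup G) ⊓ w.2 : Subgroup G)) (Set.toFinite _) ⟨(y1, z1), h1, h2⟩
    simp only at hq hne
    set P := (y : Subgroup G) ⊓ z with hP
    have big : ∀ (a b : Sylow p G) (R : Subgroup G), P ≤ a → P ≤ b → R ≤ a → R ≤ b → Nat.card P < Nat.card R →
        τ a b = 0 := by
      intro a b R ha hb hRa hRb hlt
      by_contra hn
      have := hmax (a, b) ⟨hQ _ _ (le_inf ha hb) hq, hn⟩
      have h3 := card_le (le_inf hRa hRb)
      simp only at this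
      omega
    have hyz : y ≠ z := by
      rintro rfl
      exact hne (self0 y (hQ _ _ inf_le_left hq))
    have hy : ¬ (y : Subgroup G) ≤ P := fun h =>
      hyz (Sylow.ext (y.3 z.2 (h.trans inf_le_right)).symm)
    have hz : ¬ (z : Subgroup G) ≤ P := fun h =>
      hyz (Sylow.ext (z.3 y.2 (h.trans inf_le_left)))
    have gy := card_lt (le_inf (inf_le_left : P ≤ y) le_normalizer) (grow y.2 inf_le_left hy)
    have gz := card_lt (le_inf (inf_le_right : P ≤ z) le_normalizer) (grow z.2 inf_le_right hz)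
    obtain ⟨y', hy', sy'⟩ := sylext (N := normalizer (P : Set G)) (y.2.to_le inf_le_left : IsPGroup p
      ((y : Subgroup G) ⊓ normalizer (P : Set G) : Subgroup G)) inf_le_right
    obtain ⟨z', hz', sz'⟩ := sylext (N := normalizer (P : Set G)) (z.2.to_le inf_le_left : IsPGroup p
      ((z : Subgroup G) ⊓ normalizer (P : Set G) : Subgroup G)) inf_le_right
    obtain ⟨g, hg, hgz⟩ := sylconj (N := normalizer (P : Set G)) (y.2.to_le inf_le_left : IsPGroup p
      ((y : Subgroup G) ⊓ normalizer (P : Set G) : Subgroup G)) inf_le_right (z'.2.to_le inf_le_left) sz'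
    have Py' : P ≤ y' := (le_inf inf_le_left le_normalizer).trans hy'
    have Pz' : P ≤ z' := (le_inf inf_le_right le_normalizer).trans hz'
    have Pgy' : P ≤ (g • y' : Sylow p G) := le_smul hg Py'
    refine ⟨(P, y'), ⟨hq, Py', sy', g, hg, fun h3 => hne ?_⟩, ?_⟩
    · have e1 := big y y' _ inf_le_left Py' inf_le_left hy' gy
      have e2 := big z' z _ Pz' inf_le_right hz' inf_le_left gz
      have e3 := big (g • y') z' (MulAut.conj g • ((y : Subgroup G) ⊓ normalizer (P : Set G))) Pgy' Pz'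
        (by rw [Sylow.coe_subgroup_smul]; exact cj_le.2 hy') (hgz.trans inf_le_left) (by rw [cj_card]; exact gy)
      simp only at h3
      rw [← co P y y' z hq inf_le_left Py' inf_le_right, ← co P y' (g • y') z hq Py' Pgy' inf_le_right,
        ← co P (g • y') z' z hq Pgy' Pz' inf_le_right, e1, e2, e3, h3]; simp
    · have := hmax (y1, z1) ⟨h1, h2⟩
      have h4 := card_le (le_inf hy' (inf_le_right : (y : Subgroup G) ⊓ normalizer (P : Set G) ≤ _))
      exact lt_of_le_of_lt this (lt_of_lt_of_le gy h4)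
  push Not at h0
  obtain ⟨y0, z0, hq0, hne0⟩ := h0
  obtain ⟨w0, hw0, -⟩ := hA y0 z0 hq0 hne0
  obtain ⟨⟨U, x⟩, ⟨hqU, hUx, hsyl, hmv⟩, hmax⟩ := Set.exists_max_image {w | bad w} sz (Set.toFinite _) ⟨w0, hw0⟩
  simp only at hqU hUx hsyl hmv
  set T := (x : Subgroup G) ⊓ normalizer (U : Set G) with hT
  have hmax' : ∀ w, bad w → sz w ≤ Nat.card T := hmax
  have edge : ∀ a b : Sylow p G, Q ((a : Subgroup G) ⊓ b) → T ≤ a → T ≤ b → τ a b = 0 := by
    intro a b h ha hb
    by_contra hn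
    obtain ⟨w, hw, hlt⟩ := hA a b h hn
    have := hmax' w hw
    have := card_le (le_inf ha hb)
    omega
  have ML : ∀ U' : Subgroup G, U' ≤ x → Q U' → T ≤ normalizer (U' : Set G) →
      ¬ (x : Subgroup G) ⊓ normalizer (U' : Set G) ≤ T → ∀ g ∈ normalizer (U' : Set G), τ x (g • x) = 0 := by
    intro U' h1 h2 h3 h4 g hg
    obtain ⟨x', hx', sx'⟩ := sylext (N := normalizer (U' : Set G)) (x.2.to_le inf_le_left : IsPGroup p
      ((x : Subgroup G) ⊓ normalizer (U' : Set G) : Subgroup G)) inf_le_right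
    have Ux' : U' ≤ x' := (le_inf h1 le_normalizer).trans hx'
    have Tx' : T ≤ x' := (le_inf inf_le_left h3).trans hx'
    have e1 : τ x' (g • x') = 0 := by
      by_contra hn
      have := hmax' (U', x') ⟨h2, Ux', sx', g, hg, hn⟩
      have h5 := card_lt (le_inf (inf_le_left : T ≤ x) h3) h4
      have h6 := card_le (le_inf hx' (inf_le_right : (x : Subgroup G) ⊓ normalizer (U' : Set G) ≤ _))
      exact absurd (lt_of_lt_of_le h5 h6) (not_lt.2 this)
    have e2 := edge x x' (hQ _ _ (le_inf h1 Ux') h2) inf_le_left Tx'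
    have e3 := edge x' x (hQ _ _ (le_inf Ux' h1) h2) Tx' inf_le_left
    rw [← co U' x x' (g • x) h2 h1 Ux' (le_smul hg h1), ← co U' x' (g • x') (g • x) h2 Ux' (le_smul hg Ux')
      (le_smul hg h1), hc.1, e1, e2, e3]; simp
  obtain ⟨σ, hσD, hσg, hσ⟩ := b0 p G D e he D₁ Q hQ τ hτD hc
  have key : ∀ g ∈ normalizer (U : Set G), τ x (g • x) = g • σ U x - σ U x := by
    intro g hg
    rw [hσ U x (g • x) hqU hUx (le_smul hg hUx), ← hσg, nm.1 hg]
  have hUT : U ≤ T := le_inf hUx le_normalizer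
  refine ⟨U, x, σ U x, hσD _ _, hqU, hUx, hsyl, fun g hg => ?_, ?_, fun g hg hg' => ?_, fun U' h1 h2 h3 h4 => ?_⟩
  · have := key g hg.2
    rw [smul_self hg.1, self0 x (hQ _ _ hUx hqU)] at this
    exact sub_eq_zero.1 this.symm
  · obtain ⟨g, hg, hn⟩ := hmv
    exact ⟨g, hg, fun h => hn (by rw [key g hg, h, sub_self])⟩
  · rw [← sub_eq_zero, ← key g hg]
    by_cases hxT : (x : Subgroup G) ≤ T
    · have hTx : T = x := le_antisymm inf_le_left hxT
      apply hτW _ _ (hQ _ _ hUx hqU)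
      rw [Sylow.coe_subgroup_smul, hWg, ← hTx]; exact nm.1 hg'
    · have hn : normalizer (T : Set G) ≤ normalizer (W T : Set G) := fun k hk => by
        rw [nm, ← hWg, nm.1 hk]
      refine ML (W T) ((hW T).trans inf_le_left) (hWQ T (x.2.to_le inf_le_left) (hQ _ _ hUT hqU))
        (le_normalizer.trans hn) (fun h => grow x.2 inf_le_left hxT ((inf_le_inf_left _ hn).trans h)) g hg'
  · by_contra hn
    obtain ⟨g, hg, hg', hne⟩ := h4
    apply hne
    rw [← sub_eq_zero, ← key g hg]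
    exact ML U' (h1.trans inf_le_left) h2 h3 (fun h => hn (h.trans inf_le_right)) g hg'

end H27.CL
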