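import Cfsg.Agent.H27.CL1
set_option autoImplicit false
/-! S5242 chunk BTA. -/
namespace H27.CL
open Subgroup Pointwise H18.CL

universe u v

section conj
variable {G : Type*} [Group G] {D : Type*} [AddCommGroup D] [DistribMulAction G D]

theorem fx_cj {g : G} {B : Subgroup G} {d : D} : d ∈ fx D (MulAut.conj g • B) ↔ g⁻¹ • d ∈ fx D B := by
  simp only [mem_fx]
  constructor
  · intro h b hb
    have := h (g * b * g⁻¹) (mc.2 (by simpa [mul_assoc] using hb))
    rw [mul_smul, mul_smul] at this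
    exact eq_inv_smul_iff.2 this
  · intro h b hb
    have := h _ (mc.1 hb)
    rw [← mul_smul, mul_assoc, mul_inv_cancel, mul_one, mul_smul] at this
    exact smul_left_cancel _ this

theorem fx_card (g : G) (B : Subgroup G) : Nat.card (fx D (MulAut.conj g • B)) = Nat.card (fx D B) :=
  Nat.card_congr ((MulAction.toPerm g⁻¹).subtypeEquiv fun _ => fx_cj)

theorem BO_cj (g : G) {A : Subgroup G} (h : BO D A) : BO D (MulAut.conj g • A) := by
  refine ⟨fun e => h.1 ?_, fun a ha b hb => ?_, fun B hB => ?_⟩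
  · rw [← cj_inv g A, e, Subgroup.smul_bot]
  · have := h.2.1 _ (mc.1 ha) _ (mc.1 hb)
    have e : ∀ a b : G, g⁻¹ * a * g * (g⁻¹ * b * g) = g⁻¹ * (a * b) * g := fun a b => by group
    rw [e, e] at this
    simpa using this
  · have := h.2.2 (MulAut.conj g⁻¹ • B) (by rw [← cj_le (g := g), cj_inv']; exact hB)
    rwa [cj_card, fx_card, ← cj_card g A, ← fx_card g A] at this

theorem Qf_cj (g : G) {P : Subgroup G} (h : Qf D P) : Qf D (MulAut.conj g • P) := by
  obtain ⟨A, hA, h⟩ := h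
  exact ⟨_, cj_le.2 hA, BO_cj g h⟩

theorem Qf_mono {P P' : Subgroup G} (h' : P ≤ P') (h : Qf D P) : Qf D P' := by
  obtain ⟨A, hA, h⟩ := h
  exact ⟨_, hA.trans h', h⟩

theorem NG_cj {p : ℕ} (g : G) {J : Subgroup G} (h : NG D p J) : NG D p (MulAut.conj g • J) := by
  intro J₁ h1 h2
  obtain ⟨a, ha, ha', hn⟩ := h (MulAut.conj g⁻¹ • J₁) (by rw [← cj_le (g := g), cj_inv']; exact h1) (by
    rw [← h2, ← Subgroup.relIndex_pointwise_smul (MulAut.conj g), cj_inv'])
  refine ⟨g * a * g⁻¹, mc.2 (by simpa [mul_assoc] using ha), fun h' => ha' (mc.2 (by simpa using h')),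
    fun w hw hp => ?_⟩
  have := hn (g⁻¹ • w) (fx_cj.2 (by simpa using hw)) (by rw [smul_comm, hp, smul_zero])
  have h3 := congrArg (g • ·) this
  simp only [Finset.smul_sum, smul_zero] at h3
  rw [← h3]
  exact Finset.sum_congr rfl fun i _ => by rw [conj_pow, mul_smul, mul_smul]

theorem Good_cj {p : ℕ} (g : G) {J : Subgroup G} (h : Good D p J) : Good D p (MulAut.conj g • J) :=
  ⟨cj_pg g h.1, Qf_cj g h.2.1, NG_cj g h.2.2⟩

theorem cl_cj (g : G) (s : Set G) : MulAut.conj g • closure s = closure {x | g⁻¹ * x * g ∈ s} := by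
  rw [Subgroup.smul_closure]; congr 1; ext x
  rw [Set.mem_smul_set_iff_inv_smul_mem]; simp

/-- an element normalizing a set normalizes its closure -/
theorem nm_cl [Finite G] {g : G} {s : Set G} (h : ∀ x ∈ s, g * x * g⁻¹ ∈ s) :
    g ∈ normalizer ((closure s : Subgroup G) : Set G) := by
  apply Subgroup.mem_normalizer_fintype
  intro x hx
  induction hx using closure_induction with
  | mem x hx => exact subset_closure (h x hx)
  | one => simpa using (closure s).one_mem
  | mul a b _ _ ha hb =>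
    have e : g * (a * b) * g⁻¹ = g * a * g⁻¹ * (g * b * g⁻¹) := by group
    rw [e]; exact (closure s).mul_mem ha hb
  | inv a _ ha =>
    have e : g * a⁻¹ * g⁻¹ = (g * a * g⁻¹)⁻¹ := by group
    rw [e]; exact (closure s).inv_mem ha

/-- a proper subgroup of a `p`-group lies in a subgroup of index `p` -/
theorem ex_idx {p : ℕ} [Fact p.Prime] [Finite G] {A C : Subgroup G} (hA : IsPGroup p A) (h : C ≤ A) (h' : ¬ A ≤ C) :
    ∃ A1, C ≤ A1 ∧ A1 ≤ A ∧ A1.relIndex A = p := by
  obtain ⟨n, hn⟩ := IsPGroup.iff_card.1 hA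
  obtain ⟨m, hm⟩ := IsPGroup.iff_card.1 ((hA.to_le h).comap_subtype (K := A))
  have hlt : m < n := by
    have h1 : Nat.card (C.comap A.subtype) = Nat.card C :=
      Nat.card_congr (subgroupOfEquivOfLe h).toEquiv
    have := card_lt h h'
    rw [← h1, hm, hn] at this
    exact (Nat.pow_lt_pow_iff_right (Fact.out : p.Prime).one_lt).1 this
  obtain ⟨K, hK, hK'⟩ := Sylow.exists_subgroup_card_pow_prime_le p (n := m) (m := n - 1)
    (by rw [hn]; exact pow_dvd_pow _ (Nat.sub_le _ _)) (C.comap A.subtype) hm (by omega)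
  refine ⟨K.map A.subtype, fun c hc => ⟨⟨c, h hc⟩, hK' hc, rfl⟩, map_subtype_le _, ?_⟩
  have h2 : (K.map A.subtype).relIndex A = K.index := by
    rw [relIndex, subgroupOf, comap_map_eq_self_of_injective A.subtype_injective]
  have h3 := K.card_mul_index
  rw [hK, hn] at h3
  rw [h2]
  have h4 : p ^ n = p ^ (n - 1) * p := by rw [← pow_succ]; congr 1; omega
  rw [h4] at h3
  exact Nat.eq_of_mul_eq_mul_left (pow_pos (Fact.out : p.Prime).pos _) h3
end conj

theorem bta : BTA.{u, v} := by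
  intro hT h1 hNA hMO hEX h3 h4 p _ G _ _ D _ _ _ _ e he τ hc
  classical
  obtain ⟨-, -, -, t4, -, -, -, -, t9, -⟩ := hT G D
  let W : Subgroup G → Subgroup G := fun T =>
    if ∃ J ≤ T, Good D p J then sSup {J | J ≤ T ∧ Good D p J} else ET D T
  have hG : ∀ (g : G) (T : Subgroup G), (∃ J ≤ T, Good D p J) → ∃ J ≤ MulAut.conj g • T, Good D p J :=
    fun g T ⟨J, h, h'⟩ => ⟨_, cj_le.2 h, Good_cj g h'⟩
  have hS : ∀ (g : G) (T T' : Subgroup G), MulAut.conj g • sSup {J | J ≤ T ∧ Good D p J} ≤ T' →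
      MulAut.conj g • sSup {J | J ≤ T ∧ Good D p J} ≤ sSup {J | J ≤ T' ∧ Good D p J} := by
    intro g T T' h
    rw [← cj_le (g := g⁻¹), cj_inv]
    refine sSup_le fun J hJ => ?_
    rw [← cj_le (g := g), cj_inv']
    exact le_sSup ⟨(cj_le.2 (le_sSup hJ)).trans h, Good_cj g hJ.2⟩
  have hle : ∀ T : Subgroup G, sSup {J | J ≤ T ∧ Good D p J} ≤ T := fun T => sSup_le fun J hJ => hJ.1
  rcases h1 p G D e he ⊤ (Qf D) (fun _ _ => Qf_mono) (fun g _ => Qf_cj g) W (fun T => by
      simp only [W]; split_ifs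
      · exact hle T
      · exact (closure_le _).2 fun c hc => hc.1)
    (fun g T => by
      simp only [W]
      by_cases h : ∃ J ≤ T, Good D p J
      · rw [if_pos h, if_pos (hG g T h)]
        apply le_antisymm
        · rw [← cj_le (g := g⁻¹), cj_inv]
          exact hS _ _ _ (by rw [← cj_le (g := g), cj_inv']; exact hle _)
        · exact hS _ _ _ (cj_le.2 (hle _))
      · rw [if_neg h, if_neg (fun h' => h (by have := hG g⁻¹ _ h'; rwa [cj_inv] at this))]
        rw [ET, ET, cl_cj]; congr 1; ext c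
        simp only [Set.mem_setOf_eq, mc]
        refine and_congr_right fun _ => ⟨fun ⟨v, hv⟩ => ⟨_, by simpa using t4 c g⁻¹ v hv⟩, fun ⟨v, hv⟩ => ⟨_, by
          simpa [mul_assoc] using t4 _ g v hv⟩⟩)
    (fun T hp hq => by
      simp only [W]; split_ifs with h
      · obtain ⟨J, hJ, hJ'⟩ := h
        exact Qf_mono (le_sSup ⟨hJ, hJ'⟩) hJ'.2.1
      · rcases hMO p G D e he T hp hq with h' | ⟨-, c, hc, v, hv⟩
        · exact absurd h' h
        · exact ⟨_, (zpowers_le).2 (subset_closure ⟨hc, v, hv⟩), t9 inferInstance c v hv⟩)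
    τ (fun _ _ => trivial) hc with h | ⟨U, x, s, -, hB⟩
  · exact h
  set N := normalizer (U : Set G) with hN
  set T := (x : Subgroup G) ⊓ N with hT
  have hTM : T ≤ N ⊓ MulAction.stabilizer G s := fun g hg => ⟨hg.2, hB.fixT g hg⟩
  have hTp : IsPGroup p T := x.2.to_le inf_le_left
  have hnot : ¬ fx D (N ⊓ MulAction.stabilizer G s) ≤ fx D N := fun h => by
    obtain ⟨g, hg, hne⟩ := hB.mv
    exact hne (h (show s ∈ fx D (N ⊓ MulAction.stabilizer G s) from fun g hg => hg.2) g hg)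
  have hWM : N ⊓ normalizer (W T : Set G) ≤ N ⊓ MulAction.stabilizer G s :=
    fun g hg => ⟨hg.1, hB.fixW g hg.1 hg.2⟩
  by_cases h : ∃ J ≤ T, Good D p J
  · exfalso
    simp only [W, if_pos h] at hWM
    refine hnot (hNA p G D e he N T _ _ hTM inf_le_left hTp hB.syl (hle T) ?_ ?_ hWM)
    · intro J₁ hJ₁ hi
      have : ∃ J, J ≤ T ∧ Good D p J ∧ ¬ J ≤ J₁ := by
        by_contra hn
        push Not at hn
        have : sSup {J | J ≤ T ∧ Good D p J} ≤ J₁ := sSup_le fun J hJ => hn J hJ.1 hJ.2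
        rw [relIndex_eq_one.2 this] at hi
        exact (Fact.out : p.Prime).one_lt.ne hi
      obtain ⟨J, hJ, hg, hn⟩ := this
      have hJ0 : J ≤ sSup {J | J ≤ T ∧ Good D p J} := le_sSup ⟨hJ, hg⟩
      have hi' : (J₁ ⊓ J).relIndex J = p := by
        rw [inf_relIndex_right]
        have h5 := relIndex_le_of_le_right (H := J₁) hJ0 (by rw [hi]; exact (Fact.out : p.Prime).ne_zero)
        rw [hi] at h5
        obtain ⟨n, hn'⟩ := hg.1.index (J₁.subgroupOf J)
        have h6 : J₁.relIndex J = p ^ n := hn'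
        rcases n with _ | n
        · exact absurd (relIndex_eq_one.1 h6) hn
        · apply le_antisymm h5
          rw [h6]; exact Nat.le_self_pow (Nat.succ_ne_zero n) p
      obtain ⟨a, ha, ha', hw⟩ := hg.2.2 _ inf_le_right hi'
      exact ⟨a, hJ0 ha, fun h' => ha' ⟨h', ha⟩, fun w hw' => hw w fun g hg => hw' g hg.1⟩
    · intro g _ hg
      exact Subgroup.eq_of_le_of_card_ge (hS g _ _ hg) (cj_card _ _).ge
  simp only [W, if_neg h] at hWM
  rcases hMO p G D e he T hTp (Qf_mono (le_inf hB.le le_normalizer) hB.q) with h' | ⟨rfl, -⟩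
  · exact absurd h' h
  have hng : ∀ J ≤ T, ¬ Good D 2 J := fun J hJ h' => h ⟨J, hJ, h'⟩
  obtain ⟨b, hb, g, hg, hgb⟩ := hEX G D e he N T _ hTM inf_le_left hTp hB.syl hng hWM hnot
  obtain ⟨h5, h6⟩ := h3 G D e he W U x s b hB hng hb ⟨g, hg, fun h' =>
    hgb ⟨N.mul_mem (N.mul_mem hg hb.1.2) (N.inv_mem hg), h'⟩⟩
  exact h4 G D e he x b h5 h6 τ hc

end H27.CL
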