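import Cfsg.Agent.H27.CL2
set_option autoImplicit false
/-! S5242 chunk B3. -/
namespace H27.CL
open Subgroup Pointwise H18.CL

universe u v

section tr
variable {G : Type u} [Group G] (D : Type v) [AddCommGroup D] [DistribMulAction G D]

def Tr (c : G) : Prop := ∃ v : D, Tv c v

open Classical in
noncomputable def ctr (c : G) : D := if h : Tr D c then h.choose else 0

variable {D}
theorem Tr.tv {c : G} (h : Tr D c) : Tv c (ctr D c) := by
  rw [ctr, dif_pos h]; exact h.choose_spec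

variable [FaithfulSMul G D] (hT : TVF.{u, v})
include hT

theorem ctr_eq {c : G} {v : D} (h : Tv c v) : ctr D c = v :=
  (hT G D).2.1 c _ _ (Tr.tv ⟨v, h⟩) h

theorem Tr.cj {c : G} (h : Tr D c) (g : G) : Tr D (g * c * g⁻¹) := ⟨_, (hT G D).2.2.2.1 c g _ h.tv⟩

theorem Tr.cj' {c : G} (h : Tr D c) (g : G) : Tr D (g⁻¹ * c * g) := by simpa using h.cj hT g⁻¹

theorem ctr_cj (c g : G) : ctr D (g * c * g⁻¹) = g • ctr D c := by
  by_cases h : Tr D c
  · exact ctr_eq hT ((hT G D).2.2.2.1 c g _ h.tv)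
  · have : ¬ Tr D (g * c * g⁻¹) := fun h' => h (by simpa [mul_assoc] using h'.cj' hT g)
    rw [ctr, ctr, dif_neg h, dif_neg this, smul_zero]

theorem Tr.two {c : G} (h : Tr D c) : ctr D c + ctr D c = 0 := ((hT G D).1 c _ h.tv).1
theorem Tr.fix {c : G} (h : Tr D c) : c • ctr D c = ctr D c := ((hT G D).1 c _ h.tv).2.1
theorem Tr.sq {c : G} (h : Tr D c) : c * c = 1 := ((hT G D).1 c _ h.tv).2.2
theorem Tr.inv {c : G} (h : Tr D c) : c⁻¹ = c := inv_eq_of_mul_eq_one_right (h.sq hT)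
theorem Tr.comm {c c' : G} (h : Tr D c) (h' : Tr D c') :
    c * c' = c' * c ↔ c • ctr D c' = ctr D c' ∧ c' • ctr D c = ctr D c := (hT G D).2.2.2.2.1 c c' _ _ h.tv h'.tv
theorem Tr.braid {c c' : G} (h : Tr D c) (h' : Tr D c') (h1 : c • ctr D c' ≠ ctr D c') (h2 : c' • ctr D c ≠ ctr D c) :
    c * c' * c = c' * c * c' := (hT G D).2.2.2.2.2.1 c c' _ _ h.tv h'.tv h1 h2

omit hT [FaithfulSMul G D] in
theorem Tr.mv {c : G} (h : Tr D c) {d : D} (h1 : c • d ≠ d) : c • d = d + ctr D c := (h.tv.2.2 d).resolve_left h1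

theorem Tr.qf [Finite D] {c : G} (h : Tr D c) {P : Subgroup G} (hc : c ∈ P) : Qf D P :=
  ⟨_, (zpowers_le).2 hc, (hT G D).2.2.2.2.2.2.2.2.1 inferInstance c _ h.tv⟩

/-- no good subgroup: fixing one centre suffices for commuting -/
theorem Tr.cm [Finite D] {N : Subgroup G} (hN : ∀ J ≤ N, ¬ Good D 2 J) {c c' : G} (h : Tr D c) (h' : Tr D c')
    (hc : c ∈ N) (hc' : c' ∈ N) (h1 : c • ctr D c' = ctr D c') : c * c' = c' * c := by
  rw [h.comm hT h']
  refine ⟨h1, by_contra fun h2 => hN _ ?_ ((hT G D).2.2.2.2.2.2.2.2.2 inferInstance c' c _ _ h'.tv h.tv h2 h1)⟩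
  rw [closure_le]
  rintro z (rfl | rfl)
  · exact hc
  · exact N.mul_mem (N.mul_mem (N.mul_mem hc' hc) hc') hc

theorem Tr.cm2 [Finite D] {N : Subgroup G} (hN : ∀ J ≤ N, ¬ Good D 2 J) {c c' : G} (h : Tr D c) (h' : Tr D c')
    {P : Subgroup G} (hP : IsPGroup 2 P) (hPN : P ≤ N) (hc : c ∈ P) (hc' : c' ∈ P) : c * c' = c' * c := by
  rcases (hT G D).2.2.2.2.2.2.2.1 P c c' _ _ hP hc hc' h.tv h'.tv with h1 | h1
  · exact h.cm hT hN h' (hPN hc) (hPN hc') h1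
  · exact (h'.cm hT hN h (hPN hc') (hPN hc) h1).symm

/-- non-commuting transvections are conjugate -/
theorem Tr.ncj [Finite D] {N : Subgroup G} (hN : ∀ J ≤ N, ¬ Good D 2 J) {c c' : G} (h : Tr D c) (h' : Tr D c')
    (hc : c ∈ N) (hc' : c' ∈ N) (h1 : c * c' ≠ c' * c) : c' = (c * c' * c) * c * (c * c' * c)⁻¹ := by
  have := h.braid hT h' (fun h2 => h1 (h.cm hT hN h' hc hc' h2)) (fun h2 => h1 (h'.cm hT hN h hc' hc h2).symm)
  rw [eq_mul_inv_iff_mul_eq]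
  conv_lhs => rw [this]
  have e1 := h.sq hT
  have e2 := h'.sq hT
  calc c' * (c' * c * c') = (c' * c') * c * c' := by group
    _ = c * c' * (c * c) := by rw [e1, e2]; group
    _ = _ := by group

theorem pg_cl {A : Set G} (hA : ∀ c ∈ A, Tr D c) (hc : ∀ c ∈ A, ∀ c' ∈ A, c * c' = c' * c) :
    IsPGroup 2 (closure A) := by
  have h1 : ∀ a ∈ closure A, ∀ b ∈ closure A, a * b = b * a := by
    intro a ha b hb
    have : closure A ≤ centralizer (closure A : Set G) := by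
      rw [closure_le]
      intro c hc'
      rw [SetLike.mem_coe, Subgroup.centralizer_closure]
      exact fun z hz => hc z hz c hc'
    exact this hb a ha
  rintro ⟨a, ha⟩
  refine ⟨1, Subtype.ext ?_⟩
  show a ^ 2 ^ 1 = 1
  rw [pow_one, pow_two]
  induction ha using closure_induction with
  | mem x hx => exact (hA x hx).sq hT
  | one => simp
  | mul a b ha hb iha ihb =>
    calc a * b * (a * b) = a * (b * a) * b := by group
      _ = (a * a) * (b * b) := by rw [h1 b hb a ha]; group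
      _ = 1 := by rw [iha, ihb, one_mul]
  | inv a _ ha => rw [← mul_inv_rev, ha, inv_one]

theorem bs3 [Finite G] [Finite D] {N T : Subgroup G} (hN : ∀ J ≤ N, ¬ Good D 2 J) (hTN : T ≤ N) (hp : IsPGroup 2 T)
    (hs : ¬ 2 ∣ T.relIndex N) {b : G} (hb : Sol D N T b) {n : G} (hn : n ∈ N) {A : Set G} (hA : ∀ c ∈ A, c ∈ N ∧ Tr D c)
    (hc : ∀ c ∈ A, ∀ c' ∈ A, c * c' = c' * c) (hbA : n * b * n⁻¹ ∈ A) :
    ∃ b' ∈ N, Tr D b' ∧ b' • ctr D (n * b * n⁻¹) ≠ ctr D (n * b * n⁻¹) ∧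
      ∀ c ∈ A, c ≠ n * b * n⁻¹ → c * b' = b' * c := by
  haveI : Fact (Nat.Prime 2) := ⟨Nat.prime_two⟩
  obtain ⟨hbT, v, b', v', hv, hb'N, hv', hmv, hcm⟩ := hb
  have hbt : Tr D b := ⟨v, hv⟩
  let C := N ⊓ centralizer {b}
  let B : Set G := {c | c ∈ T ∧ Tr D c}
  have hBT : closure B ≤ T := (closure_le _).2 fun c hc => hc.1
  have hBC : closure B ≤ C := (closure_le _).2 fun c hc =>
    ⟨hTN hc.1, mem_centralizer_singleton_iff.2 (hc.2.cm2 hT hN hbt hp hTN hc.1 hbT)⟩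
  obtain ⟨y, hy, sy⟩ := sylext (hp.to_le hBT) hBC
  have hR : IsPGroup 2 ((y : Subgroup G) ⊓ C : Subgroup G) := y.2.to_le inf_le_left
  obtain ⟨m', -, hm'⟩ := sylconj hR (inf_le_right.trans inf_le_left) hp hs
  have hBR : B = {c | c ∈ (y : Subgroup G) ⊓ C ∧ Tr D c} := by
    refine Set.eq_of_subset_of_ncard_le ?_ ?_ (Set.toFinite _)
    · exact fun c hc => ⟨⟨hy (subset_closure hc), hBC (subset_closure hc)⟩, hc.2⟩
    · refine Set.ncard_le_ncard_of_injOn (fun c => m' * c * m'⁻¹) (fun c hc => ⟨hm' (mc.2 ?_), hc.2.cj hT m'⟩)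
        (fun a _ b _ h => by simpa using h)
      simpa [mul_assoc] using hc.1
  have hAC : MulAut.conj n⁻¹ • closure A ≤ C := by
    rw [cl_cj, closure_le]
    intro c hc'
    simp only [inv_inv, Set.mem_setOf_eq] at hc'
    refine ⟨by simpa [mul_assoc] using N.mul_mem (N.mul_mem (N.inv_mem hn) (hA _ hc').1) hn,
      mem_centralizer_singleton_iff.2 ?_⟩
    have := hc _ hc' _ hbA
    have e : ∀ a b : G, n * a * n⁻¹ * (n * b * n⁻¹) = n * (a * b) * n⁻¹ := fun a b => by group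
    rw [e, e] at this
    simpa using this
  obtain ⟨m, hm, hmA⟩ := sylconj (cj_pg n⁻¹ (pg_cl hT (fun c h => (hA c h).2) hc)) hAC hR sy
  have hmb : m * b = b * m := mem_centralizer_singleton_iff.1 hm.2
  have hmv' : m • v = v := by
    rw [← ctr_eq hT hv, ← ctr_cj hT, hmb, mul_inv_cancel_right]
  refine ⟨(n * m⁻¹) * b' * (n * m⁻¹)⁻¹, N.mul_mem (N.mul_mem (N.mul_mem hn (N.inv_mem hm.1)) hb'N)
    (N.inv_mem (N.mul_mem hn (N.inv_mem hm.1))), Tr.cj hT ⟨v', hv'⟩ _, fun h => hmv ?_, fun c hcA hne => ?_⟩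
  · rw [ctr_cj hT, ctr_eq hT hv, mul_inv_rev, inv_inv, mul_smul, mul_smul, mul_smul, mul_smul, inv_smul_smul,
      smul_left_cancel_iff, hmv', inv_smul_eq_iff, hmv'] at h
    exact h
  · have h1 : m * n⁻¹ * c * (m * n⁻¹)⁻¹ ∈ B := by
      rw [hBR]
      refine ⟨hmA ?_, (hA c hcA).2.cj hT _⟩
      rw [cj_cj, mc]
      simpa [mul_assoc] using subset_closure hcA
    have h2 := hcm _ h1.1 _ h1.2.tv (fun h => hne (by
      have : c = n * (m⁻¹ * b * m) * n⁻¹ := by rw [← h]; group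
      rw [this, mul_assoc m⁻¹, ← hmb, inv_mul_cancel_left]))
    calc c * (n * m⁻¹ * b' * (n * m⁻¹)⁻¹) = n * m⁻¹ * (m * n⁻¹ * c * (m * n⁻¹)⁻¹ * b') * (n * m⁻¹)⁻¹ := by group
      _ = _ := by rw [h2]; group
end tr

theorem b3 (hT : TVF.{u, v}) (hMO : MO.{u, v}) : B3.{u, v} := by
  intro _ G _ _ D _ _ _ _ e he W U x s b hB hng hb ⟨g, hg, hgs⟩
  classical
  set N := normalizer (U : Set G) with hN
  set T := (x : Subgroup G) ⊓ N with hTd
  have hTp : IsPGroup 2 T := x.2.to_le inf_le_left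
  have hUT : U ≤ T := le_inf hB.le le_normalizer
  have hngN : ∀ J ≤ N, ¬ Good D 2 J := fun J hJ h => by
    obtain ⟨n, -, hn⟩ := sylconj h.1 hJ hTp hB.syl
    exact hng _ hn (Good_cj n h)
  have hbt : Tr D b := by obtain ⟨-, v, -, -, hv, -⟩ := hb; exact ⟨v, hv⟩
  let Cl : G → Prop := fun c => ∃ n ∈ N, c = n * b * n⁻¹
  let B : Set G := {c | c ∈ T ∧ Tr D c}
  let C : Set G := {c | c ∈ B ∧ ¬ Cl c}
  have hCl : ∀ c, ∀ n ∈ N, Cl c → Cl (n * c * n⁻¹) := by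
    rintro c n hn ⟨m, hm, rfl⟩
    exact ⟨n * m, N.mul_mem hn hm, by group⟩
  have hBc : ∀ c ∈ B, ∀ c' ∈ B, c * c' = c' * c := fun c hc c' hc' => hc.2.cm2 hT hngN hc'.2 hTp inf_le_right hc.1 hc'.1
  have hS3 : ∀ b1 ∈ B, Cl b1 → ∃ b' : G, Tr D b' ∧ b' • ctr D b1 ≠ ctr D b1 ∧ ∀ c ∈ B, c ≠ b1 → b' • ctr D c = ctr D c := by
    rintro b1 h1 ⟨n, hn, rfl⟩
    obtain ⟨b', -, h2, h3, h4⟩ := bs3 hT hngN inf_le_right hTp hB.syl hb hn (A := B) (fun c hc => ⟨hc.1.2, hc.2⟩) hBc h1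
    exact ⟨b', h2, h3, fun c hc hne => ((hc.2.comm hT h2).1 (h4 c hc hne)).2⟩
  have hx : (x : Subgroup G) ⊓ normalizer ((closure C : Subgroup G) : Set G) ≤ N := by
    apply hB.mx (closure C) ((closure_le _).2 fun c hc => hc.1.1)
    · rcases hMO 2 G D e he U (hTp.to_le hUT) hB.q with ⟨J, hJ, h⟩ | ⟨-, a, ha, v, hv⟩
      · exact absurd h (hng J (hJ.trans hUT))
      · refine Tr.qf hT ⟨v, hv⟩ (subset_closure ⟨⟨hUT ha, v, hv⟩, ?_⟩)
        rintro ⟨n, hn, rfl⟩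
        apply hgs
        apply hB.fixT _ (hUT _)
        have := (mem_normalizer_iff.1 (N.mul_mem hg (N.inv_mem hn)) _).1 ha
        convert this using 1; group
    · intro t ht
      refine nm_cl fun c hc => ⟨⟨T.mul_mem (T.mul_mem ht hc.1.1) (T.inv_mem ht), hc.1.2.cj hT t⟩, fun h => hc.2 ?_⟩
      simpa [mul_assoc] using hCl _ _ (N.inv_mem ht.2) h
    · have hh : g * b * g⁻¹ ∈ N := N.mul_mem (N.mul_mem hg hb.1.2) (N.inv_mem hg)
      refine ⟨_, hh, nm_cl fun c hc => ?_, hgs⟩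
      have : g * b * g⁻¹ * c = c * (g * b * g⁻¹) := by
        by_contra hne
        apply hc.2
        rw [(hbt.cj hT g).ncj hT hngN hc.1.2 hh hc.1.1.2 hne]
        exact hCl _ _ (N.mul_mem (N.mul_mem hh hc.1.1.2) hh) ⟨g, hg, rfl⟩
      rw [this, mul_inv_cancel_right]; exact hc
  have hcen : ∀ y ∈ (x : Subgroup G), (∀ c ∈ B, y * c * y⁻¹ ∈ B) → (∀ c ∈ B, Cl c → y * c * y⁻¹ = c) → y ∈ T := by
    intro y hy h1 h2
    refine ⟨hy, hx ⟨hy, nm_cl fun c hc => ⟨h1 c hc.1, fun h => hc.2 ?_⟩⟩⟩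
    have h3 := h2 _ (h1 c hc.1) h
    have h4 : y * c * y⁻¹ = c := mul_left_cancel (mul_right_cancel h3)
    rwa [h4] at h
  let S1 := (x : Subgroup G) ⊓ normalizer B
  have hS1 : ∀ y ∈ S1, ∀ c ∈ B, y * c * y⁻¹ ∈ B := fun y hy c hc => (mem_set_normalizer_iff.1 hy.2 c).1 hc
  have h1 : ∀ c ∈ S1, Tr D c → c ∈ T := by
    intro c hc hct
    refine hcen c hc.1 (hS1 c hc) fun b1 hb1 hcl => by_contra fun hne => ?_
    by_cases hf : c • ctr D b1 = ctr D b1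
    · obtain ⟨b', -, h3, h4⟩ := hS3 b1 hb1 hcl
      have := h4 _ (hS1 c hc b1 hb1) hne
      rw [ctr_cj hT, hf] at this
      exact h3 this
    · have h5 := ((hT G D).2.2.2.2.2.2.2.1 x c b1 _ _ x.2 hc.1 hb1.1.1 hct.tv hb1.2.tv).resolve_left hf
      refine hng _ ?_ ((hT G D).2.2.2.2.2.2.2.2.2 inferInstance c b1 _ _ hct.tv hb1.2.tv hf h5)
      rw [closure_le]
      rintro z (rfl | rfl)
      · exact hb1.1
      · have := (hS1 c hc b1 hb1).1
        rw [hct.inv hT] at this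
        exact T.mul_mem this hb1.1
  have hTS : T ≤ S1 := fun t ht => ⟨ht.1, mem_normalizer_fintype fun c hc =>
    ⟨T.mul_mem (T.mul_mem ht hc.1) (T.inv_mem ht), hc.2.cj hT t⟩⟩
  have hxS : (x : Subgroup G) ≤ S1 := by
    by_contra hn
    refine grow x.2 inf_le_left hn fun y hy => ⟨hy.1, mem_normalizer_fintype fun c hc => ?_⟩
    exact ⟨h1 _ ((mem_normalizer_iff.1 hy.2 c).1 (hTS hc.1)) (hc.2.cj hT y), hc.2.cj hT y⟩
  refine ⟨fun J hJ => ?_, ?_⟩
  · obtain ⟨k, -, hA⟩ := sylconj (N := ⊤) hJ.1 le_top x.2 (by rw [relIndex_top_right]; exact x.not_dvd_index)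
    have hG := Good_cj k hJ
    generalize MulAut.conj k • J = A at hA hG
    by_cases hc : ∀ c ∈ B, Cl c → ∀ y ∈ A, y * c * y⁻¹ = c
    · exact hng A (fun y hy => hcen y (hA hy) (hS1 y (hxS (hA hy))) fun c h h' => hc c h h' y hy) hG
    push Not at hc
    obtain ⟨b1, hb1, hcl, y, hy, hne⟩ := hc
    obtain ⟨A1, h2, h3, h4⟩ := ex_idx hG.1 (inf_le_left : A ⊓ centralizer {b1} ≤ A) (fun h => hne (by
      rw [mem_centralizer_singleton_iff.1 (h hy).2, mul_inv_cancel_right]))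
    obtain ⟨a, ha, ha', hw⟩ := hG.2.2 A1 h3 h4
    obtain ⟨b', -, h5, h6⟩ := hS3 b1 hb1 hcl
    haveI := Fintype.ofFinite G
    let O : Finset G := Finset.univ.filter fun c => ∃ a ∈ A1, c = a * b1 * a⁻¹
    have hO : ∀ c, c ∈ O ↔ ∃ a ∈ A1, c = a * b1 * a⁻¹ := fun c => by simp [O]
    have hOB : ∀ c ∈ O, c ∈ B := fun c hc => by
      obtain ⟨a, ha, rfl⟩ := (hO c).1 hc
      exact hS1 a (hxS (hA (h3 ha))) b1 hb1
    have h2w : 2 • ∑ c ∈ O, ctr D c = 0 := by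
      rw [Finset.smul_sum]
      exact Finset.sum_eq_zero fun c hc => by rw [two_nsmul, (hOB c hc).2.two hT]
    have h7 := hw (∑ c ∈ O, ctr D c) (fun k hk => by
      rw [Finset.smul_sum]
      refine Finset.sum_nbij' (fun c => k * c * k⁻¹) (fun c => k⁻¹ * c * k) (fun c hc => ?_) (fun c hc => ?_)
        (fun c _ => by group) (fun c _ => by group) (fun c _ => (ctr_cj hT c k).symm)
      · obtain ⟨a, ha, rfl⟩ := (hO c).1 hc
        exact (hO _).2 ⟨k * a, A1.mul_mem hk ha, by group⟩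
      · obtain ⟨a, ha, rfl⟩ := (hO c).1 hc
        exact (hO _).2 ⟨k⁻¹ * a, A1.mul_mem (A1.inv_mem hk) ha, by group⟩) h2w
    rw [Finset.sum_range_succ, Finset.sum_range_one, pow_zero, pow_one, one_smul, ← h2w, two_nsmul,
      add_right_inj] at h7
    have h8 : b' • a • ∑ c ∈ O, ctr D c = a • ∑ c ∈ O, ctr D c := by
      rw [Finset.smul_sum, Finset.smul_sum]
      refine Finset.sum_congr rfl fun c hc => ?_
      rw [← ctr_cj hT]
      refine h6 _ (hS1 a (hxS (hA ha)) c (hOB c hc)) fun h => ha' ?_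
      obtain ⟨a1, ha1, rfl⟩ := (hO c).1 hc
      have : a * a1 ∈ A1 := h2 ⟨A.mul_mem ha (h3 ha1), mem_centralizer_singleton_iff.2 (by
        conv_rhs => rw [← h]
        group)⟩
      simpa using A1.mul_mem this (A1.inv_mem ha1)
    have hb1O : b1 ∈ O := (hO _).2 ⟨1, A1.one_mem, by simp⟩
    rw [h7, ← Finset.add_sum_erase O _ hb1O, smul_add, Finset.smul_sum, Finset.sum_congr rfl fun c hc =>
      h6 c (hOB c (Finset.mem_of_mem_erase hc)) (Finset.ne_of_mem_erase hc), add_left_inj] at h8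
    exact h5 h8
  · obtain ⟨hbT, v, b', v', hv, -, hv', hmv, hcm⟩ := hb
    exact ⟨hbT.1, v, b', v', hv, trivial, hv', hmv, fun c hc w hw => hcm c (h1 c (hxS hc) ⟨w, hw⟩) w hw⟩

end H27.CL
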