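import Cfsg.Agent.H27.CL3
set_option autoImplicit false
/-! S5242 chunk B4. -/
namespace H27.CL
open Subgroup Pointwise H18.CL

universe u v

section b4
variable {G : Type u} [Group G] [Fintype G] {D : Type v} [AddCommGroup D] [DistribMulAction G D]

def Dc (b c : G) : Prop := ∃ n : G, c = n * b * n⁻¹

theorem Dc.cj {b c : G} (h : Dc b c) (g : G) : Dc b (g * c * g⁻¹) := by
  obtain ⟨n, rfl⟩ := h; exact ⟨g * n, by group⟩

theorem Dc.cj' {b c : G} (g : G) (h : Dc b (g * c * g⁻¹)) : Dc b c := by simpa [mul_assoc] using h.cj g⁻¹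

open Classical in
noncomputable def DF (b : G) : Finset G := Finset.univ.filter (Dc b)

theorem mem_DF {b c : G} : c ∈ DF b ↔ Dc b c := by simp [DF]

noncomputable def pi (b : G) : D →+ D where
  toFun d := ∑ e ∈ DF b, (e • d - d)
  map_zero' := by simp
  map_add' d d' := by
    rw [← Finset.sum_add_distrib]
    exact Finset.sum_congr rfl fun e _ => by rw [smul_add]; abel

theorem pi_def (b : G) (d : D) : pi b d = ∑ e ∈ DF b, (e • d - d) := rfl

theorem pi_smul (b g : G) (d : D) : pi b (g • d) = g • pi b d := by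
  rw [pi_def, pi_def, Finset.smul_sum]
  symm
  refine Finset.sum_nbij' (fun c => g * c * g⁻¹) (fun c => g⁻¹ * c * g) (fun c hc => mem_DF.2 ((mem_DF.1 hc).cj g))
    (fun c hc => mem_DF.2 (by simpa using (mem_DF.1 hc).cj g⁻¹)) (fun c _ => by group) (fun c _ => by group)
    (fun c _ => by rw [smul_sub, mul_smul, mul_smul, inv_smul_smul])

variable [FaithfulSMul G D] [Finite D] (hT : TVF.{u, v}) (hN : ∀ J : Subgroup G, ¬ Good D 2 J)
include hT hN

theorem Tr.cm' {c c' : G} (h : Tr D c) (h' : Tr D c') (h1 : c • ctr D c' = ctr D c') : c * c' = c' * c :=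
  h.cm hT (N := ⊤) (fun J _ => hN J) h' trivial trivial h1

theorem Tr.dc {b c c' : G} (h : Tr D c) (h' : Tr D c') (h1 : c * c' ≠ c' * c) (h2 : Dc b c) : Dc b c' := by
  rw [h.ncj hT (N := ⊤) (fun J _ => hN J) h' trivial trivial h1]; exact h2.cj _

variable {x : Sylow 2 G} {b : G} (hb : Sol D ⊤ (x : Subgroup G) b)
include hb

omit hN in
theorem Dc.tr {c : G} (h : Dc b c) : Tr D c := by
  obtain ⟨n, rfl⟩ := h
  obtain ⟨-, v, -, -, hv, -⟩ := hb
  exact Tr.cj hT ⟨v, hv⟩ n

theorem bs3' {c : G} (h : Dc b c) {A : Set G} (hA : ∀ c ∈ A, Tr D c) (hc : ∀ c ∈ A, ∀ c' ∈ A, c * c' = c' * c)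
    (hbA : c ∈ A) : ∃ b' : G, Tr D b' ∧ b' • ctr D c ≠ ctr D c ∧ ∀ a ∈ A, a ≠ c → a * b' = b' * a := by
  haveI : Fact (Nat.Prime 2) := ⟨Nat.prime_two⟩
  obtain ⟨n, rfl⟩ := h
  obtain ⟨b', -, h⟩ := bs3 hT (N := ⊤) (fun J _ => hN J) le_top x.2
    (by rw [relIndex_top_right]; exact x.not_dvd_index) hb (n := n) trivial (fun c h => ⟨trivial, hA c h⟩) hc hbA
  exact ⟨b', h⟩

theorem pi2 {b0 : G} (h0 : Dc b b0) (d : D) : b0 • pi b d = pi b d ↔ b0 • d = d := by
  classical
  haveI : Fact (Nat.Prime 2) := ⟨Nat.prime_two⟩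
  have fx0 : ∀ d : D, b0 • d = d → b0 • pi b d = pi b d := fun d h => by rw [← pi_smul, h]
  refine ⟨fun h => by_contra fun hd => ?_, fx0 d⟩
  have t0 := h0.tr hT hb
  obtain ⟨A, ⟨hA1, hA2, hA3⟩, hmax⟩ := Set.exists_max_image
    {A : Set G | (∀ c ∈ A, Tr D c) ∧ (∀ c ∈ A, ∀ c' ∈ A, c * c' = c' * c) ∧ b0 ∈ A} Set.ncard (Set.toFinite _)
    ⟨{b0}, by simpa using t0, by simp, rfl⟩
  have hA4 : ∀ c, Tr D c → (∀ a ∈ A, a * c = c * a) → c ∈ A := by
    intro c hc h1
    by_contra hn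
    have := hmax (insert c A) ⟨by rintro a (rfl | ha); exacts [hc, hA1 a ha], by
      rintro a (rfl | ha) a' (rfl | ha'); exacts [rfl, (h1 a' ha').symm, h1 a ha, hA2 a ha a' ha'], Or.inr hA3⟩
    rw [Set.ncard_insert_of_notMem hn] at this
    omega
  obtain ⟨b', t', m1, hc'⟩ := bs3' hT hN hb h0 hA1 hA2 hA3
  set v0 := ctr D b0 with hv0
  set v' := ctr D b' with hv'
  have m2 : b0 • v' ≠ v' := fun h => m1 ((t0.comm hT t').1 (t0.cm' hT hN t' h)).2
  have e00 : b0 • v0 = v0 := t0.fix hT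
  have e11 : b' • v' = v' := t'.fix hT
  have e01 : b0 • v' = v' + v0 := t0.mv m2
  have e10 : b' • v0 = v0 + v' := t'.mv m1
  have z0 : v0 + v0 = 0 := t0.two hT
  have z1 : v' + v' = 0 := t'.two hT
  have i0 := t0.inv hT
  have hne : v' ≠ v0 := fun h => m2 (by rw [h, e00])
  have hD' : Dc b b' := t0.dc hT hN t' (fun h => m2 ((t0.comm hT t').1 h).1) h0
  -- the set `M`
  let M : Set G := {e | Dc b e ∧ e • v0 ≠ v0 ∧ e • v' ≠ v'}
  let E := closure (A \ {b0})
  have hE : IsPGroup 2 E := pg_cl hT (fun c h => hA1 c h.1) fun c h c' h' => hA2 c h.1 c' h'.1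
  have hEf : ∀ a ∈ E, a • v0 = v0 ∧ a • v' = v' := by
    intro a ha
    have : E ≤ MulAction.stabilizer G v0 ⊓ MulAction.stabilizer G v' := (closure_le _).2 fun c hc =>
      ⟨(((hA1 c hc.1).comm hT t0).1 (hA2 c hc.1 b0 hA3)).1, (((hA1 c hc.1).comm hT t').1 (hc' c hc.1 hc.2)).1⟩
    exact this ha
  have hM : ∀ a ∈ E, ∀ e ∈ M, a * e * a⁻¹ ∈ M := fun a ha e he => ⟨he.1.cj a, fun h => he.2.1 (by
      rw [mul_smul, mul_smul, (hEf _ (E.inv_mem ha)).1, ← eq_inv_smul_iff, (hEf _ (E.inv_mem ha)).1] at h; exact h),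
    fun h => he.2.2 (by
      rw [mul_smul, mul_smul, (hEf _ (E.inv_mem ha)).2, ← eq_inv_smul_iff, (hEf _ (E.inv_mem ha)).2] at h; exact h)⟩
  letI : MulAction E M :=
    { smul := fun a e => ⟨a * e * (a : G)⁻¹, hM a a.2 e e.2⟩
      one_smul := fun e => Subtype.ext (by show ((1 : E) : G) * e * ((1 : E) : G)⁻¹ = e; simp)
      mul_smul := fun a a' e => Subtype.ext (by
        show ((a * a' : E) : G) * e * ((a * a' : E) : G)⁻¹ = a * (a' * e * (a' : G)⁻¹) * (a : G)⁻¹
        rw [Subgroup.coe_mul]; group) }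
  have hs : ∀ (a : E) (e : M), ((a • e : M) : G) = a * e * (a : G)⁻¹ := fun _ _ => rfl
  have he0 : b0 * b' * b0⁻¹ ∈ M := by
    refine ⟨hD'.cj b0, fun h => ?_, fun h => ?_⟩
    · rw [i0, mul_smul, mul_smul, e00, e10, smul_add, e00, e01, add_comm v', ← add_assoc, z0, zero_add] at h
      exact hne h
    · rw [i0, mul_smul, mul_smul, e01, smul_add, e11, e10, add_comm v0, ← add_assoc, z1, zero_add, e00] at h
      exact hne h.symm
  have hfix : MulAction.fixedPoints E M = {⟨_, he0⟩} := by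
    ext e
    rw [Set.mem_singleton_iff, MulAction.mem_fixedPoints]
    constructor
    · intro h
      by_contra hn
      have hcm : ∀ a ∈ A, a ≠ b0 → a * e = e * a := fun a ha h' => by
        have := congrArg Subtype.val (h ⟨a, subset_closure ⟨ha, h'⟩⟩)
        rw [hs] at this
        exact mul_inv_eq_iff_eq_mul.1 this
      obtain ⟨e, hD, m3, m4⟩ := e
      simp only at hcm
      have te := hD.tr hT hb
      have m5 : b0 • ctr D e ≠ ctr D e := fun h => m3 ((t0.comm hT te).1 (t0.cm' hT hN te h)).2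
      have t'' := te.cj hT b0
      set b'' := b0 * e * b0⁻¹ with hb''
      have c'' : ctr D b'' = ctr D e + v0 := by rw [hb'', ctr_cj hT, t0.mv m5]
      have ze := te.two hT
      have f1 : b'' • v' = v' := by
        rw [hb'', i0, mul_smul, mul_smul, e01, smul_add, te.mv m3, te.mv m4]
        have : v' + ctr D e + (v0 + ctr D e) = v' + v0 + (ctr D e + ctr D e) := by abel
        rw [this, ze, add_zero, smul_add, e01, e00, add_assoc, z0, add_zero]
      have f2 : b'' • v0 = v0 + ctr D b'' := by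
        rw [c'', hb'', i0, mul_smul, mul_smul, e00, te.mv m3, smul_add, e00, t0.mv m5]
      have f3 := t''.cm' hT hN t' f1
      have f4 : b' • ctr D b'' = ctr D b'' := ((t''.comm hT t').1 f3).2
      have f5 : ctr D b'' ≠ v' := by
        intro h'
        have hne' : b' ≠ b'' := fun h'' => hn (Subtype.ext (by
          show e = b0 * b' * b0⁻¹
          rw [h'', hb'', i0]
          calc e = (b0 * b0) * e * (b0 * b0) := by rw [t0.sq hT]; group
            _ = _ := by group))
        have h7 := (hT G D).2.2.2.2.2.2.1 b' b'' v' t'.tv (h' ▸ t''.tv) hne'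
        have t7 : Tr D (b' * b'') := ⟨_, h7⟩
        have := ((t7.comm hT t0).1 (t7.cm' hT hN t0 (by
          rw [mul_smul, f2, h', smul_add, e10, e11, add_assoc, z1, add_zero]))).2
        rw [ctr_eq hT h7] at this
        exact m2 this
      have tc := (t'.cj hT b0).cj hT b''
      have cc : ctr D (b'' * (b0 * b' * b0⁻¹) * b''⁻¹) = v' + v0 + ctr D b'' := by
        rw [ctr_cj hT, ctr_cj hT, e01, smul_add, f1, f2, add_assoc]
      have hcA := hA4 _ tc fun a ha => by
        by_cases h' : a = b0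
        · subst h'
          apply t0.cm' hT hN tc
          rw [cc, c'', smul_add, smul_add, smul_add, e01, e00, t0.mv m5]
          have : v' + v0 + v0 + (ctr D e + v0 + v0) = v' + v0 + (ctr D e + v0) + (v0 + v0) := by abel
          rw [this, z0, add_zero]
        · have k0 : Commute a b0 := hA2 a ha b0 hA3
          have k1 : Commute a b' := hc' a ha h'
          have k2 : Commute a e := hcm a ha h'
          have k3 : Commute a b'' := (k0.mul_right k2).mul_right k0.inv_right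
          exact (k3.mul_right ((k0.mul_right k1).mul_right k0.inv_right)).mul_right k3.inv_right
      have := ((tc.comm hT t').1 (hc' _ hcA fun h' => f5 (by
        have := cc
        rw [h', ← hv0] at this
        have h2 : v' + ctr D b'' = 0 := by
          have h3 : v' + ctr D b'' = v' + v0 + ctr D b'' - v0 := by abel
          rw [h3, ← this, sub_self]
        rw [← z1] at h2
        exact add_left_cancel h2))).2
      rw [cc, smul_add, smul_add, e11, e10, f4, add_left_inj, add_right_inj, add_eq_left] at this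
      exact t'.tv.1 this
    · rintro rfl a
      apply Subtype.ext
      rw [hs]
      have : E ≤ centralizer {b0 * b' * b0⁻¹} := (closure_le _).2 fun c hc => mem_centralizer_singleton_iff.2 (by
        have k0 : Commute c b0 := hA2 c hc.1 b0 hA3
        have k1 : Commute c b' := hc' c hc.1 hc.2
        exact (k0.mul_right k1).mul_right k0.inv_right)
      rw [mem_centralizer_singleton_iff.1 (this a.2), mul_inv_cancel_right]
  have hodd : Nat.card M % 2 = 1 := by
    have := hE.card_modEq_card_fixedPoints M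
    rw [hfix, Nat.card_unique (α := ({_} : Set M))] at this
    exact this
  have hsum : b0 • pi b v' - pi b v' = Nat.card M • v0 := by
    rw [pi_def, Finset.smul_sum, ← Finset.sum_sub_distrib]
    have : ∀ e ∈ DF b, b0 • (e • v' - v') - (e • v' - v') = if e ∈ M then v0 else 0 := by
      intro e he
      have hD := mem_DF.1 he
      have te := hD.tr hT hb
      by_cases h1 : e • v' = v'
      · rw [if_neg fun h => h.2.2 h1, h1]; simp
      · by_cases h2 : e • v0 = v0
        · rw [if_neg fun h => h.2.1 h2, te.mv h1, add_sub_cancel_left,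
            ((te.comm hT t0).1 (te.cm' hT hN t0 h2)).2, sub_self]
        · rw [if_pos ⟨hD, h2, h1⟩, te.mv h1, add_sub_cancel_left,
            t0.mv fun h => h2 ((t0.comm hT te).1 (t0.cm' hT hN te h)).2, add_sub_cancel_left]
    rw [Finset.sum_congr rfl this, ← Finset.sum_filter, Finset.sum_const]
    congr 1
    rw [← Fintype.card_coe, ← Nat.card_eq_fintype_card]
    exact Nat.card_congr (Equiv.subtypeEquivRight fun e => by
      rw [Finset.mem_filter, mem_DF]; exact ⟨fun h => h.2, fun h => ⟨h.1, h⟩⟩)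
  have h9 : b0 • (d - v') = d - v' := by rw [smul_sub, t0.mv hd, e01]; abel
  have h10 := fx0 _ h9
  rw [map_sub, smul_sub, h, sub_right_inj] at h10
  rw [h10, sub_self, ← Nat.div_add_mod (Nat.card M) 2, hodd, add_smul, mul_comm, mul_smul, two_nsmul, z0,
    smul_zero, zero_add, one_smul] at hsum
  exact t0.tv.1 hsum.symm

open Classical in
omit hT hN hb in
noncomputable def vs (D : Type v) [AddCommGroup D] [DistribMulAction G D] (b c : G) : D :=
  if Dc b c then ctr D c else 0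

omit hb in
theorem pair {c : G} (tc : Tr D c) {κ : D} (hκ : c • κ = κ) (X : Finset G) (hX : ∀ e ∈ X, Dc b e ∧ Tr D e)
    (hn : ∀ e ∈ X, c * e ≠ e * c) (hi : ∀ e ∈ X, c * e * c⁻¹ ∈ X) :
    ∑ e ∈ X, (e • κ - κ) = 0 ∨ ∑ e ∈ X, (e • κ - κ) = vs D b c := by
  rcases X.eq_empty_or_nonempty with rfl | ⟨e0, he0⟩
  · simp
  have hD : Dc b c := (hX e0 he0).2.dc hT hN tc (hn e0 he0).symm (hX e0 he0).1
  rw [vs, if_pos hD]
  let Z : AddSubgroup D :=
    { carrier := {d | d = 0 ∨ d = ctr D c}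
      zero_mem' := Or.inl rfl
      add_mem' := by
        rintro _ _ (rfl | rfl) (rfl | rfl)
        exacts [Or.inl (add_zero _), Or.inr (zero_add _), Or.inr (add_zero _), Or.inl (tc.two hT)]
      neg_mem' := by
        rintro _ (rfl | rfl)
        exacts [Or.inl neg_zero, Or.inr (neg_eq_of_add_eq_zero_right (tc.two hT))] }
  show _ ∈ Z
  rw [← QuotientAddGroup.eq_zero_iff, ← QuotientAddGroup.mk'_apply, map_sum]
  refine Finset.sum_involution (fun e _ => c * e * c⁻¹) (fun e he => ?_)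
    (fun e he _ h => hn e he (mul_inv_eq_iff_eq_mul.1 h)) hi (fun e he => ?_)
  · rw [← map_add, QuotientAddGroup.mk'_apply, QuotientAddGroup.eq_zero_iff]
    have te := (hX e he).2
    have h1 : (c * e * c⁻¹) • κ - κ = c • (e • κ - κ) := by
      rw [tc.inv hT, mul_smul, mul_smul, smul_sub, hκ]
    rw [h1]
    by_cases h2 : e • κ = κ
    · rw [h2]; simp
    · rw [te.mv h2, add_sub_cancel_left, tc.mv fun h => hn e he (tc.cm' hT hN te h), ← add_assoc, te.two hT, zero_add]
      exact Or.inr rfl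
  · rw [tc.inv hT]
    calc c * (c * e * c) * c = (c * c) * e * (c * c) := by group
      _ = e := by rw [tc.sq hT]; group

theorem dec {c c' : G} (tc : Tr D c) (tc' : Tr D c') (hcc : c * c' = c' * c) {κ : D}
    (hκ : ∀ k : G, k * c = c * k → k * c' = c' * k → k • κ = κ) :
    ∃ y1 y2 : D, (y1 = 0 ∨ y1 = vs D b c) ∧ (y2 = 0 ∨ y2 = vs D b c') ∧ pi b κ = y1 + y2 := by
  classical
  refine ⟨_, _, pair hT hN tc (hκ c rfl hcc) ((DF b).filter fun e => ¬ c * e = e * c) (fun e he => ?_)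
    (fun e he => (Finset.mem_filter.1 he).2) (fun e he => ?_),
    pair hT hN tc' (hκ c' hcc.symm rfl) (((DF b).filter fun e => c * e = e * c).filter fun e => ¬ c' * e = e * c')
    (fun e he => ?_) (fun e he => (Finset.mem_filter.1 he).2) (fun e he => ?_), ?_⟩
  · have := mem_DF.1 (Finset.mem_filter.1 he).1
    exact ⟨this, this.tr hT hb⟩
  · rw [Finset.mem_filter, mem_DF] at he ⊢
    refine ⟨he.1.cj c, fun h => he.2 ?_⟩
    have k : Commute c (c * e * c⁻¹) := h
    have := ((Commute.refl c).inv_right.mul_right k).mul_right (Commute.refl c)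
    simpa [mul_assoc] using this.eq
  · have := mem_DF.1 (Finset.mem_filter.1 (Finset.mem_filter.1 he).1).1
    exact ⟨this, this.tr hT hb⟩
  · rw [Finset.mem_filter, Finset.mem_filter, mem_DF] at he ⊢
    have k0 : Commute c c' := hcc
    have k1 : Commute c e := he.1.2
    refine ⟨⟨he.1.1.cj c', (k0.mul_right k1).mul_right k0.inv_right⟩, fun h => he.2 ?_⟩
    have k : Commute c' (c' * e * c'⁻¹) := h
    have := ((Commute.refl c').inv_right.mul_right k).mul_right (Commute.refl c')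
    simpa [mul_assoc] using this.eq
  · rw [pi_def, ← Finset.sum_filter_add_sum_filter_not (DF b) (fun e => c * e = e * c), add_comm,
      ← Finset.sum_filter_add_sum_filter_not ((DF b).filter fun e => c * e = e * c) (fun e => c' * e = e * c'),
      Finset.sum_eq_zero (s := ((DF b).filter fun e => c * e = e * c).filter fun e => c' * e = e * c'), zero_add]
    intro e he
    rw [Finset.mem_filter, Finset.mem_filter] at he
    rw [hκ e he.1.2.symm he.2.symm, sub_self]

omit hN hb [Finite D] in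
theorem vs_cj (c g : G) : vs D b (g * c * g⁻¹) = g • vs D b c := by
  by_cases h : Dc b c
  · rw [vs, vs, if_pos h, if_pos (h.cj g), ctr_cj hT]
  · rw [vs, vs, if_neg h, if_neg fun h' => h (h'.cj' g), smul_zero]

omit hN hb [Finite D] in
theorem vs_two {c : G} (tc : Tr D c) : vs D b c + vs D b c = 0 := by
  rw [vs]; split_ifs
  exacts [tc.two hT, add_zero _]

/-- the second half of the cocycle -/
theorem cb2 [Fact (Nat.Prime 2)] (hMO : MO.{u, v}) {e : ℕ} (he : ∀ d : D, 2 ^ e • d = 0) {τ : Sylow 2 G → Sylow 2 G → D}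
    (hc : Cy D (Qf D) τ) : Cb D (Qf D) fun y z => pi b (τ y z) := by
  classical
  obtain ⟨σ, -, hσg, hσ⟩ := b0 2 G D e he ⊤ (Qf D) (fun _ _ => Qf_mono) τ (fun _ _ => trivial) hc
  let s : G → Sylow 2 G → D := fun c y => σ (zpowers c) y
  have hs : ∀ c, Tr D c → ∀ y z : Sylow 2 G, c ∈ (y : Subgroup G) → c ∈ (z : Subgroup G) → τ y z = s c z - s c y :=
    fun c tc y z hy hz => hσ _ y z (tc.qf hT (mem_zpowers c)) (zpowers_le.2 hy) (zpowers_le.2 hz)
  have hsg : ∀ (g c : G) y, s (g * c * g⁻¹) (g • y) = g • s c y := fun g c y => by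
    simp only [s]
    rw [← hσg]; congr 1
    exact (MonoidHom.map_zpowers (MulAut.conj g).toMonoidHom c).symm
  have mg : ∀ (g c : G) (y : Sylow 2 G), c ∈ (y : Subgroup G) → g * c * g⁻¹ ∈ ((g • y : Sylow 2 G) : Subgroup G) :=
    fun g c y h => mcs.2 (by simpa [mul_assoc] using h)
  let κ : G → G → Sylow 2 G → D := fun c c' y => s c y - s c' y
  have hκ : ∀ c c', Tr D c → Tr D c' → ∀ y z : Sylow 2 G, c ∈ (y : Subgroup G) → c' ∈ (y : Subgroup G) →
      c ∈ (z : Subgroup G) → c' ∈ (z : Subgroup G) → κ c c' y = κ c c' z := by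
    intro c c' tc tc' y z h1 h2 h3 h4
    have := (hs c tc y z h1 h3).symm.trans (hs c' tc' y z h2 h4)
    simp only [κ]
    rw [sub_eq_iff_eq_add] at this
    rw [this]; abel
  have hκg : ∀ (g c c' : G) y, κ (g * c * g⁻¹) (g * c' * g⁻¹) (g • y) = g • κ c c' y := fun g c c' y => by
    simp only [κ]; rw [hsg, hsg, smul_sub]
  have hcm : ∀ c c', Tr D c → Tr D c' → ∀ y : Sylow 2 G, c ∈ (y : Subgroup G) → c' ∈ (y : Subgroup G) →
      c * c' = c' * c := fun c c' tc tc' y h1 h2 => tc.cm2 hT (N := ⊤) (fun J _ => hN J) tc' y.2 le_top h1 h2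
  have hdec : ∀ c c', Tr D c → Tr D c' → ∀ y : Sylow 2 G, c ∈ (y : Subgroup G) → c' ∈ (y : Subgroup G) →
      ∃ y1 y2 : D, (y1 = 0 ∨ y1 = vs D b c) ∧ (y2 = 0 ∨ y2 = vs D b c') ∧ pi b (κ c c' y) = y1 + y2 := by
    intro c c' tc tc' y h1 h2
    refine dec hT hN hb tc tc' (hcm c c' tc tc' y h1 h2) fun k k1 k2 => ?_
    have e1 : k * c * k⁻¹ = c := by rw [k1, mul_inv_cancel_right]
    have e2 : k * c' * k⁻¹ = c' := by rw [k2, mul_inv_cancel_right]
    have m1 := mg k c y h1
    have m2 := mg k c' y h2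
    rw [← hκg, e1, e2] at *
    exact hκ c c' tc tc' _ _ m1 m2 h1 h2
  let β : G → G → Sylow 2 G → Prop := fun c c' y => ¬ (pi b (κ c c' y) = 0 ∨ pi b (κ c c' y) = vs D b c')
  have hβg : ∀ (g c c' : G) y, β (g * c * g⁻¹) (g * c' * g⁻¹) (g • y) ↔ β c c' y := fun g c c' y => by
    simp only [β]
    rw [hκg, pi_smul, vs_cj hT, smul_left_cancel_iff, smul_eq_zero_iff_eq]
  have fxv : ∀ (h c : G), Tr D h → Tr D c → c * h = h * c → ∀ w : D, (w = 0 ∨ w = vs D b c) → h • w = w := by
    rintro h c th tc hh _ (rfl | rfl)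
    · exact smul_zero h
    · rw [vs]; split_ifs
      exacts [((tc.comm hT th).1 hh).2, smul_zero h]
  have hβ : ∀ c c' h, Dc b c → Tr D c' → Tr D h → h • ctr D c ≠ ctr D c → c' * h = h * c' →
      ∀ y : Sylow 2 G, c ∈ (y : Subgroup G) → c' ∈ (y : Subgroup G) →
      (β c c' y ↔ h • pi b (κ c c' y) ≠ pi b (κ c c' y)) := by
    intro c c' h dc tc' th h1 h2 y hy hy'
    refine ⟨fun h3 h4 => h3 ?_, fun h3 h4 => h3 (fxv h c' th tc' h2 _ h4)⟩
    obtain ⟨y1, y2, k1, k2, k3⟩ := hdec c c' (dc.tr hT hb) tc' y hy hy'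
    rw [k3] at h4 ⊢
    rcases k1 with rfl | rfl
    · rw [zero_add]; exact k2
    · rw [smul_add, fxv h c' th tc' h2 _ k2, add_left_inj, vs, if_pos dc] at h4
      exact absurd h4 h1
  have ind : ∀ c c' c'', Dc b c → Tr D c' → Tr D c'' → c' ≠ c → c'' ≠ c → ∀ y z : Sylow 2 G, c ∈ (y : Subgroup G) →
      c' ∈ (y : Subgroup G) → c ∈ (z : Subgroup G) → c'' ∈ (z : Subgroup G) → β c c' y → β c c'' z := by
    intro c c' c'' dc tc' tc'' n1 n2 y z hy hy' hz hz'
    have tc := dc.tr hT hb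
    have k1 := hcm c c' tc tc' y hy hy'
    have k2 := hcm c c'' tc tc'' z hz hz'
    by_cases k3 : c' * c'' = c'' * c'
    · have hA1 : ∀ a ∈ ({c, c', c''} : Set G), Tr D a := by rintro _ (rfl | rfl | rfl) <;> assumption
      have hA2 : ∀ a ∈ ({c, c', c''} : Set G), ∀ a' ∈ ({c, c', c''} : Set G), a * a' = a' * a := by
        rintro _ (rfl | rfl | rfl) _ (rfl | rfl | rfl)
        exacts [rfl, k1, k2, k1.symm, rfl, k3, k2.symm, k3.symm, rfl]
      obtain ⟨w, hw⟩ := (pg_cl hT hA1 hA2).exists_le_sylow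
      have w1 : c ∈ (w : Subgroup G) := hw (subset_closure (by simp))
      have w2 : c' ∈ (w : Subgroup G) := hw (subset_closure (by simp))
      have w3 : c'' ∈ (w : Subgroup G) := hw (subset_closure (by simp))
      obtain ⟨h, th, m1, m2⟩ := bs3' hT hN hb dc hA1 hA2 (by simp)
      have m3 := m2 c' (by simp) n1
      have m4 := m2 c'' (by simp) n2
      rw [hβ c c' h dc tc' th m1 m3 y hy hy', hβ c c'' h dc tc'' th m1 m4 z hz hz', hκ c c' tc tc' y w hy hy' w1 w2,
        hκ c c'' tc tc'' z w hz hz' w1 w3]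
      intro h1 h2
      apply h1
      obtain ⟨y1, y2, l1, l2, l3⟩ := hdec c'' c' tc'' tc' w w3 w2
      have : κ c c' w = κ c c'' w + κ c'' c' w := by simp only [κ]; abel
      rw [this, map_add, smul_add, h2, l3, smul_add, fxv h c'' th tc'' m4 _ l1, fxv h c' th tc' m3 _ l2]
    · have e1 := tc'.ncj hT (N := ⊤) (fun J _ => hN J) tc'' trivial trivial k3
      set k := c' * c'' * c' with hk
      have e2 : k * c * k⁻¹ = c := by
        have a1 : Commute c c' := k1
        have a2 : Commute c c'' := k2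
        rw [← ((a1.mul_right a2).mul_right a1).eq, mul_inv_cancel_right]
      intro h1
      rw [← hβg k, e2, ← e1] at h1
      have m1 := mg k c y hy
      have m2 := mg k c' y hy'
      rw [e2] at m1
      rw [← e1] at m2
      simp only [β] at h1 ⊢
      rwa [hκ c c'' tc tc'' z _ hz hz' m1 m2]
  let γ : G → Prop := fun c => ∃ (c' : G) (y : Sylow 2 G), Tr D c' ∧ c' ≠ c ∧ c ∈ (y : Subgroup G) ∧
    c' ∈ (y : Subgroup G) ∧ β c c' y
  have hγ : ∀ g c, γ c → γ (g * c * g⁻¹) := fun g c ⟨c', y, h1, h2, h3, h4, h5⟩ =>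
    ⟨_, _, h1.cj hT g, fun h => h2 (by simpa using h), mg g c y h3, mg g c' y h4, (hβg g c c' y).2 h5⟩
  let μ : G → D := fun c => if γ c then vs D b c else 0
  have hμg : ∀ g c, μ (g * c * g⁻¹) = g • μ c := fun g c => by
    simp only [μ]
    by_cases h : γ c
    · rw [if_pos h, if_pos (hγ g c h), vs_cj hT]
    · rw [if_neg h, if_neg fun h' => h (by simpa [mul_assoc] using hγ g⁻¹ _ h'), smul_zero]
  have hμ1 : ∀ c c', Tr D c → Tr D c' → c' ≠ c → ∀ y : Sylow 2 G, c ∈ (y : Subgroup G) → c' ∈ (y : Subgroup G) →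
      ∀ y1 y2 : D, (y1 = 0 ∨ y1 = vs D b c) → (y2 = 0 ∨ y2 = vs D b c') → pi b (κ c c' y) = y1 + y2 → y1 = μ c := by
    intro c c' tc tc' n1 y hy hy' y1 y2 k1 k2 k3
    simp only [μ]
    by_cases dc : Dc b c
    · rcases k1 with rfl | rfl
      · rw [if_neg]
        rintro ⟨c'', z, tc'', n2, hz, hz', h⟩
        refine ind c c'' c' dc tc'' tc' n2 n1 z y hz hz' hy hy' h ?_
        rw [k3, zero_add]; exact k2
      · rw [if_pos]
        have k := hcm c c' tc tc' y hy hy'
        obtain ⟨h, th, m1, m2⟩ := bs3' hT hN hb dc (A := {c, c'}) (by rintro _ (rfl | rfl) <;> assumption)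
          (by rintro _ (rfl | rfl) _ (rfl | rfl); exacts [rfl, k, k.symm, rfl]) (by simp)
        have m3 := m2 c' (by simp) n1
        refine ⟨c', y, tc', n1, hy, hy', (hβ c c' h dc tc' th m1 m3 y hy hy').2 ?_⟩
        rw [k3, smul_add, fxv h c' th tc' m3 _ k2, vs, if_pos dc]
        exact fun h => m1 (add_right_cancel h)
    · rw [vs, if_neg dc] at k1 ⊢
      rw [ite_self]; exact k1.elim id id
  have hμ : ∀ c c', Tr D c → Tr D c' → ∀ y : Sylow 2 G, c ∈ (y : Subgroup G) → c' ∈ (y : Subgroup G) →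
      pi b (s c y) - μ c = pi b (s c' y) - μ c' := by
    intro c c' tc tc' y hy hy'
    by_cases n1 : c' = c
    · rw [n1]
    obtain ⟨y1, y2, k1, k2, k3⟩ := hdec c c' tc tc' y hy hy'
    have neg : ∀ c, Tr D c → ∀ w : D, (w = 0 ∨ w = vs D b c) → -w = w := by
      rintro c tc _ (rfl | rfl)
      exacts [neg_zero, neg_eq_of_add_eq_zero_right (vs_two hT tc)]
    have e1 := hμ1 c c' tc tc' n1 y hy hy' y1 y2 k1 k2 k3
    have e2 := hμ1 c' c tc' tc (Ne.symm n1) y hy' hy y2 y1 k2 k1 (by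
      have : κ c' c y = -κ c c' y := by simp only [κ]; abel
      rw [this, map_neg, k3, neg_add, neg c tc _ k1, neg c' tc' _ k2, add_comm])
    rw [← e1, ← e2, ← neg c' tc' _ k2]
    simp only [κ, map_sub] at k3
    rw [sub_eq_iff_eq_add] at k3
    rw [k3]; abel
  have hex : ∀ y : Sylow 2 G, ∃ c ∈ (y : Subgroup G), Tr D c := fun y => by
    obtain ⟨g, rfl⟩ := MulAction.exists_smul_eq G x y
    exact ⟨_, mg g b x hb.1, Dc.tr hT hb ⟨g, rfl⟩⟩
  choose c hcy tc using hex
  refine ⟨fun y => pi b (s (c y) y) - μ (c y), fun g y => ?_, fun y z h => ?_⟩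
  · simp only
    rw [hμ _ _ (tc _) ((tc y).cj hT g) _ (hcy _) (mg g _ y (hcy y)), hsg, pi_smul, hμg, smul_sub]
  · simp only
    rcases hMO 2 G D e he _ (y.2.to_le inf_le_left) h with ⟨J, -, hJ⟩ | ⟨-, a, ha, v, hv⟩
    · exact absurd hJ (hN J)
    rw [hμ _ a (tc y) ⟨v, hv⟩ y (hcy y) ha.1, hμ _ a (tc z) ⟨v, hv⟩ z (hcy z) ha.2, hs a ⟨v, hv⟩ y z ha.1 ha.2, map_sub]
    abel
end b4

theorem b4 (hT : TVF.{u, v}) (hMO : MO.{u, v}) : B4.{u, v} := by
  intro _ G _ _ D _ _ _ _ e he x b hN hb τ hc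
  classical
  haveI := Fintype.ofFinite G
  obtain ⟨σ2, h2g, h2⟩ := cb2 hT hN hb hMO he hc
  let L := closure {c | Dc b c}
  have hL : ∀ g : G, MulAut.conj g • L = L := fun g => nm.1 (nm_cl fun c hc => hc.cj g)
  have hL' : ∀ (g : G) (T : Subgroup G), MulAut.conj g • (T ⊓ L) = MulAut.conj g • T ⊓ L := fun g T => by
    rw [Subgroup.smul_inf, hL]
  have hex : ∀ (g : G) (T : Subgroup G), (∃ c ∈ T, Dc b c) → ∃ c ∈ MulAut.conj g • T, Dc b c :=
    fun g T ⟨c, h, h'⟩ => ⟨_, mc.2 (by simpa [mul_assoc] using h), h'.cj g⟩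
  rcases b1 2 G D e he (fx D L) (Qf D) (fun _ _ => Qf_mono) (fun g _ => Qf_cj g)
    (fun T => if ∃ c ∈ T, Dc b c then T ⊓ L else T)
    (fun T => by split_ifs; exacts [inf_le_left, le_rfl])
    (fun g T => by
      by_cases h : ∃ c ∈ T, Dc b c
      · rw [if_pos h, if_pos (hex g T h), hL']
      · rw [if_neg h, if_neg (fun h' => h (by have := hex g⁻¹ _ h'; rwa [cj_inv] at this))])
    (fun T _ hq => by
      split_ifs with h
      · obtain ⟨c, h, h'⟩ := h
        exact (h'.tr hT hb).qf hT ⟨h, subset_closure h'⟩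
      · exact hq)
    (fun y z => τ y z - pi b (τ y z))
    (fun y z => by
      have : L ≤ MulAction.stabilizer G (τ y z - pi b (τ y z)) := (closure_le _).2 fun c hc => by
        have tc := Dc.tr hT hb hc
        show c • _ = _
        rw [smul_sub]
        by_cases h : c • τ y z = τ y z
        · rw [h, (pi2 hT hN hb hc _).2 h]
        · rw [tc.mv h, tc.mv fun h' => h ((pi2 hT hN hb hc _).1 h')]; abel
      exact fun g hg => this hg)
    ⟨fun g y z => by simp only; rw [hc.1, pi_smul, smul_sub],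
      fun y z w h => by simp only; rw [← hc.2 y z w h, map_add]; abel⟩
    with ⟨σ1, h1g, h1⟩ | ⟨U, y, s, hs, hB⟩
  · refine ⟨fun y => σ1 y + σ2 y, fun g y => by simp only; rw [h1g, h2g, smul_add], fun y z h => ?_⟩
    have e1 := h1 y z h
    have e2 := h2 y z h
    simp only at e1 e2 ⊢
    rw [sub_eq_iff_eq_add] at e1
    rw [e1, e2]; abel
  exfalso
  have hW := hB.fixW
  set N := normalizer (U : Set G) with hNd
  set T := (y : Subgroup G) ⊓ N with hTd
  have hTp : IsPGroup 2 T := y.2.to_le inf_le_left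
  obtain ⟨g, hg, hgs⟩ := hB.mv
  by_cases h : ∃ c ∈ T, Dc b c
  · simp only [if_pos h] at hW
    have hp : IsPGroup 2 (T ⊓ L : Subgroup G) := hTp.to_le inf_le_left
    obtain ⟨z, hz, sz⟩ := sylext (N := N ⊓ L) hp (inf_le_inf_right _ inf_le_right)
    have hR : IsPGroup 2 ((z : Subgroup G) ⊓ (N ⊓ L) : Subgroup G) := z.2.to_le inf_le_left
    obtain ⟨n, -, hn⟩ := sylconj hR (inf_le_right.trans inf_le_left) hTp hB.syl
    have hRe : T ⊓ L = (z : Subgroup G) ⊓ (N ⊓ L) := by
      refine Subgroup.eq_of_le_of_card_ge (le_inf hz (inf_le_inf_right _ inf_le_right)) ?_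
      rw [← cj_card n]
      refine card_le (le_inf hn ?_)
      exact (cj_le.2 (inf_le_right.trans inf_le_right)).trans (hL n).le
    rw [← hRe] at sz
    obtain ⟨l, hl, hl'⟩ := sylconj (N := N ⊓ L) (cj_pg g hp) (by
      rw [hL']
      refine inf_le_inf_right _ ?_
      exact (cj_le.2 inf_le_right).trans (nm.1 (le_normalizer hg)).le) hp sz
    rw [cj_cj] at hl'
    have := hW (l * g) (N.mul_mem hl.1 hg) (nm.2 (Subgroup.eq_of_le_of_card_ge hl' (cj_card _ _).ge))
    rw [mul_smul, ← eq_inv_smul_iff, hs _ (L.inv_mem hl.2)] at this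
    exact hgs this
  · apply h
    have hUT : U ≤ T := le_inf hB.le le_normalizer
    have hn : N ≤ normalizer (ET D U : Set G) := fun k hk => nm_cl fun c hc =>
      ⟨(mem_normalizer_iff.1 hk c).1 hc.1, Tr.cj hT hc.2 k⟩
    have hm := hB.mx (ET D U) (((closure_le _).2 fun c hc => hc.1).trans hUT) (by
      rcases hMO 2 G D e he U (hTp.to_le hUT) hB.q with ⟨J, -, hJ⟩ | ⟨-, a, ha, v, hv⟩
      · exact absurd hJ (hN J)
      · exact Tr.qf hT ⟨v, hv⟩ (subset_closure ⟨ha, v, hv⟩)) (inf_le_right.trans hn) ⟨g, hg, hn hg, hgs⟩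
    obtain ⟨k, rfl⟩ := MulAction.exists_smul_eq G x y
    have hk : k * b * k⁻¹ ∈ ((k • x : Sylow 2 G) : Subgroup G) := mcs.2 (by simpa [mul_assoc] using hb.1)
    have tk := Dc.tr hT hb ⟨k, rfl⟩
    refine ⟨_, ⟨hk, hm ⟨hk, nm_cl fun c hc => ?_⟩⟩, k, rfl⟩
    rw [tk.cm2 hT (N := ⊤) (fun J _ => hN J) hc.2 (k • x).2 le_top hk (hB.le hc.1), mul_inv_cancel_right]
    exact hc

end H27.CL
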