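import Mathlib

/-! Generating functions of graded types. -/

set_option autoImplicit false

namespace H27.CN

open PowerSeries Finset

variable {A B : Type*}

/-- generating function of a graded type -/
noncomputable def gf (d : A → ℕ) : ℝ⟦X⟧ := mk fun n => (Nat.card {a // d a = n} : ℝ)

/-- finite fibres -/
def FF (d : A → ℕ) : Prop := ∀ n, Finite {a // d a = n}

theorem coeff_gf (d : A → ℕ) (n : ℕ) : coeff n (gf d) = Nat.card {a // d a = n} := coeff_mk ..

theorem gf_equiv {d : A → ℕ} {d' : B → ℕ} (e : A ≃ B) (h : ∀ a, d' (e a) = d a) (hB : FF d') :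
    FF d ∧ gf d = gf d' :=
  have := fun n => e.subtypeEquiv (p := (d · = n)) (q := (d' · = n)) fun a => by rw [h]
  ⟨fun n => (this n).finite_iff.2 (hB n), PowerSeries.ext fun n => by rw [coeff_gf, coeff_gf, Nat.card_congr (this n)]⟩

theorem gf_prod {d : A → ℕ} {d' : B → ℕ} (hA : FF d) (hB : FF d') :
    FF (fun p : A × B => d p.1 + d' p.2) ∧ gf (fun p : A × B => d p.1 + d' p.2) = gf d * gf d' := by
  have e : ∀ n, {p : A × B // d p.1 + d' p.2 = n} ≃ Σ x : antidiagonal n, {a // d a = x.1.1} × {b // d' b = x.1.2} :=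
    fun n => ⟨fun p => ⟨⟨(d p.1.1, d' p.1.2), mem_antidiagonal.2 p.2⟩, ⟨_, rfl⟩, ⟨_, rfl⟩⟩,
      fun x => ⟨(x.2.1, x.2.2), by rw [x.2.1.2, x.2.2.2]; exact mem_antidiagonal.1 x.1.2⟩, fun _ => rfl,
      by rintro ⟨⟨⟨_, _⟩, _⟩, ⟨a, h⟩, ⟨b, h'⟩⟩; dsimp only at h h'; subst h h'; rfl⟩
  unfold FF at hA hB
  refine ⟨fun n => (e n).finite_iff.2 inferInstance, PowerSeries.ext fun n => ?_⟩
  rw [coeff_gf, Nat.card_congr (e n), Nat.card_sigma, coeff_mul, ← sum_coe_sort (antidiagonal n)]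
  simp [coeff_gf]

theorem gf_mul {d : A → ℕ} (hA : FF d) {k : ℕ} (hk : k ≠ 0) :
    FF (fun a => k * d a) ∧ gf (fun a => k * d a) = expand k hk (gf d) := by
  have e : ∀ m, {a // k * d a = k * m} ≃ {a // d a = m} := fun m => Equiv.subtypeEquivRight fun a => by simp [hk]
  have e' : ∀ n, ¬ k ∣ n → IsEmpty {a // k * d a = n} := fun n h => ⟨fun a => h ⟨_, a.2.symm⟩⟩
  refine ⟨fun n => ?_, PowerSeries.ext fun n => ?_⟩ <;> by_cases h : k ∣ n
  · obtain ⟨m, rfl⟩ := h; exact (e m).finite_iff.2 (hA m)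
  · have := e' n h; infer_instance
  · obtain ⟨m, rfl⟩ := h; rw [coeff_expand_mul, coeff_gf, coeff_gf, Nat.card_congr (e m)]
  · have := e' n h; rw [coeff_expand_of_not_dvd _ _ _ h, coeff_gf, Nat.card_of_isEmpty, Nat.cast_zero]

section lv
variable {L : Type*} [DecidableEq L]

/-- the `k`-th level -/
def lv (k : L) (D : Multiset (A × L)) : Multiset A := (D.filter (·.2 = k)).map Prod.fst

@[simp] theorem lv_add (k : L) (D E : Multiset (A × L)) : lv k (D + E) = lv k D + lv k E := by simp [lv]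

theorem mem_lv {k : L} {D : Multiset (A × L)} {a : A} : a ∈ lv k D ↔ (a, k) ∈ D := by simp [lv]

theorem lv_eq_zero {k : L} {D : Multiset (A × L)} : lv k D = 0 ↔ ∀ x ∈ D, x.2 ≠ k := by
  simp only [lv, Multiset.map_eq_zero, Multiset.filter_eq_nil]

theorem lv_map (k j : L) (E : Multiset A) : lv k (E.map (·, j)) = if j = k then E else 0 := by
  split_ifs with h <;> simp [lv, Multiset.filter_map, h, Multiset.filter_eq_self.2, Multiset.filter_eq_nil.2]

theorem lv_filter (k : L) (P : L → Prop) [DecidablePred P] (D : Multiset (A × L)) :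
    lv k (D.filter fun x => P x.2) = if P k then lv k D else 0 := by
  split_ifs with h
  · rw [lv, Multiset.filter_filter, lv, Multiset.filter_congr fun x _ => and_iff_left_of_imp fun e => e ▸ h]
  · exact lv_eq_zero.2 fun x hx e => h (e ▸ (Multiset.mem_filter.1 hx).2)

theorem lv_split (k : L) (D : Multiset (A × L)) : (lv k D).map (·, k) + D.filter (·.2 ≠ k) = D := by
  rw [lv, Multiset.map_map, Multiset.map_congr (g := id) rfl fun x hx => ?_, Multiset.map_id,
    Multiset.filter_add_not]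
  rw [← (Multiset.mem_filter.1 hx).2]; rfl

theorem lv_ext {D E : Multiset (A × L)} (h : ∀ k, lv k D = lv k E) : D = E := by
  classical
  have : ∀ (D : Multiset (A × L)) x, D.count x = (lv x.2 D).count x.1 := fun D x => by
    conv_lhs => rw [← lv_split x.2 D]
    rw [Multiset.count_add, Multiset.count_filter_of_neg (by simp), add_zero]
    exact Multiset.count_map_eq_count' (·, x.2) _ (fun _ _ h => congrArg Prod.fst h) x.1
  exact Multiset.ext' fun x => by rw [this, this, h]

theorem lv_map' (φ : A → B) (k : L) (D : Multiset (A × L)) : lv k (D.map fun x => (φ x.1, x.2)) = (lv k D).map φ := by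
  simp [lv, Multiset.filter_map]

/-- multisets with prescribed levels -/
abbrev Lv (c : L → Multiset A → Prop) (S : Finset L) :=
  {D : Multiset (A × L) // (∀ k, c k (lv k D)) ∧ ∀ x ∈ D, x.2 ∈ S}

theorem gf_lv {c : L → Multiset A → Prop} (h0 : ∀ k, c k 0) (w : A × L → ℕ) (S : Finset L)
    (hF : ∀ k ∈ S, FF fun E : {E // c k E} => (E.1.map fun a => w (a, k)).sum) :
    FF (fun D : Lv c S => (D.1.map w).sum) ∧ gf (fun D : Lv c S => (D.1.map w).sum) =
      ∏ k ∈ S, gf fun E : {E // c k E} => (E.1.map fun a => w (a, k)).sum := by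
  induction S using Finset.induction_on with
  | empty =>
    have : Unique (Lv c ∅) := ⟨⟨⟨0, h0, by simp⟩⟩, fun D => Subtype.ext
      (Multiset.eq_zero_of_forall_notMem fun x hx => by simpa using D.2.2 x hx)⟩
    refine ⟨fun _ => inferInstance, PowerSeries.ext fun n => ?_⟩
    rw [coeff_gf, prod_empty, coeff_one, Nat.card_eq_fintype_card, Fintype.card_subtype, univ_unique,
      filter_singleton, Subsingleton.elim (default : Lv c ∅) ⟨0, h0, by simp⟩]
    simp [apply_ite card, eq_comm]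
  | insert k S hk ih =>
    obtain ⟨h1, h2⟩ := ih fun j hj => hF j (mem_insert_of_mem hj)
    obtain ⟨h3, h4⟩ := gf_prod (hF k (mem_insert_self _ _)) h1
    have hz : ∀ D : Lv c S, lv k D.1 = 0 := fun D => lv_eq_zero.2 fun x hx e => hk (e ▸ D.2.2 x hx)
    rw [prod_insert hk, ← h2, ← h4]
    refine gf_equiv ⟨fun D => (⟨lv k D.1, D.2.1 k⟩, ⟨D.1.filter (·.2 ≠ k), fun j => ?_, fun x hx =>
      (mem_insert.1 (D.2.2 x (Multiset.mem_of_mem_filter hx))).resolve_left (Multiset.mem_filter.1 hx).2⟩),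
      fun p => ⟨p.1.1.map (·, k) + p.2.1, fun j => ?_, fun x hx => ?_⟩, fun D => Subtype.ext (lv_split k D.1),
      fun p => Prod.ext (Subtype.ext ?_) (Subtype.ext ?_)⟩ (fun D => ?_) h3
    · rw [lv_filter j (· ≠ k)]; split_ifs; exacts [D.2.1 j, h0 j]
    · rw [lv_add, lv_map]; split_ifs with h
      · subst h; rw [hz, add_zero]; exact p.1.2
      · rw [zero_add]; exact p.2.2.1 j
    · rcases Multiset.mem_add.1 hx with hx | hx
      · obtain ⟨a, -, rfl⟩ := Multiset.mem_map.1 hx; exact mem_insert_self _ _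
      · exact mem_insert_of_mem (p.2.2.2 x hx)
    · simp [lv_map, hz]
    · simp only [Multiset.filter_add]
      rw [Multiset.filter_eq_nil.2 (by simp), zero_add, Multiset.filter_eq_self.2 (lv_eq_zero.1 (hz _))]
    · conv_rhs => rw [← lv_split k D.1]
      simp

end lv

section bd

/-- nonnegative coefficients -/
def NN (f : ℝ⟦X⟧) : Prop := ∀ n, 0 ≤ coeff n f

/-- bounded at `x` -/
def Bd (f : ℝ⟦X⟧) (x C : ℝ) : Prop := ∀ M, ∑ j ∈ range M, coeff j f * x ^ j ≤ C

variable {f g : ℝ⟦X⟧} {x c c' : ℝ}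

theorem nn_gf (d : A → ℕ) : NN (gf d) := fun n => by rw [coeff_gf]; positivity

theorem nn_one : NN 1 := fun n => by rw [coeff_one]; split_ifs <;> simp

theorem NN.mul (h : NN f) (h' : NN g) : NN (f * g) := fun n => by
  rw [coeff_mul]; exact sum_nonneg fun p _ => mul_nonneg (h _) (h' _)

theorem nn_prod {S : Finset A} {E : A → ℝ⟦X⟧} (h : ∀ k ∈ S, NN (E k)) : NN (∏ k ∈ S, E k) :=
  prod_induction _ NN (fun _ _ => NN.mul) nn_one h

theorem NN.expand (h : NN f) {k : ℕ} (hk : k ≠ 0) : NN (expand k hk f) := fun n => by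
  rw [coeff_expand]; split_ifs; exacts [h _, le_rfl]

theorem NN.le_mul (h : NN f) (h' : NN g) (h1 : 1 ≤ coeff 0 g) (n : ℕ) : coeff n f ≤ coeff n (f * g) := by
  rw [coeff_mul]
  exact (le_mul_of_one_le_right (h n) h1).trans (single_le_sum (f := fun p : ℕ × ℕ => coeff p.1 f * coeff p.2 g)
    (fun p _ => mul_nonneg (h _) (h' _)) (a := (n, 0)) (by simp))

theorem Bd.mono (h : Bd f x c) (h' : c ≤ c') : Bd f x c' := fun M => (h M).trans h'

theorem bd_one : Bd 1 x 1 := fun M => by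
  simp only [coeff_one, ite_mul, one_mul, zero_mul, sum_ite_eq']; split_ifs <;> simp

theorem Bd.mul (h : Bd f x c) (h' : Bd g x c') (hf : NN f) (hg : NN g) (hx : 0 ≤ x) : Bd (f * g) x (c * c') := fun M => by
  have n1 : ∀ (f : ℝ⟦X⟧) j, NN f → 0 ≤ coeff j f * x ^ j := fun f j h => mul_nonneg (h j) (pow_nonneg hx j)
  refine le_trans ?_ (mul_le_mul (h M) (h' M) (sum_nonneg fun j _ => n1 g j hg) (by simpa using h 0))
  rw [sum_mul_sum, ← sum_product']
  simp only [coeff_mul, sum_mul]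
  rw [sum_congr rfl fun j _ => sum_congr rfl (g := fun p : ℕ × ℕ => coeff p.1 f * x ^ p.1 * (coeff p.2 g * x ^ p.2))
    fun p hp => by rw [← mem_antidiagonal.1 hp]; ring, ← sum_biUnion fun i _ j _ h => disjoint_left.2 fun p a b =>
      h ((mem_antidiagonal.1 a).symm.trans (mem_antidiagonal.1 b))]
  refine sum_le_sum_of_subset_of_nonneg (fun p hp => ?_) fun p _ _ => mul_nonneg (n1 f _ hf) (n1 g _ hg)
  simp at hp ⊢; omega

theorem bd_prod {S : Finset A} {E : A → ℝ⟦X⟧} {c : A → ℝ} (h : ∀ k ∈ S, NN (E k)) (h' : ∀ k ∈ S, Bd (E k) x (c k))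
    (hx : 0 ≤ x) : Bd (∏ k ∈ S, E k) x (∏ k ∈ S, c k) := by
  classical
  induction S using Finset.induction_on with
  | empty => exact bd_one
  | insert k S hk ih =>
    rw [prod_insert hk, prod_insert hk]
    exact (h' k (by simp)).mul (ih (fun j hj => h j (by simp [hj])) fun j hj => h' j (by simp [hj])) (h k (by simp))
      (nn_prod fun j hj => h j (by simp [hj])) hx

theorem coeff_rec (q : ℝ) (a n : ℕ) (f : ℝ⟦X⟧) :
    coeff n ((1 - C q * X ^ a) * f) = coeff n f - if a ≤ n then q * coeff (n - a) f else 0 := by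
  simp [sub_mul, mul_assoc, coeff_X_pow_mul']

theorem bd_div {q : ℝ} {a : ℕ} {R : Polynomial ℝ} (h : (1 - C q * X ^ a) * f = (R : ℝ⟦X⟧)) (hf : NN f) (hx : 0 ≤ x)
    (hq : 0 ≤ q) (h1 : q * x ^ a < 1) : Bd f x (R.eval x / (1 - q * x ^ a)) := fun M => by
  have n1 : ∀ j, 0 ≤ coeff j f * x ^ j := fun j => mul_nonneg (hf j) (pow_nonneg hx j)
  set N := M + R.natDegree + 1 + a
  have h2 : ∑ j ∈ range N, coeff j (R : ℝ⟦X⟧) * x ^ j = R.eval x := by
    rw [Polynomial.eval_eq_sum_range' (n := N) (by omega)]; simp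
  simp only [← h, coeff_rec] at h2
  simp only [sub_mul, sum_sub_distrib] at h2
  have h3 : ∑ j ∈ range N, (if a ≤ j then q * coeff (j - a) f else 0) * x ^ j ≤
      q * x ^ a * ∑ j ∈ range N, coeff j f * x ^ j := by
    rw [show N = a + (M + R.natDegree + 1) by omega, sum_range_add, sum_eq_zero fun j hj => by
      rw [if_neg (by simpa using hj), zero_mul], zero_add, mul_sum]
    refine (sum_le_sum fun j _ => le_of_eq ?_).trans (sum_le_sum_of_subset_of_nonneg (range_mono le_add_self)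
      fun j _ _ => mul_nonneg (by positivity) (n1 j))
    simp [pow_add]; ring
  refine (sum_le_sum_of_subset_of_nonneg (range_mono (show M ≤ N by omega)) fun j _ _ => n1 j).trans ?_
  rw [le_div_iff₀ (by linarith)]
  linarith

theorem le_of_bd {q a : ℝ} {n : ℕ} (hq : 0 < q) (ha : 0 ≤ a) (h : ∀ m, coeff m f ≤ a * q ^ m) (hg : NN g)
    (h' : Bd g q⁻¹ c) : coeff n (f * g) ≤ a * c * q ^ n := by
  rw [coeff_mul, ← Nat.sum_antidiagonal_swap, Nat.sum_antidiagonal_eq_sum_range_succ_mk, mul_right_comm]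
  refine le_trans ?_ (mul_le_mul_of_nonneg_left (h' (n + 1)) (by positivity))
  rw [mul_sum]
  refine sum_le_sum fun j hj => (mul_le_mul_of_nonneg_right (h _) (hg _)).trans (le_of_eq ?_)
  obtain ⟨k, rfl⟩ := Nat.exists_eq_add_of_le (Nat.lt_succ_iff.1 (mem_range.1 hj))
  simp [pow_add]; field_simp

end bd

end H27.CN
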