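import Cfsg.Agent.H27.CN1

/-! Estimates for the class number generating functions. -/

set_option autoImplicit false

namespace H27.CN

open PowerSeries Finset Filter Topology

section gl
variable {q : ℝ} {E : ℕ → ℝ⟦X⟧} (hq : 2 ≤ q) (hn : ∀ k, NN (E k))
  (hE : ∀ k, 0 < k → (1 - C q * X ^ k) * E k = 1 - X ^ k)

variable (E) in
/-- coefficients of partial products -/
noncomputable def pc (a N n : ℕ) : ℝ := coeff n (∏ k ∈ Icc a N, E k)

include hE

theorem step {k : ℕ} (hk : 0 < k) (G : ℝ⟦X⟧) (n : ℕ) : coeff n (E k * G) = coeff n G +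
    if k ≤ n then q * coeff (n - k) (E k * G) - coeff (n - k) G else 0 := by
  have := coeff_rec q k n (E k * G)
  have h := coeff_rec 1 k n G
  rw [← mul_assoc, hE k hk] at this
  rw [map_one, one_mul] at h
  split_ifs at * <;> linarith

theorem pc_top {a N : ℕ} (h : a ≤ N + 1) (n : ℕ) : pc E a (N + 1) n = pc E a N n +
    if N + 1 ≤ n then q * pc E a (N + 1) (n - (N + 1)) - pc E a N (n - (N + 1)) else 0 := by
  simp only [pc, prod_Icc_succ_top h, mul_comm _ (E _)]; exact step hE (by omega) _ n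

theorem pc_bot {a N : ℕ} (h0 : 0 < a) (h : a ≤ N) (n : ℕ) : pc E a N n = pc E (a + 1) N n +
    if a ≤ n then q * pc E a N (n - a) - pc E (a + 1) N (n - a) else 0 := by
  simp only [pc, ← insert_Icc_add_one_left_eq_Icc h, prod_insert (show a ∉ Icc (a + 1) N by simp)]
  exact step hE h0 _ n

theorem pc_small {a N n : ℕ} (h : n < a) : pc E a N n = if n = 0 then 1 else 0 := by
  induction N with
  | zero => rw [pc, Icc_eq_empty (by omega), prod_empty, coeff_one]
  | succ N ih =>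
    by_cases h' : a ≤ N + 1
    · rw [pc_top hE h', ih, if_neg (show ¬ N + 1 ≤ n by omega), add_zero]
    · rw [pc, Icc_eq_empty h', prod_empty, coeff_one]

theorem pc_stab {a N M n : ℕ} (h0 : a ≤ N + 1) (h : n ≤ N) (h' : N ≤ M) : pc E a M n = pc E a N n := by
  induction M, h' using Nat.le_induction with
  | base => rfl
  | succ M h' ih => rw [pc_top hE (by omega), ih, if_neg (by omega), add_zero]

include hn

theorem pc_mono {a b N M : ℕ} (h0 : 0 < a) (h : a ≤ b) (h' : N ≤ M) (n : ℕ) : pc E b N n ≤ pc E a M n := by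
  rw [pc, pc, ← prod_sdiff (Icc_subset_Icc h h'), mul_comm]
  refine (nn_prod fun k _ => hn k).le_mul (nn_prod fun k _ => hn k) (le_of_eq ?_) n
  rw [coeff_zero_eq_constantCoeff_apply, map_prod, prod_eq_one fun k hk => ?_]
  have : 0 < k := by simp at hk; omega
  simpa [this.ne'] using step hE this 1 0

include hq

theorem pc_grow (a M : ℕ) {j : ℕ} (hj : 0 < j) : (q - 1) * pc E 3 (M + 2) j ≤ q * pc E 3 (M + 2 + a) (j + a) := by
  have n0 : ∀ a N n, 0 ≤ pc E a N n := fun a N n => nn_prod (fun k _ => hn k) n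
  induction M with
  | zero => rw [pc, Icc_eq_empty (by omega), prod_empty, coeff_one, if_neg hj.ne', mul_zero]; exact mul_nonneg (by linarith) (n0 ..)
  | succ M ih =>
    rw [show M + 1 + 2 + a = M + 2 + a + 1 by omega, pc_top hE (N := M + 2 + a) (by omega),
      pc_top hE (N := M + 2) (by omega) j]
    by_cases h : M + 2 + 1 ≤ j
    · rw [if_pos h, if_pos (by omega), show j + a - (M + 2 + a + 1) = j - (M + 2 + 1) by omega]
      have h1 := pc_mono hn hE (a := 3) (by omega) le_rfl (show M + 2 + 1 ≤ M + 2 + a + 1 by omega) (j - (M + 2 + 1))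
      have h2 := pc_mono hn hE (a := 3) (by omega) le_rfl (show M + 2 + a ≤ M + 2 + a + 1 by omega) (j - (M + 2 + 1))
      have h3 := n0 3 (M + 2) (j - (M + 2 + 1))
      nlinarith [mul_le_mul_of_nonneg_left h1 (show 0 ≤ q * (q - 1) by nlinarith)]
    · rw [if_neg h, if_neg (by omega)]; simpa using ih

theorem pc_two {n N : ℕ} (h : 0 < n) (h' : n + 2 ≤ N) : q ^ 2 * pc E 1 N n ≤ pc E 1 N (n + 2) := by
  obtain ⟨M, rfl⟩ : ∃ M, N = M + 2 := ⟨N - 2, by omega⟩
  have a1 := pc_bot hE one_pos (show 1 ≤ M + 2 by omega) (n + 2)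
  have a2 := pc_bot hE one_pos (show 1 ≤ M + 2 by omega) (n + 1)
  have a3 := pc_bot hE two_pos (show 2 ≤ M + 2 by omega) (n + 2)
  have a4 := pc_grow hq hn hE 1 M h
  have a5 := pc_grow hq hn hE 2 M h
  have a6 := pc_mono hn hE two_pos (show 2 ≤ 3 by omega) (le_refl (M + 2)) (n + 1)
  have a7 : 0 ≤ pc E 3 (M + 2) n := nn_prod (fun k _ => hn k) n
  rw [pc_stab hE (N := M + 2) (M := M + 2 + _) (by omega) (by omega) (by omega)] at a4 a5
  rw [if_pos (by omega)] at a1
  simp only [le_add_iff_nonneg_left, zero_le, if_true, Nat.add_sub_cancel, Nat.reduceAdd, Nat.add_succ_sub_one,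
    add_zero] at a1 a2 a3
  have : q * pc E 3 (M + 2) n ≤ q * ((q - 1) * pc E 2 (M + 2) (n + 1) + pc E 3 (M + 2) (n + 2)) := by
    nlinarith [mul_le_mul_of_nonneg_left a4 (show 0 ≤ q - 1 by linarith), mul_nonneg (show 0 ≤ q * (q - 2) by nlinarith) a7,
      mul_le_mul_of_nonneg_left a6 (show 0 ≤ q * (q - 1) by nlinarith)]
  have := le_of_mul_le_mul_left this (by linarith)
  rw [a1, a2, a3]; nlinarith

theorem pc_sum {z : ℝ} (hz : q * z = 1) (N : ℕ) : ∑ j ∈ range N, pc E 2 j j * z ^ j ≤ (1 - z)⁻¹ := by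
  have z0 : 0 < z := by by_contra! h; nlinarith
  have z1 : z < 1 := by nlinarith
  have h := bd_prod (S := Icc 2 (N + 1)) (c := fun k => (1 - z ^ k) / (1 - z ^ (k - 1))) (fun k _ => hn k)
    (fun k hk => by
      obtain ⟨j, rfl⟩ : ∃ j, k = j + 2 := ⟨k - 2, by simp at hk; omega⟩
      have e : q * z ^ (j + 2) = z ^ (j + 1) := by rw [pow_succ' _ (j + 1), ← mul_assoc, hz, one_mul]
      have := bd_div (R := 1 - Polynomial.X ^ (j + 2)) (by simpa using hE _ (by omega)) (hn _) z0.le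
        (by linarith) (e ▸ pow_lt_one₀ z0.le z1 (by omega))
      simpa [e] using this) z0.le N
  have e : ∀ N, ∏ k ∈ Icc 2 (N + 1), (1 - z ^ k) / (1 - z ^ (k - 1)) = (1 - z ^ (N + 1)) / (1 - z) := fun N => by
    induction N with
    | zero => simp [sub_ne_zero.2 z1.ne']
    | succ N ih =>
      have := sub_ne_zero.2 (pow_lt_one₀ z0.le z1 (show N + 1 ≠ 0 by omega)).ne'
      rw [prod_Icc_succ_top (by omega), ih, Nat.add_sub_cancel]; field_simp
  refine le_trans (le_of_eq (sum_congr rfl fun j hj => ?_)) (h.trans ?_)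
  · have := mem_range.1 hj
    rcases j with _ | j
    · rw [pc_small hE two_pos, ← pc, pc_small hE two_pos]
    · rw [← pc, pc_stab hE (N := j + 1) (M := N + 1) (by omega) le_rfl (by omega)]
  · rw [e, div_eq_mul_inv]; exact mul_le_of_le_one_left (inv_nonneg.2 (by linarith)) (by simp; positivity)

theorem pc_le (n : ℕ) : pc E 1 n n ≤ q ^ n := by
  obtain ⟨z, hz⟩ : ∃ z, q * z = 1 := ⟨q⁻¹, mul_inv_cancel₀ (by linarith)⟩
  have z0 : 0 < z := by by_contra! h; nlinarith
  have z1 : z < 1 := by nlinarith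
  have n0 : ∀ j, 0 ≤ pc E 2 j j * z ^ j := fun j => mul_nonneg (nn_prod (fun k _ => hn k) j) (by positivity)
  rcases n with _ | n
  · simp [pc]
  have h1 : ∀ m, pc E 1 m m * z ^ m = (1 - z) * ∑ j ∈ range (m + 1), pc E 2 j j * z ^ j +
      pc E 2 m m * z ^ m * z := fun m => by
    induction m with
    | zero => simp [pc]
    | succ m ih =>
      rw [sum_range_succ, pc_bot hE one_pos (by omega), if_pos (by omega), Nat.add_sub_cancel,
        pc_stab hE (N := m) (by omega) le_rfl (by omega), show pc E (1 + 1) (m + 1) m = pc E 2 m m by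
          rcases m with _ | m
          · exact (pc_small hE two_pos).trans (pc_small hE two_pos).symm
          · exact pc_stab hE (by omega) le_rfl (by omega)]
      linear_combination ih + pc E 1 m m * z ^ m * hz
  have h2 : ∀ t, pc E 1 (n + 1) (n + 1) * z ^ (n + 1) ≤ pc E 1 (2 * t + (n + 1)) (2 * t + (n + 1)) *
      z ^ (2 * t + (n + 1)) := fun t => by
    induction t with
    | zero => simp
    | succ t ih =>
      have := pc_two hq hn hE (n := 2 * t + (n + 1)) (by omega) le_rfl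
      rw [pc_stab hE (N := 2 * t + (n + 1)) (by omega) le_rfl (by omega)] at this
      rw [show 2 * (t + 1) + (n + 1) = 2 * t + (n + 1) + 2 by ring, pow_add _ _ 2]
      refine ih.trans (le_trans (le_of_eq ?_) (mul_le_mul_of_nonneg_right this (by positivity)))
      linear_combination -(pc E 1 (2 * t + (n + 1)) (2 * t + (n + 1)) * z ^ (2 * t + (n + 1)) * (q * z + 1)) * hz
  have h3 := ((((summable_of_sum_range_le n0 (pc_sum hq hn hE hz)).tendsto_atTop_zero.mul_const z).const_add 1).comp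
    (tendsto_atTop_mono (g := fun t => 2 * t + (n + 1)) (fun t => by simp; omega) tendsto_id))
  have := ge_of_tendsto' h3 fun t => (h2 t).trans ((h1 _).le.trans (add_le_add_left (((mul_le_mul_of_nonneg_left
    (pc_sum hq hn hE hz _) (by linarith))).trans (mul_inv_le_one)) _))
  have := mul_le_mul_of_nonneg_right this (show 0 ≤ q ^ (n + 1) by positivity)
  rwa [zero_mul, add_zero, mul_assoc, ← mul_pow, mul_comm z, hz, one_pow, mul_one, one_mul] at this

omit hn hq in
theorem pc_low : pc E 1 1 1 = q - 1 ∧ pc E 1 2 2 = q ^ 2 - 1 ∧ pc E 1 3 3 = q ^ 3 - q := by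
  have s := fun a N n => pc_small hE (a := a) (N := N) (n := n)
  have b := fun a N => pc_bot hE (a := a) (N := N)
  refine ⟨?_, ?_, ?_⟩
  · rw [b]; simp [s]; all_goals omega
  · rw [b, b 2, b 1 2 _ _ (2 - 1)]; simp [s]; ring; all_goals omega
  · rw [b, b 2, b 3, b 1 3 _ _ (3 - 1), b 2 3 _ _ (3 - 1), b 1 3 _ _ (3 - 1 - 1)]; simp [s]; ring; all_goals omega

end gl

theorem Bd.congr {f : ℝ⟦X⟧} {x y c : ℝ} (h : Bd f x c) (e : x = y) : Bd f y c := e ▸ h

theorem tele {F b : ℕ → ℝ} {a N₀ : ℕ} (ha : a ≤ N₀ + 1) (h0 : ∏ k ∈ Icc a N₀, F k ≤ b N₀)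
    (h : ∀ N, N₀ ≤ N → 0 ≤ F (N + 1) ∧ b N * F (N + 1) ≤ b (N + 1)) {N : ℕ} (hN : N₀ ≤ N) :
    ∏ k ∈ Icc a N, F k ≤ b N := by
  induction N, hN using Nat.le_induction with
  | base => exact h0
  | succ N hN ih =>
    rw [prod_Icc_succ_top (by omega)]
    exact (mul_le_mul_of_nonneg_right ih (h N hN).1).trans (h N hN).2

theorem fac_le {z w : ℝ} (h0 : 0 ≤ z) (h : z ≤ w) (h1 : w < 1) (a b : ℕ) {c : ℕ} (hc : c ≠ 0) :
    0 ≤ (1 + z ^ a) ^ b / (1 - z ^ c) ∧ (1 + z ^ a) ^ b / (1 - z ^ c) ≤ (1 + w ^ a) ^ b / (1 - w ^ c) := by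
  have := pow_lt_one₀ (h0.trans h) h1 hc
  have := pow_le_pow_left₀ h0 h c
  have := h0.trans h
  exact ⟨div_nonneg (by positivity) (by linarith), by gcongr⟩

theorem gu_le {q : ℝ} {E : ℕ → ℝ⟦X⟧} (hq : 2 ≤ q) (hn : ∀ k, NN (E k))
    (hE : ∀ k, 0 < k → (1 - C q * X ^ k) * E k = 1 + X ^ k) {N : ℕ} (hN : 7 ≤ N) (n : ℕ) :
    pc E 1 N n ≤ (if 3 ≤ q then 3 else 8.26) * q ^ n := by
  obtain ⟨z, hz⟩ : ∃ z, z = q⁻¹ := ⟨_, rfl⟩
  have z0 : 0 < z := hz ▸ by positivity
  have z1 : q * z = 1 := hz ▸ mul_inv_cancel₀ (by linarith)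
  have z2 : z ≤ 1 / 2 := by nlinarith
  have h1 : ∀ m, coeff m (E 1) = (1 + z) * q ^ m - if m = 0 then z else 0 := fun m => by
    induction m with
    | zero => simpa using (coeff_rec q 1 0 (E 1)).symm.trans (congrArg _ (hE 1 one_pos))
    | succ m ih =>
      have := (coeff_rec q 1 (m + 1) (E 1)).symm.trans (congrArg _ (hE 1 one_pos))
      simp only [le_add_iff_nonneg_left, zero_le, if_true, Nat.add_sub_cancel, ih, map_add, coeff_one, coeff_X_pow,
        Nat.add_eq_zero_iff, one_ne_zero, and_false, if_false, Nat.add_eq_right] at this ⊢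
      split_ifs at this
      · linear_combination this - z1
      · linear_combination this
  have h2 := bd_prod (S := Icc 2 N) (c := fun k => (1 + z ^ k) ^ 1 / (1 - z ^ (k - 1))) (fun k _ => hn k)
    (fun k hk => by
      obtain ⟨j, rfl⟩ : ∃ j, k = j + 2 := ⟨k - 2, by simp at hk; omega⟩
      have e : q * z ^ (j + 2) = z ^ (j + 1) := by rw [pow_succ' _ (j + 1), ← mul_assoc, z1, one_mul]
      have := bd_div (R := 1 + Polynomial.X ^ (j + 2)) (by simpa using hE _ (by omega)) (hn _) z0.le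
        (by linarith) (e ▸ pow_lt_one₀ z0.le (by linarith) (by omega))
      simpa [e] using this) z0.le
  have h3 : ∀ w, z ≤ w → w < 1 → ∀ c, (1 + w) * ∏ k ∈ Icc 2 N, (1 + w ^ k) ^ 1 / (1 - w ^ (k - 1)) ≤ c →
      pc E 1 N n ≤ c * q ^ n := fun w a b c h => by
    rw [pc, ← insert_Icc_add_one_left_eq_Icc (by omega), prod_insert (by simp)]
    refine (le_of_bd (a := 1 + z) (by linarith) (by linarith) (fun m => by rw [h1]; split_ifs <;> linarith)
      (nn_prod fun k _ => hn k) (h2.congr hz)).trans (mul_le_mul_of_nonneg_right (le_trans ?_ h) (by positivity))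
    have := fun k (hk : k ∈ Icc 2 N) => fac_le z0.le a b k 1 (c := k - 1) (by simp at hk; omega)
    exact mul_le_mul (by linarith) (prod_le_prod (fun k hk => (this k hk).1) fun k hk => (this k hk).2)
      (prod_nonneg fun k hk => (this k hk).1) (by linarith)
  split_ifs with h
  · refine h3 (1 / 3) (by nlinarith) (by norm_num) _ ?_
    have := tele (F := fun k => (1 + (1 / 3 : ℝ) ^ k) ^ 1 / (1 - (1 / 3) ^ (k - 1))) (a := 2) (N₀ := 2)
      (b := fun N => 9 / 4 * (1 - 2 * (1 / 3) ^ N)) (by omega) (by norm_num) (fun N h => by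
        have := pow_lt_one₀ (a := (1 / 3 : ℝ)) (by norm_num) (by norm_num) (show N ≠ 0 by omega)
        refine ⟨div_nonneg (by positivity) (by simpa using this.le), ?_⟩
        rw [Nat.add_sub_cancel, ← mul_div_assoc, div_le_iff₀ (by linarith), pow_one, pow_succ]
        generalize (1 / _ : ℝ) ^ N = y; nlinarith [sq_nonneg y]) (show 2 ≤ N by omega)
    have : (0 : ℝ) ≤ (1 / 3) ^ N := by positivity
    linarith
  · refine h3 (1 / 2) z2 (by norm_num) _ ?_
    have := tele (F := fun k => (1 + (1 / 2 : ℝ) ^ k) ^ 1 / (1 - (1 / 2) ^ (k - 1))) (a := 2) (N₀ := 7)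
      (b := fun N => 8.26 * 2 / 3 * (1 - 3 * (1 / 2) ^ N)) (by omega) (by norm_num [prod_Icc_succ_top]) (fun N h => by
        have := pow_lt_one₀ (a := (1 / 2 : ℝ)) (by norm_num) (by norm_num) (show N ≠ 0 by omega)
        refine ⟨div_nonneg (by positivity) (by simpa using this.le), ?_⟩
        rw [Nat.add_sub_cancel, ← mul_div_assoc, div_le_iff₀ (by linarith), pow_one, pow_succ]
        generalize (1 / _ : ℝ) ^ N = y; nlinarith [sq_nonneg y]) hN
    have : (0 : ℝ) ≤ (1 / 2) ^ N := by positivity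
    linarith

theorem sp_le {q : ℝ} {E : ℕ → ℝ⟦X⟧} (hq : 3 ≤ q) (hn : ∀ k, NN (E k))
    (hE : ∀ k, 0 < k → (1 - C q * X ^ (2 * k)) * E k = if Even k then (1 + X ^ k) ^ 4 else 1) {N : ℕ} (hN : 3 ≤ N)
    (n : ℕ) : pc E 1 (2 * N + 1) (2 * n) ≤ 10.8 * q ^ n := by
  obtain ⟨s, s0, rfl⟩ : ∃ s, 0 < s ∧ q = s ^ 2 := ⟨√q, by positivity, (Real.sq_sqrt (by linarith)).symm⟩
  obtain ⟨x, hx⟩ : ∃ x, x = s⁻¹ := ⟨_, rfl⟩
  have x0 : 0 < x := hx ▸ by positivity
  have z1 : s ^ 2 * x ^ 2 = 1 := by rw [hx]; field_simp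
  have z2 : x ^ 2 ≤ 1 / 3 := by nlinarith
  have h1 : ∀ m, coeff m (E 1) ≤ 1 * s ^ m := fun m => by
    induction m using Nat.strong_induction_on with
    | _ m ih =>
      have := (coeff_rec (s ^ 2) (2 * 1) m (E 1)).symm.trans (congrArg _ (hE 1 one_pos))
      rcases m with _ | _ | m
      · simpa using this.le
      · simpa using this.le.trans (by simp [s0.le])
      · have h := mul_le_mul_of_nonneg_left (ih m (by omega)) (sq_nonneg s)
        simp [coeff_one] at this; rw [pow_succ, pow_succ]; linarith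
  have h2 := bd_prod (S := Icc 2 (2 * N + 1)) (c := fun k => (1 + (x ^ 2) ^ (k / 2)) ^ (if Even k then 4 else 0) /
    (1 - (x ^ 2) ^ (k - 1))) (fun k _ => hn k) (fun k hk => by
      obtain ⟨j, rfl⟩ : ∃ j, k = j + 2 := ⟨k - 2, by simp at hk; omega⟩
      have e : s ^ 2 * x ^ (2 * (j + 2)) = (x ^ 2) ^ (j + 1) := by
        rw [pow_mul, pow_succ' _ (j + 1), ← mul_assoc, z1, one_mul]
      have := bd_div (R := if Even (j + 2) then (1 + Polynomial.X ^ (j + 2)) ^ 4 else 1) (by
        rw [hE _ (by omega)]; split_ifs <;> simp) (hn _) x0.le (by linarith) (e ▸ pow_lt_one₀ (sq_nonneg x) (by linarith) (by omega))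
      rw [e] at this
      split_ifs at * with h
      · rw [← pow_mul x 2 (_ / 2), Nat.two_mul_div_two_of_even h]; simpa using this
      · simpa using this) x0.le
  rw [pc, ← insert_Icc_add_one_left_eq_Icc (by omega), prod_insert (by simp), ← pow_mul]
  refine (le_of_bd s0 zero_le_one h1 (nn_prod fun k _ => hn k) (h2.congr hx)).trans
    (mul_le_mul_of_nonneg_right ?_ (by positivity))
  have := fun k (hk : k ∈ Icc 2 (2 * N + 1)) => fac_le (sq_nonneg x) z2 (by norm_num) (k / 2)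
    (if Even k then 4 else 0) (c := k - 1) (by simp at hk; omega)
  refine (one_mul _).le.trans ((prod_le_prod (fun k hk => (this k hk).1) fun k hk => (this k hk).2).trans ?_)
  have key : ∀ N, ∏ k ∈ Icc 2 (2 * N + 1), (1 + (1 / 3 : ℝ) ^ (k / 2)) ^ (if Even k then 4 else 0) /
      (1 - (1 / 3) ^ (k - 1)) = ∏ i ∈ Icc 1 N, (1 + (1 / 3) ^ i) ^ 4 /
        ((1 - 3 * ((1 / 3) ^ i) ^ 2) * (1 - ((1 / 3) ^ i) ^ 2)) := fun N => by
    induction N with
    | zero => simp
    | succ N ih =>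
      rw [show 2 * (N + 1) + 1 = 2 * N + 1 + 1 + 1 by ring, prod_Icc_succ_top (by omega), prod_Icc_succ_top (by omega),
        ih, prod_Icc_succ_top (by omega), if_pos (by grind), if_neg (by grind), mul_assoc, div_mul_div_comm,
        show (2 * N + 1 + 1) / 2 = N + 1 by omega, Nat.add_sub_cancel, Nat.add_sub_cancel]
      congr 2 <;> ring
  have := tele (F := fun i => (1 + (1 / 3 : ℝ) ^ i) ^ 4 / ((1 - 3 * ((1 / 3) ^ i) ^ 2) * (1 - ((1 / 3) ^ i) ^ 2)))
    (a := 1) (N₀ := 3) (b := fun N => 10.8 * (1 - 2 * (1 / 3) ^ N)) (by omega) (by norm_num [prod_Icc_succ_top])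
    (fun N h => by
      have h1 : (1 / 3 : ℝ) ^ (N + 1) ≤ 1 / 3 := pow_le_of_le_one (by norm_num) (by norm_num) (by omega)
      have h2 : (0 : ℝ) ≤ (1 / 3) ^ (N + 1) := by positivity
      rw [show (1 / 3 : ℝ) ^ N = 3 * (1 / 3) ^ (N + 1) by ring]
      generalize (1 / 3 : ℝ) ^ (N + 1) = u at *
      have : 0 < (1 - 3 * u ^ 2) * (1 - u ^ 2) := mul_pos (by nlinarith) (by nlinarith)
      refine ⟨by positivity, ?_⟩
      rw [← mul_div_assoc, div_le_iff₀ this]
      nlinarith [pow_nonneg h2 3, pow_nonneg h2 4, pow_nonneg h2 5, sq_nonneg u]) hN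
  have : (0 : ℝ) ≤ (1 / 3) ^ N := by positivity
  rw [key]; linarith

end H27.CN
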