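import Cfsg.Agent.H27.CN2
import Cfsg.Agent.H27.Spec14

/-! Counting Jordan data. -/

set_option autoImplicit false

namespace H27.CN

open Finset Function H27.Sp

theorem gcd_mem (M : AddSubgroup ℤ) {T : Finset ℕ} (h : ∀ k ∈ T, (k : ℤ) ∈ M) {a : ℕ} (ha : (a : ℤ) ∈ M) :
    (((T.gcd id).gcd a : ℕ) : ℤ) ∈ M := by
  have key : ∀ x y : ℕ, (x : ℤ) ∈ M → (y : ℤ) ∈ M → ((x.gcd y : ℕ) : ℤ) ∈ M := fun x y hx hy => by
    rw [Nat.gcd_eq_gcd_ab, mul_comm, mul_comm (y : ℤ)]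
    exact M.add_mem (M.zsmul_mem hx _) (M.zsmul_mem hy _)
  refine key _ _ ?_ ha
  induction T using Finset.induction_on with
  | empty => simp
  | insert k T _ ih => rw [gcd_insert]; exact key _ _ (h k (by simp)) (ih fun j hj => h j (by simp [hj]))

theorem exists_shift {Y κ : Type*} (key : Y → κ) {g : κ → κ} (hg : Injective g)
    (h : ∀ y, Nonempty ({x // key x = key y} ↪ {x // key x = g (key y)})) :
    ∃ σ : Y → Y, Injective σ ∧ ∀ y, key (σ y) = g (key y) := by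
  have : ∀ k, Nonempty ({x // key x = k} ↪ {x // key x = g k}) := fun k => by
    by_cases hk : ∃ y, key y = k
    · obtain ⟨y, rfl⟩ := hk; exact h y
    · exact ⟨⟨fun x => (hk ⟨_, x.2⟩).elim, fun x => (hk ⟨_, x.2⟩).elim⟩⟩
  exact ⟨Equiv.sigmaFiberEquiv key ∘ Sigma.map g (fun k => (this k).some) ∘ (Equiv.sigmaFiberEquiv key).symm,
    (Equiv.injective _).comp ((hg.sigma_map fun k => (this k).some.injective).comp (Equiv.injective _)),
    fun y => ((this _).some ⟨y, rfl⟩).2⟩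

variable {K : Type*} [Field K] {Q : ℤ} {a q n : ℕ} {ζ : K}

/-- invariant multisets of units -/
def Gd (Q : ℤ) (E : Multiset K) : Prop := E.map (· ^ Q) = E ∧ (0 : K) ∉ E

theorem pre_iff {D : Multiset (K × ℕ)} : Pre Q D ↔ (∀ k, Gd Q (lv k D)) ∧ ∀ x ∈ D, 0 < x.2 :=
  ⟨fun h => ⟨fun k => ⟨by rw [← lv_map']; exact congrArg _ h.inv, fun e => h.ne _ (mem_lv.1 e) rfl⟩, h.pos⟩,
    fun h => ⟨lv_ext fun k => (lv_map' _ k D).trans (h.1 k).1,
      fun x hx e => (h.1 x.2).2 (mem_lv.2 (e ▸ hx)), h.2⟩⟩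

theorem Gd.pre {E : Multiset K} (h : Gd Q E) {k : ℕ} (hk : 0 < k) : Pre Q (E.map (·, k)) :=
  pre_iff.2 ⟨fun j => by rw [lv_map]; split_ifs; exacts [h, by simp [Gd]], by simpa using fun _ _ => hk⟩

theorem detD_lev (E : Multiset K) (k : ℕ) : detD (E.map (·, k)) = E.prod ^ k := by
  simpa [detD] using Multiset.prod_map_pow (m := E) (f := id) (n := k)

theorem dimD_lev (E : Multiset K) (k : ℕ) : dimD (E.map (·, k)) = k * E.card := by simp [dimD, mul_comm]

/-- the counting context -/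
structure Ctx (Q : ℤ) (a q : ℕ) (ζ : K) : Prop where
  prim : IsPrimitiveRoot ζ a
  pos : 0 < a
  qpos : 0 < q
  fix : ∀ c : K, c ≠ 0 → (c ^ Q = c ↔ c ^ a = 1)
  cnt : ∀ m (c : K), c ^ a = 1 → Nat.card {E // Gd Q E ∧ E.card = m + 1 ∧ E.prod = c} = q ^ m

variable (K Q) in
/-- level generating functions -/
noncomputable def lvE (k : ℕ) : PowerSeries ℝ := gf fun E : {E : Multiset K // Gd Q E} => k * E.1.card

variable (K Q n) in
/-- the number of Jordan data -/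
noncomputable def kk : ℕ := Nat.card {D : Multiset (K × ℕ) // Pre Q D ∧ dimD D = n}

variable (a) in
/-- the splitting number -/
def tt (D : Multiset (K × ℕ)) : ℕ := ((D.map Prod.snd).toFinset.gcd id).gcd a

theorem tt_dvd {D : Multiset (K × ℕ)} {x : K × ℕ} (h : x ∈ D) : tt a D ∣ x.2 :=
  (Nat.gcd_dvd_left _ _).trans (gcd_dvd (f := id) (by simpa using ⟨x.1, h⟩))

namespace Ctx
variable (h : Ctx Q a q ζ)
include h

theorem prod {E : Multiset K} (hE : Gd Q E) : E.prod ^ a = 1 :=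
  (h.fix _ (Multiset.prod_ne_zero hE.2)).1 (by
    have := Multiset.prod_map_zpow (m := E) (f := id) (n := Q)
    simp only [id, Multiset.map_id'] at this; rw [← this, hE.1])

theorem fin {c : K} (hc : c ^ a = 1) (m : ℕ) : Finite {E // Gd Q E ∧ E.card = m + 1 ∧ E.prod = c} :=
  Nat.finite_of_card_ne_zero (by rw [h.cnt m c hc]; exact (pow_pos h.qpos m).ne')

theorem lev : FF (fun E : {E : Multiset K // Gd Q E} => E.1.card) ∧
    (1 - .C (q : ℝ) * .X ^ 1) * gf (fun E : {E : Multiset K // Gd Q E} => E.1.card) = 1 + .C (a - q : ℝ) * .X := by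
  classical
  have e : ∀ m, {E : {E : Multiset K // Gd Q E} // E.1.card = m + 1} ≃ Σ c : Polynomial.nthRootsFinset a (1 : K),
      {E : Multiset K // Gd Q E ∧ E.card = m + 1 ∧ E.prod = c.1} := fun m =>
    ⟨fun E => ⟨⟨_, (Polynomial.mem_nthRootsFinset h.pos _).2 (h.prod E.1.2)⟩, E.1.1, E.1.2, E.2, rfl⟩,
      fun x => ⟨⟨x.2.1, x.2.2.1⟩, x.2.2.2.1⟩, fun _ => rfl, by rintro ⟨⟨c, _⟩, E, _, _, h⟩; cases h; rfl⟩
  have := fun (c : Polynomial.nthRootsFinset a (1 : K)) => h.fin ((Polynomial.mem_nthRootsFinset h.pos _).1 c.2)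
  have u : Unique {E : {E : Multiset K // Gd Q E} // E.1.card = 0} :=
    ⟨⟨⟨⟨0, by simp [Gd]⟩, rfl⟩⟩, fun E => Subtype.ext (Subtype.ext (Multiset.card_eq_zero.1 E.2))⟩
  have c : ∀ m, Nat.card {E : {E : Multiset K // Gd Q E} // E.1.card = m + 1} = a * q ^ m := fun m => by
    rw [Nat.card_congr (e m), Nat.card_sigma, sum_congr rfl fun c _ => h.cnt m c.1
      ((Polynomial.mem_nthRootsFinset h.pos _).1 c.2)]
    simp [h.prim.card_nthRootsFinset]
  refine ⟨fun m => by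
    rcases m with _ | m
    exacts [inferInstance, (e m).finite_iff.2 inferInstance], PowerSeries.ext fun m => ?_⟩
  have c0 : Nat.card {E : {E : Multiset K // Gd Q E} // E.1.card = 0} = 1 := Nat.card_unique
  rw [coeff_rec, map_add, PowerSeries.coeff_C_mul]
  rcases m with _ | _ | m <;> simp [-Multiset.card_eq_zero, coeff_gf, c, c0, PowerSeries.coeff_X, PowerSeries.coeff_one]
  ring

theorem lvE_rec {k : ℕ} (hk : 0 < k) : (1 - .C (q : ℝ) * .X ^ k) * lvE K Q k = 1 + .C (a - q : ℝ) * .X ^ k := by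
  have := congrArg (PowerSeries.expand k hk.ne') h.lev.2
  simpa [lvE, (gf_mul h.lev.1 hk.ne').2, PowerSeries.expand_C] using this

theorem kk_eq {N : ℕ} (hN : n ≤ N) : Finite {D : Multiset (K × ℕ) // Pre Q D ∧ dimD D = n} ∧
    (kk K Q n : ℝ) = pc (lvE K Q) 1 N n := by
  have := gf_lv (c := fun _ => Gd (K := K) Q) (by simp [Gd]) Prod.snd (Icc 1 N) fun k hk => by
    simpa [mul_comm] using (gf_mul h.lev.1 (show k ≠ 0 by simp at hk; omega)).1
  have e : {D : Multiset (K × ℕ) // Pre Q D ∧ dimD D = n} ≃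
      {D : Lv (fun _ => Gd (K := K) Q) (Icc 1 N) // (D.1.map Prod.snd).sum = n} :=
    ⟨fun D => ⟨⟨D.1, (pre_iff.1 D.2.1).1, fun x hx => mem_Icc.2 ⟨D.2.1.pos x hx, (D.2.2 ▸ le_dimD hx).trans hN⟩⟩, D.2.2⟩,
      fun D => ⟨D.1.1, pre_iff.2 ⟨D.1.2.1, fun x hx => (mem_Icc.1 (D.1.2.2 x hx)).1⟩, D.2⟩, fun _ => rfl, fun _ => rfl⟩
  refine ⟨e.finite_iff.2 (this.1 n), ?_⟩
  rw [kk, Nat.card_congr e, ← coeff_gf, this.2, pc]
  simp [lvE, mul_comm]

/-- the Jordan data of dimension `n` -/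
noncomputable def X (n : ℕ) : Finset (Multiset (K × ℕ)) :=
  Set.Finite.toFinset (s := {D | Pre Q D ∧ dimD D = n}) (h.kk_eq le_rfl).1

theorem mem_X {D : Multiset (K × ℕ)} : D ∈ h.X n ↔ Pre Q D ∧ dimD D = n := Set.Finite.mem_toFinset _

theorem card_X (n : ℕ) : #(h.X n) = kk K Q n := (Nat.card_eq_card_finite_toFinset _).symm

open Classical in
theorem shift (T : Finset ℕ) {k : ℕ} (hk : k ∈ T) (c : K) :
    #{D ∈ h.X n | (D.map Prod.snd).toFinset = T ∧ detD D = c} ≤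
      #{D ∈ h.X n | (D.map Prod.snd).toFinset = T ∧ detD D = c * ζ ^ k} := by
  obtain ⟨σ, s1, s2⟩ := exists_shift (fun E : {E : Multiset K // Gd Q E ∧ E ≠ 0} => (E.1.card, E.1.prod))
    (g := fun x => (x.1, x.2 * ζ)) (fun x y e => Prod.ext (Prod.mk.inj e).1
      (mul_right_cancel₀ (h.prim.ne_zero h.pos.ne') (Prod.mk.inj e).2)) fun E => by
      obtain ⟨m, hm⟩ := Nat.exists_eq_add_one_of_ne_zero (Multiset.card_eq_zero.not.2 E.2.2)
      have e : ∀ c, {x : {E : Multiset K // Gd Q E ∧ E ≠ 0} // (x.1.card, x.1.prod) = (E.1.card, c)} ≃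
          {E // Gd Q E ∧ E.card = m + 1 ∧ E.prod = c} := fun c =>
        ⟨fun x => ⟨x.1.1, x.1.2.1, (congrArg Prod.fst x.2).trans hm, congrArg Prod.snd x.2⟩,
          fun x => ⟨⟨x.1, x.2.1, fun e => by simpa [e] using x.2.2.1⟩, Prod.ext (x.2.2.1.trans hm.symm) x.2.2.2⟩,
          fun _ => rfl, fun _ => rfl⟩
      have h1 := h.prod E.2.1
      have h2 : (E.1.prod * ζ) ^ a = 1 := by rw [mul_pow, h1, h.prim.pow_eq_one, mul_one]
      have := h.fin h1 m; have := h.fin h2 m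
      exact ⟨((e _).trans ((Finite.card_eq.1 ((h.cnt m _ h1).trans (h.cnt m _ h2).symm)).some.trans (e _).symm)).toEmbedding⟩
  have key : ∀ D ∈ ({D ∈ h.X n | (D.map Prod.snd).toFinset = T ∧ detD D = c} : Finset _), Gd Q (lv k D) ∧ lv k D ≠ 0 :=
    fun D hD => ⟨(pre_iff.1 (h.mem_X.1 (mem_filter.1 hD).1).1).1 k, fun e => by
      obtain ⟨x, hx, e'⟩ := Multiset.mem_map.1 (Multiset.mem_toFinset.1 ((mem_filter.1 hD).2.1 ▸ hk))
      exact lv_eq_zero.1 e x hx e'⟩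
  rw [← card_attach]
  refine card_le_card_of_injOn (fun D => (σ ⟨_, key D.1 D.2⟩).1.map (·, k) + D.1.filter (·.2 ≠ k)) (fun D _ => ?_)
    fun D _ D' _ e => Subtype.ext ?_
  · obtain ⟨h1, h2, h3⟩ := mem_filter.1 D.2
    obtain ⟨h4, h5⟩ := h.mem_X.1 h1
    have h6 := Prod.mk.inj (s2 ⟨_, key D.1 D.2⟩)
    obtain ⟨x, hx⟩ := Multiset.exists_mem_of_ne_zero (key D.1 D.2).2
    have k0 : 0 < k := h4.pos _ (mem_lv.1 hx)
    have h7 : Pre Q (D.1.filter (·.2 ≠ k)) := pre_iff.2 ⟨fun j => by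
      rw [lv_filter j (· ≠ k)]; split_ifs; exacts [(pre_iff.1 h4).1 j, by simp [Gd]],
      fun x hx => h4.pos x (Multiset.mem_of_mem_filter hx)⟩
    rw [← lv_split k D.1] at h2 h3 h5
    refine mem_filter.2 ⟨h.mem_X.2 ⟨((σ _).2.1.pre k0).add h7, ?_⟩, Eq.trans ?_ h2, ?_⟩
    · rw [dimD_add, dimD_lev, h6.1, ← dimD_lev, ← dimD_add, h5]
    · simp [Multiset.toFinset_replicate, (σ _).2.2, (key D.1 D.2).2]
    · rw [detD_add, detD_lev] at h3 ⊢; rw [h6.2, mul_pow, mul_right_comm, h3]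
  · have e1 := congrArg (lv k) e
    simp only [lv_add, lv_map, if_true, lv_filter k (· ≠ k), ne_eq, not_true, if_false, add_zero] at e1
    have e2 := congrArg Subtype.val (s1 (Subtype.ext e1))
    simp only [e1, Multiset.add_right_inj] at e
    rw [← lv_split k D.1, ← lv_split k D'.1, e]; exact congrArg (· + _) (congrArg _ e2)

open Classical in
theorem fiber (c : K) (hc : c ≠ 0) : a * ∑ D ∈ h.X n with detD D = c, tt a D ≤ ∑ D ∈ h.X n, tt a D ^ 2 := by
  have z0 := h.prim.ne_zero h.pos.ne'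
  rw [← sum_fiberwise_of_maps_to (g := fun D => (D.map Prod.snd).toFinset) (t := (h.X n).image fun D => (D.map Prod.snd).toFinset)
    fun D hD => mem_image_of_mem _ (mem_filter.1 hD).1, ← sum_fiberwise_of_maps_to (s := h.X n)
    (g := fun D => (D.map Prod.snd).toFinset) fun D => mem_image_of_mem _, mul_sum]
  refine sum_le_sum fun T _ => ?_
  set t := (T.gcd id).gcd a
  rw [sum_congr rfl (g := fun _ => t) fun D hD => by rw [tt, (mem_filter.1 hD).2], sum_congr (f := fun D => tt a D ^ 2) rfl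
    (g := fun _ => t ^ 2) fun D hD => by rw [tt, (mem_filter.1 hD).2], sum_const, sum_const, smul_eq_mul, smul_eq_mul,
    filter_filter]
  let N := fun c => #{D ∈ h.X n | (D.map Prod.snd).toFinset = T ∧ detD D = c}
  let M : AddSubmonoid ℤ := ⟨⟨{m | ∀ c, N c ≤ N (c * ζ ^ m)}, fun {x y} hx hy c => (hx c).trans
    ((hy _).trans_eq (by rw [zpow_add₀ z0, mul_assoc]))⟩, fun c => by simp⟩
  let M' : AddSubgroup ℤ := ⟨M, fun {x} hx c => (M.nsmul_mem hx (a - 1) c).trans_eq (by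
    rw [nsmul_eq_mul, Nat.cast_pred h.pos, sub_one_mul, zpow_sub₀ z0, zpow_mul, zpow_natCast, h.prim.pow_eq_one]; simp)⟩
  have h1 : (t : ℤ) ∈ M' := gcd_mem M' (fun k hk c => by simpa using h.shift T hk c) fun c => by
    simp [h.prim.pow_eq_one]
  obtain ⟨s, hs⟩ : t ∣ a := Nat.gcd_dvd_right _ _
  have t0 : 0 < t := Nat.gcd_pos_of_pos_right _ h.pos
  have h2 : s * N c ≤ #{D ∈ h.X n | (D.map Prod.snd).toFinset = T} := by
    refine le_trans ?_ ((sum_card_fiberwise_eq_card_filter _ ((range s).image fun i => c * ζ ^ (t * i)) detD).le.trans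
      (card_filter_le _ _))
    rw [sum_image fun i hi j hj e => Nat.eq_of_mul_eq_mul_left t0 (h.prim.pow_inj
      (hs ▸ Nat.mul_lt_mul_of_pos_left (mem_range.1 hi) t0) (hs ▸ Nat.mul_lt_mul_of_pos_left (mem_range.1 hj) t0)
      (mul_left_cancel₀ hc e)), ← smul_eq_mul, ← card_range s, ← sum_const, card_range]
    refine sum_le_sum fun i _ => (M.nsmul_mem h1 i c).trans_eq ?_
    simp only [N, filter_filter, nsmul_eq_mul, ← Nat.cast_mul, zpow_natCast, mul_comm i]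
  simp only [and_comm (a := detD _ = c)]
  calc a * (N c * t) = s * N c * t ^ 2 := by rw [hs]; ring
    _ ≤ _ := Nat.mul_le_mul_right _ h2

theorem sq_le (hn : 0 < n) : ∑ D ∈ h.X n, tt a D ^ 2 ≤
    kk K Q n + ∑ d ∈ (n.gcd a).divisors, (d ^ 2 - 1) * kk K Q (n / d) := by
  classical
  have t0 : ∀ D : Multiset (K × ℕ), 0 < tt a D := fun D => Nat.gcd_pos_of_pos_right _ h.pos
  rw [sum_congr rfl (g := fun D => 1 + (tt a D ^ 2 - 1)) fun D _ => by have := pow_pos (t0 D) 2; omega, sum_add_distrib,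
    ← card_eq_sum_ones, h.card_X, ← sum_fiberwise_of_maps_to (g := tt a) (t := (n.gcd a).divisors) fun D hD =>
      Nat.mem_divisors.2 ⟨Nat.dvd_gcd ((h.mem_X.1 hD).2 ▸ Multiset.dvd_sum (Multiset.forall_mem_map_iff.2
        fun x hx => tt_dvd hx)) (Nat.gcd_dvd_right _ _), (Nat.gcd_pos_of_pos_left _ hn).ne'⟩]
  refine Nat.add_le_add_left (sum_le_sum fun d _ => ?_) _
  rw [sum_congr rfl (g := fun _ => d ^ 2 - 1) fun D hD => by rw [(mem_filter.1 hD).2], sum_const, smul_eq_mul, mul_comm,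
    ← h.card_X]
  have key : ∀ D ∈ ({D ∈ h.X n | tt a D = d} : Finset _),
      (D.map fun x => (x.1, x.2 / d)).map (fun x => (x.1, d * x.2)) = D := fun D hD => by
    rw [Multiset.map_map]
    refine (Multiset.map_congr (g := id) rfl fun x hx => ?_).trans (Multiset.map_id _)
    exact congrArg (x.1, ·) (Nat.mul_div_cancel' ((mem_filter.1 hD).2 ▸ tt_dvd hx))
  refine Nat.mul_le_mul_left _ (card_le_card_of_injOn (·.map fun x => (x.1, x.2 / d)) (fun D hD => ?_)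
    fun D hD D' hD' e => by rw [← key D hD, ← key D' hD']; exact congrArg _ e)
  obtain ⟨h1, rfl⟩ := mem_filter.1 hD
  obtain ⟨h2, rfl⟩ := h.mem_X.1 h1
  refine h.mem_X.2 ⟨⟨?_, Multiset.forall_mem_map_iff.2 h2.ne, Multiset.forall_mem_map_iff.2 fun x hx =>
    Nat.div_pos (Nat.le_of_dvd (h2.pos x hx) (tt_dvd hx)) (t0 D)⟩, (Nat.div_eq_of_eq_mul_right (t0 D) ?_).symm⟩
  · generalize tt a D = d
    conv_rhs => rw [← h2.inv]
    simp only [Multiset.map_map]; rfl
  · conv_lhs => rw [← key D hD]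
    simp [dimD, Multiset.sum_map_mul_left]

end Ctx

end H27.CN
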