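import Cfsg.Agent.H27.CN3

/-! Class numbers of `GL`, `GU` and their determinant-one subgroups. -/

set_option autoImplicit false

namespace H27.CN

open Module Polynomial Finset Function H22 H27.Sp H12 H12.CForm

variable {F K : Type*} [Field F] [Field K] [Algebra F K] {V : Type*} [AddCommGroup V] [Module F V] {p : ℕ}

theorem mu_expand {a : K} (ha : a ≠ 0) {i : ℕ} (hi : (i : K) ≠ 0) {f : F[X]} (hf : f ≠ 0) :
    mu a (expand F i f) = mu (a ^ i) f := by
  obtain ⟨g, h1, h2⟩ := exists_eq_pow_rootMultiplicity_mul_and_not_dvd _ (Polynomial.map_ne_zero hf :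
    f.map (algebraMap F K) ≠ 0) (a ^ i)
  have hs := separable_X_pow_sub_C (a ^ i) hi (pow_ne_zero _ ha)
  have h3 : aeval a (expand K i g) ≠ 0 := by
    rw [expand_aeval, coe_aeval_eq_eval]; exact mt dvd_iff_isRoot.2 h2
  have := mu_mul a (pow_ne_zero (mu (a ^ i) f) hs.ne_zero) (g := expand K i g) fun e => h3 (by simp [e])
  rw [mu_pow a hs.ne_zero, mu_sep hs (by simp), mu_eq_zero h3, mu, Algebra.algebraMap_self, Polynomial.map_id] at this
  rw [mu, map_expand, h1]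
  simpa [mu] using this

theorem jd_pow {u : End F V} {D : Multiset (K × ℕ)} (h : JD u D) (h0 : ∀ x ∈ D, x.1 ≠ 0) {i : ℕ} (hi : (i : K) ≠ 0) :
    JD (u ^ i) (D.map (pm (· ^ i))) :=
  h.transport rfl _ (fun _ => pow_right_comm ..) fun f hf => ⟨expand F i f, (expand_ne_zero (Nat.pos_of_ne_zero
    fun e => hi (by simp [e]))).2 hf, by rw [H22.kd, ← expand_aeval, H22.kd], fun x hx => mu_expand (h0 x hx) hi hf⟩

theorem gd_iff {Q : ℤ} {f : F[X]} (h : f.coeff 0 ≠ 0) :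
    Gd Q (f.aroots K) ↔ (ssd K f).map (pm (· ^ Q)) = ssd K f := by
  rw [Gd, and_iff_left fun e => ssd_ne h _ (Multiset.mem_map_of_mem (·, 1) e) rfl, ssd, Multiset.map_map,
    show pm (K := K) (· ^ Q) ∘ (·, 1) = (·, 1) ∘ (· ^ Q) from rfl, ← Multiset.map_map,
    (Multiset.map_injective (Prod.mk_left_injective 1)).eq_iff]

variable [Finite F] [IsAlgClosed K] [Algebra.IsAlgebraic F K]

omit [Finite F] [Algebra.IsAlgebraic F K] in
theorem prod_aroots {f : F[X]} (h : f.Monic) {c : F} :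
    (f.aroots K).prod = algebraMap F K c ↔ f.coeff 0 = (-1) ^ f.natDegree * c := by
  have := (IsAlgClosed.splits (f.map (algebraMap F K))).coeff_zero_eq_prod_roots_of_monic (h.map _)
  rw [← (algebraMap F K).injective.eq_iff (a := f.coeff 0), ← coeff_map, this, h.natDegree_map]
  simp [aroots]

theorem card_gd {Q : ℤ} (hQ : ∀ D : Multiset (K × ℕ), D.map (pm (· ^ Q)) = D → D.map (pm (fr F)) = D) (m : ℕ) {c : F}
    (hc : c ≠ 0) (R : (Fin m → F) → Prop) (h : ∀ f : F[X], f.Monic → f.natDegree = m + 1 →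
      f.coeff 0 = (-1) ^ (m + 1) * c → ((ssd K f).map (pm (· ^ Q)) = ssd K f ↔ R fun i => f.coeff (i + 1))) :
    Nat.card {E // Gd Q E ∧ E.card = m + 1 ∧ E.prod = algebraMap F K c} = Nat.card {d // R d} := by
  have h0 : ∀ f : F[X], f.coeff 0 = (-1) ^ (m + 1) * c → f.coeff 0 ≠ 0 := fun f e => by simp [e, hc]
  have := (card_monic (m + 1) fun d => d 0 = (-1) ^ (m + 1) * c ∧ R (Fin.tail d)).trans (card_cons (· = _) R)
  rw [Nat.card_unique (α := {a // a = _}), one_mul] at this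
  refine (Nat.card_congr (Equiv.ofBijective (fun f => ⟨f.1.aroots K, (gd_iff (h0 _ f.2.2.1)).2
    ((h _ f.2.1.1 f.2.1.2 f.2.2.1).2 f.2.2.2), IsAlgClosed.card_aroots_eq_natDegree.trans f.2.1.2,
    (prod_aroots f.2.1.1).2 (f.2.1.2.symm ▸ f.2.2.1)⟩) ⟨fun f g e => Subtype.ext (eq_of_ssd (K := K)
      (congrArg (·.1.map (·, 1)) e) (f.2.1.1.trans g.2.1.1.symm)), fun E => ?_⟩)).symm.trans this
  obtain ⟨u, hu⟩ := exists_of_jd (F := F) (V := Fin (m + 1) → F) (hQ _ (E.2.1.pre one_pos).inv)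
    (E.2.1.pre one_pos).pos (by simp [dimD_lev, E.2.2.1])
  have e : u.charpoly.aroots K = E.1 := Multiset.map_injective (Prod.mk_left_injective 1) (hu.ss (by simp)).symm
  have h1 := P_gl (u := u) (n := m + 1) (by simp)
  have h2 := h1.2 ▸ (prod_aroots h1.1).1 (e ▸ E.2.2.2)
  exact ⟨⟨_, h1, h2, (h _ h1.1 h1.2 h2).1 ((gd_iff (h0 _ h2)).1 (e ▸ E.2.1))⟩, Subtype.ext e⟩

variable [Fact p.Prime] [CharP K p]

theorem ctx_gl [CharP F p] : ∃ ζ : K, Ctx (Nat.card F : ℕ) (Nat.card F - 1) (Nat.card F) ζ := by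
  have h1 := Finite.one_lt_card (α := F)
  have e : ((Nat.card F : ℕ) - 1 : ℤ) = (Nat.card F - 1 : ℕ) := by omega
  obtain ⟨ζ, h⟩ := exists_prim (K := K) (m := Nat.card F - 1) (by
    simpa only [pow_one, e, Int.natAbs_natCast] using (qp_nat (F := F) (p := p)).not_dvd one_pos dvd_rfl)
  have fix : ∀ c : K, c ≠ 0 → (c ^ ((Nat.card F : ℕ) : ℤ) = c ↔ c ^ (Nat.card F - 1) = 1) := fun c hc => by
    rw [fix_iff hc, e, zpow_natCast]
  refine ⟨ζ, h, by omega, by omega, fix, fun m c hc => ?_⟩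
  have c0 : c ≠ 0 := by rintro rfl; rw [zero_pow (by omega)] at hc; exact zero_ne_one hc
  obtain ⟨c, rfl⟩ := exists_alg_of_fr (F := F) ((congrFun fr_eq_zpow c).trans ((fix c c0).2 hc))
  rw [card_gd (fun D h => fr_eq_zpow (F := F) (K := K) ▸ h) m (by simpa using c0) (fun _ => True)
    fun f _ _ _ => iff_true_intro (fr_eq_zpow (F := F) (K := K) ▸ ssd_inv f)]
  simp [Nat.card_fun]

omit [Finite F] in
theorem ctx_gu [Fintype F] [CharP F p] {q : ℕ} (hF : Fintype.card F = q ^ 2) : ∃ ζ : K, Ctx (-q) (q + 1) q ζ := by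
  have h1 := H11.two_le_of_card_sq hF
  have e : (-q - 1 : ℤ) = -(q + 1 : ℕ) := by omega
  obtain ⟨ζ, h⟩ := exists_prim (K := K) (m := q + 1) (by
    simpa only [pow_one, e, Int.natAbs_neg, Int.natAbs_natCast] using (qp_neg (p := p) hF).not_dvd one_pos dvd_rfl)
  have fix : ∀ c : K, c ≠ 0 → (c ^ (-q : ℤ) = c ↔ c ^ (q + 1) = 1) := fun c hc => by
    rw [fix_iff hc, e, zpow_neg, inv_eq_one, zpow_natCast]
  refine ⟨ζ, h, by omega, by omega, fix, fun n c hc => ?_⟩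
  have c0 : c ≠ 0 := by rintro rfl; simp at hc
  obtain ⟨c, rfl⟩ := exists_alg_of_fr (F := F) (a := c) (by
    rw [fr, Nat.card_eq_fintype_card, hF, ← zpow_natCast, Nat.cast_pow, ← neg_sq, fix_pow ((fix c c0).2 hc)])
  obtain ⟨τ, hτ⟩ := exists_frq (K := K) hF
  obtain ⟨ε, hε⟩ : ∃ ε : F, (-1) ^ (n + 1) * c = ε := ⟨_, rfl⟩
  have e2 : ε * H11.frob hF ε = 1 := by
    rw [← hε, map_mul, map_pow, map_neg, map_one, mul_mul_mul_comm, ← mul_pow, H11.frob_apply, ← pow_succ']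
    simpa using (algebraMap F K).injective (by simpa using hc)
  let θ : (Fin n → F) →+ (Fin n → F) := AddMonoidHom.mk' (fun c i => ε * H11.frob hF (c i.rev))
    fun a b => funext fun i => by simp [mul_add, -H11.frob_apply]
  rw [card_gd (fun D => inv_fr_of_herm hF) n (by simpa using c0) (fun d => θ d = d) fun f h1 h2 h3 => ?_]
  · have := card_fix (H11.frob_ne_id hF) (H11.frob_frob hF) θ (fun c x => funext fun i => by
      simp [θ, mul_left_comm, -H11.frob_apply]) fun x => funext fun i => by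
        simp [θ, ← mul_assoc, e2, H11.frob_frob hF, -H11.frob_apply]
    rw [Nat.card_fun, Nat.card_eq_fintype_card (α := F), hF, Nat.card_fin, pow_right_comm] at this
    simpa using Nat.pow_left_injective two_ne_zero this
  rw [hε] at h3
  have := ssd_rev_iff (σ := H11.frob hF) (τ := τ) (fun c => by rw [hτ, H11.frob_apply, map_pow]) h1
    (h3.trans_ne (left_ne_zero_of_mul_eq_one e2))
  simp only [hτ, rev_iff h2, h3] at this
  simp only [zpow_neg, zpow_natCast, this, funext_iff]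
  refine ⟨fun h i => (congrArg (ε * ·) (h (i.rev + 1) (i + 1) (by simp; omega))).trans (by
    rw [← mul_assoc, e2, one_mul]), fun h i j e => ?_⟩
  have := h2 ▸ h1.coeff_natDegree
  rcases eq_or_ne i 0 with rfl | hi
  · rw [h3, show j = n + 1 by omega, this, mul_one]
  rcases eq_or_ne j 0 with rfl | hj
  · rw [h3, show i = n + 1 by omega, this, mul_comm, e2, map_one]
  have : ε * H11.frob hF (f.coeff (n - (j - 1 + 1) + 1)) = f.coeff (j - 1 + 1) := h ⟨j - 1, by omega⟩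
  rw [show n - (j - 1 + 1) + 1 = i by omega, show j - 1 + 1 = j by omega] at this
  rw [← this, ← mul_assoc, mul_comm _ ε, e2, one_mul]

variable (K) in
/-- a family of groups like `GL` or `GU` -/
structure Fam (Q : ℤ) {G : ℕ → Type*} [∀ n, Group (G n)] (ρ : ∀ n, G n →* End F (Fin n → F)) : Prop where
  pre : ∀ n g (D : Multiset (K × ℕ)), JD (ρ n g) D → Pre Q D
  ex : ∀ n (D : Multiset (K × ℕ)), Pre Q D → dimD D = n → ∃ g, JD (ρ n g) D
  conj : ∀ n g h, Sim (ρ n g) (ρ n h) → IsConj g h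
  blk : ∀ a b n g y w x, Commute y g → Sim ((ρ a g).prodMap (ρ b w) : End F (_ × _)) (ρ n x) →
    ∃ c, Commute c x ∧ LinearMap.det (ρ n c) = LinearMap.det (ρ a y)

omit [Fact p.Prime] [CharP K p] [IsAlgClosed K] in
theorem fam_gl : Fam K (Nat.card F : ℕ) fun n => (glE : GL (Fin n) F →* _) := by
  refine ⟨fun n g D h => h.pre ((Group.isUnit g).map _), fun n D h hd => ?_, fun n g h => gl_isConj_iff.2,
    fun a b n g y w x h ⟨e, he⟩ => ?_⟩
  · obtain ⟨u, hu⟩ := exists_of_jd (F := F) (V := Fin n → F) (fr_eq_zpow (F := F) (K := K) ▸ h.inv) h.pos (by simp [hd])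
    obtain ⟨g, rfl⟩ := exists_glE (hu.isUnit h.ne)
    exact ⟨g, hu⟩
  obtain ⟨c, c1, c2⟩ := exists_gl_comm (x := x) (c := Matrix.GeneralLinearGroup.det y)
    ⟨e.conj ((glE y).prodMap 1), LinearMap.ext fun v => by
      obtain ⟨v, rfl⟩ := e.surjective v
      simpa [← he] using LinearMap.congr_fun (h.map glE).eq v.1, 
      by
      rw [LinearEquiv.conj_apply, LinearMap.comp_assoc, LinearMap.det_conj]; simp [LinearMap.det_prodMap, det_glE]⟩
  exact ⟨c, c1, by rw [det_glE, det_glE]; exact congrArg Units.val c2⟩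

omit [Fact p.Prime] [CharP K p] [IsAlgClosed K] [Finite F] in
theorem fam_gu [Fintype F] {q : ℕ} (hF : Fintype.card F = q ^ 2) : Fam K (-q) fun n => (guRep hF n).ρ := by
  refine ⟨fun n g D h => ⟨h.herm_inv hF (toSQ (guRep hF n).nd) fun x y => ((guRep hF n).isom _).1 x y,
    h.ne_zero ((Group.isUnit g).map _), h.pos⟩, fun n D h => exists_gu_jd hF h.inv h.ne h.pos,
    fun n g h => (gu_isConj hF).2, fun a b n g y w x h e => ?_⟩
  obtain ⟨c, c1, c2⟩ := fsim_comm (herm_fsim (H11.frob_ne_id hF) (osum_nondeg (guRep hF a).nd (guRep hF b).nd)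
    (guRep hF n).nd (osum_isom ((guRep hF _).isom g) ((guRep hF _).isom w)) ((guRep hF n).isom _) e) (guRep hF n)
    (osum_isom ((guRep hF _).isom y) ((guRep hF _).isom 1)) (by
      rw [LinearMap.prodMap_mul, LinearMap.prodMap_mul, (h.map _).eq, map_one, one_mul, mul_one])
  exact ⟨c, (guRep hF n).inj (by simpa using c1), by simpa [LinearMap.det_prodMap] using c2⟩

omit [Finite F] in
theorem sim_of_conj {G : Type*} [Group G] (ρ : G →* End F V) {g h : G} (e : IsConj g h) : Sim (ρ g) (ρ h) := by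
  obtain ⟨k, rfl⟩ := isConj_iff.1 e
  exact ⟨LinearEquiv.ofLinear (ρ k) (ρ k⁻¹) (by rw [← End.mul_eq_comp, ← map_mul]; simp [End.one_eq_id])
    (by rw [← End.mul_eq_comp, ← map_mul]; simp [End.one_eq_id]), fun x => by simp [← End.mul_apply, ← map_mul]⟩

namespace Fam
variable {Q : ℤ} {G : ℕ → Type*} [∀ n, Group (G n)] {ρ : ∀ n, G n →* End F (Fin n → F)} (h : Fam K Q ρ)
  {a q n : ℕ} {ζ : K}
include h

omit [Fact p.Prime] [CharP K p] in
theorem card (n : ℕ) : Nat.card (ConjClasses (G n)) = kk K Q n := by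
  rw [kk, ← card_classes (Φ := fun _ => True) (fun g D => JD (ρ n g) D.1) (fun g _ => by
    obtain ⟨D, hD⟩ := exists_jd (K := K) (ρ n g)
    exact ⟨⟨D, h.pre n g D hD, by simpa using hD.dim.symm⟩, hD⟩) (fun D => by simpa using h.ex n D.1 D.2.1 D.2.2)
    fun g g' t t' _ _ a b => ⟨fun e => Subtype.ext ((a.of_sim (sim_of_conj _ e)).unique b),
      fun e => h.conj n _ _ (a.sim (e ▸ b))⟩]
  exact Nat.card_congr (Equiv.subtypeUnivEquiv fun c => by simpa using c.exists_rep).symm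

theorem comm (hQ : QP p Q) (hc : Ctx Q a q ζ) {g : G n} {D : Multiset (K × ℕ)} (hg : JD (ρ n g) D) {x : K × ℕ}
    (hx : x ∈ D) : ∃ c, Commute c g ∧ algebraMap F K (LinearMap.det (ρ n c)) = ζ ^ x.2 := by
  have hD := h.pre n g D hg
  obtain ⟨d, D', d0, d1, rfl, d2, -⟩ := hQ.peel hD.inv hx
  obtain ⟨η, z0, z1, z2⟩ := exists_primz (K := K) (hQ.not_dvd d0 dvd_rfl)
  have hy := pre_orb z0 ((fix_iff z0).2 ((z1 _).2 dvd_rfl)) (hD.pos x hx)
  obtain ⟨y, h1⟩ := h.ex _ _ hy rfl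
  obtain ⟨w, h2⟩ := h.ex _ _ (hD.right d2) rfl
  obtain ⟨i, hi⟩ := z2 x.1 ((fix_iff (hD.ne x hx)).1 d1)
  obtain ⟨o, o1, o2⟩ : ∃ o : ℕ, (o : K) ≠ 0 ∧ η ^ o = x.1 := by
    by_cases e : (i : K) = 0
    · exact ⟨i + (Q ^ d - 1).natAbs, by
        rw [Nat.cast_add, e, zero_add, Ne, CharP.cast_eq_zero_iff K p]; exact hQ.not_dvd d0 dvd_rfl, by
        rw [pow_add, ← zpow_natCast η (Int.natAbs _), (z1 _).2 (by simp), mul_one, hi]⟩
    · exact ⟨i, e, hi⟩
  have k2 := (fix_iff (hc.prim.ne_zero hc.pos.ne')).1 ((hc.fix _ (hc.prim.ne_zero hc.pos.ne')).2 hc.prim.pow_eq_one)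
  obtain ⟨l, hl⟩ := z2 _ (zpow_of_dvd k2 (gs_mul Q d ▸ dvd_mul_left _ _))
  obtain ⟨m, hm⟩ : gs Q d ∣ l := Int.dvd_of_mul_dvd_mul_right (show Q - 1 ≠ 0 by have := hQ.two_le; omega) (by
    rw [gs_mul, ← z1, zpow_mul, zpow_natCast, hl, k2])
  have j1 := jd_pow h1 hy.ne o1
  rw [orb_map (φ := pm (· ^ Q)) (ψ := pm (· ^ Q)) (pm (· ^ o)) (fun x => Prod.ext (zpow_comm' _ _ _) rfl), pm_mk, o2,
    ← map_pow] at j1
  obtain ⟨c, c1, c2⟩ := h.blk _ _ n _ (y ^ m) w g (((Commute.refl y).zpow_left m).pow_right o) ((j1.prod h2).sim hg)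
  refine ⟨c, c1, ?_⟩
  have := map_zpow (((algebraMap F K).toMonoidHom.comp (LinearMap.det.comp (ρ _))).toHomUnits) y m
  have := (congrArg Units.val this).trans (Units.val_zpow_eq_zpow_val ..)
  rw [c2]
  refine this.trans ((congrArg (· ^ m) h1.det).trans ?_)
  rw [detD_orb z0, ← zpow_comm', ← zpow_mul, ← hm, zpow_natCast, hl]

theorem card_le (hQ : QP p Q) (hc : Ctx Q a q ζ) {N : Type*} [Group N] {ι : N →* G n} (hi : Injective ι)
    (hr : ∀ g, g ∈ ι.range ↔ LinearMap.det (ρ n g) = 1) {I : Type*} (S : Finset I) (Ψ : I → Multiset (K × ℕ))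
    (P : ConjClasses N → Prop) (hP : ∀ g, P (.mk g) → ∃ i ∈ S, JD (ρ n (ι g)) (Ψ i)) :
    Nat.card {c // P c} ≤ ∑ i ∈ S, tt a (Ψ i) := by
  classical
  let δ := ((algebraMap F K).toMonoidHom.comp (LinearMap.det.comp (ρ n))).toHomUnits
  have z0 := hc.prim.ne_zero hc.pos.ne'
  have hδ : ∀ g, g ∈ ι.range ↔ δ g = 1 := fun g => (hr g).trans (by simp [δ, Units.ext_iff])
  have h1 : ∀ g, ∃ i : ℕ, ζ ^ i = δ g := fun g => by
    obtain ⟨D, hD⟩ := exists_jd (K := K) (ρ n g)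
    have := NeZero.of_pos hc.pos
    have h1 := h.pre n g D hD
    obtain ⟨i, -, e⟩ := hc.prim.eq_pow_of_pow_eq_one (ξ := detD D) ((hc.fix _ (Multiset.prod_ne_zero (by
      simpa using fun k hx => (h1.ne _ hx rfl).elim))).1 (by
        conv_rhs => rw [← h1.inv]
        simp [detD, ← Multiset.prod_map_zpow, zpow_comm', Function.comp_def]))
    exact ⟨i, e.trans hD.det.symm⟩
  choose! r hr' using fun i (e : ∃ g, JD (ρ n (ι g)) (Ψ i)) => e
  choose! s hs using fun (j : ℕ) (e : ∃ g, (δ g : K) = ζ ^ j) => e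
  choose t ht using fun i j => (hδ (s j * ι (r i) * (s j)⁻¹)).2 (by simp [(hδ _).1 ⟨_, rfl⟩])
  have key : ∀ c : {c // P c}, ∃ x : Σ i : S, Fin (tt a (Ψ i)), c.1 = .mk (t x.1 x.2) := fun c => by
    obtain ⟨g, hg⟩ := c.1.exists_rep
    obtain ⟨i, i1, i2⟩ := hP g (hg ▸ c.2)
    have i3 := hr' i ⟨g, i2⟩
    obtain ⟨k, hk⟩ := isConj_iff.1 (h.conj n _ _ (i3.sim i2))
    obtain ⟨j, hj⟩ := h1 k
    let M := ((Subgroup.centralizer {ι (r i)}).map δ).toAddSubgroup.comap (zmultiplesHom _ (.ofMul (Units.mk0 ζ z0)))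
    obtain ⟨c', c1, c2⟩ : (tt a (Ψ i) : ℤ) ∈ M := gcd_mem M (fun k hk => by
      obtain ⟨x, hx, rfl⟩ := Multiset.mem_map.1 (Multiset.mem_toFinset.1 hk)
      obtain ⟨c, c1, c2⟩ := h.comm hQ hc i3 hx
      exact ⟨c, Subgroup.mem_centralizer_singleton_iff.2 c1, Units.ext (by simpa [δ] using c2)⟩)
      ⟨1, one_mem _, Units.ext (by simp [hc.prim.pow_eq_one])⟩
    have c3 : (δ (k * (c' ^ (j / tt a (Ψ i)))⁻¹) : K) = ζ ^ (j % tt a (Ψ i)) := by
      rw [map_mul, map_inv, map_pow, c2, Units.val_mul, ← hj]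
      simp [mul_inv_eq_iff_eq_mul₀, ← pow_add, ← pow_mul, z0, Nat.mod_add_div]
    obtain ⟨u, hu⟩ := (hδ (k * (c' ^ (j / tt a (Ψ i)))⁻¹ * (s (j % tt a (Ψ i)))⁻¹)).2 (by
      rw [map_mul, map_inv, mul_inv_eq_one]; exact Units.ext (c3.trans (hs _ ⟨_, c3⟩).symm))
    refine ⟨⟨⟨i, i1⟩, j % _, Nat.mod_lt _ (Nat.gcd_pos_of_pos_right _ hc.pos)⟩, hg.symm.trans
      (ConjClasses.mk_eq_mk_iff_isConj.2 (IsConj.symm (isConj_iff.2 ⟨u, hi ?_⟩)))⟩
    have := (Commute.pow_left (Subgroup.mem_centralizer_singleton_iff.1 c1) (j / tt a (Ψ i))).inv_left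
    simp only [map_mul, map_inv, hu, ht, ← hk, mul_inv_rev, inv_inv, mul_assoc, inv_mul_cancel_left]
    rw [this.left_comm, inv_mul_cancel_left]
  choose f hf using key
  refine (Nat.card_le_card_of_injective f fun c c' e => Subtype.ext (by rw [hf, e, ← hf])).trans_eq ?_
  simp [sum_attach S fun i => tt a (Ψ i)]

end Fam

end H27.CN
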