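import Cfsg.Agent.H27.CN4
import Cfsg.Agent.H11.SL

/-! Class number bounds for linear and unitary groups. -/

set_option autoImplicit false

namespace H27.CN

open Module Polynomial Finset Function H22 H27.Sp

open Classical in
theorem burnside (G : Type*) [Group G] [Fintype G] :
    Nat.card (Subgroup.center G) * Nat.card (ConjClasses (G ⧸ Subgroup.center G)) =
      ∑ z : Subgroup.center G, Nat.card {c : ConjClasses G // ∃ g, .mk g = c ∧ IsConj (z * g) g} := by
  letI : MulAction (Subgroup.center G) (ConjClasses G) :=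
    { smul z := Quotient.map' (z.1 * ·) fun a b h => by
        obtain ⟨k, rfl⟩ := isConj_iff.1 h
        exact isConj_iff.2 ⟨k, by rw [← mul_assoc k, Subgroup.mem_center_iff.1 z.2 k]; group⟩
      one_smul := by rintro ⟨g⟩; exact congrArg ConjClasses.mk (one_mul g)
      mul_smul := by rintro a b ⟨g⟩; exact congrArg ConjClasses.mk (mul_assoc ..) }
  have := MulAction.sum_card_fixedBy_eq_card_orbits_mul_card_group (Subgroup.center G) (ConjClasses G)
  simp only [← Nat.card_eq_fintype_card] at this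
  rw [mul_comm, ← Nat.card_congr ((Quotient.congrRight fun a b => ?_).trans (Setoid.quotientKerEquivOfSurjective _
    (ConjClasses.map_surjective (QuotientGroup.mk'_surjective (Subgroup.center G))))), ← this]
  · refine sum_congr rfl fun z _ => Nat.card_congr (Equiv.subtypeEquivRight fun c => ⟨fun h => ?_, ?_⟩)
    · obtain ⟨g, rfl⟩ := c.exists_rep
      exact ⟨g, rfl, ConjClasses.mk_eq_mk_iff_isConj.1 h⟩
    · rintro ⟨g, rfl, h⟩; exact ConjClasses.mk_eq_mk_iff_isConj.2 h
  obtain ⟨a, rfl⟩ := a.exists_rep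
  obtain ⟨b, rfl⟩ := b.exists_rep
  refine ⟨fun ⟨z, h⟩ => ?_, fun h => ?_⟩
  · rw [← show ConjClasses.mk (z * b) = _ from h]
    exact congrArg ConjClasses.mk (by simp [(QuotientGroup.eq_one_iff _).2 z.2])
  obtain ⟨k, hk⟩ := isConj_iff.1 (ConjClasses.mk_eq_mk_iff_isConj.1 h)
  obtain ⟨k, rfl⟩ := QuotientGroup.mk'_surjective _ k
  exact ⟨⟨k * a * k⁻¹ / b, QuotientGroup.eq_iff_div_mem.1 hk⟩,
    ConjClasses.mk_eq_mk_iff_isConj.2 (isConj_iff.2 ⟨k⁻¹, by simp [mul_assoc]⟩)⟩

theorem burnside' (G : Type*) [Group G] [Finite G] : ∃ S,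
    Nat.card (Subgroup.center G) * Nat.card (ConjClasses (G ⧸ Subgroup.center G)) = Nat.card (ConjClasses G) + S ∧
      ∀ B, (∀ z : Subgroup.center G, z ≠ 1 → 2 * Nat.card {c : ConjClasses G // ∃ g, .mk g = c ∧ IsConj (z * g) g} ≤ B) →
        2 * S ≤ (Nat.card (Subgroup.center G) - 1) * B := by
  classical
  have := Fintype.ofFinite G
  refine ⟨_, by rw [burnside, ← add_sum_erase _ _ (mem_univ 1), Nat.card_congr (Equiv.subtypeUnivEquiv fun c => by
    simpa [-isConj_iff, IsConj.refl] using c.exists_rep)], fun B h => ?_⟩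
  rw [mul_sum, Nat.card_eq_fintype_card, ← card_univ, ← card_erase_of_mem (mem_univ 1)]
  exact sum_le_card_nsmul _ _ B fun z hz => h z (mem_erase.1 hz).1

variable {F K : Type*} [Field F] [Field K] [Algebra F K] {p : ℕ} {Q : ℤ} {a q n : ℕ} {ζ : K}

theorem detD_orb_mul (c : K) (e : ℕ) (x : K × ℕ) :
    detD (orb (pm (c * ·)) e x) = (c ^ (∑ i ∈ range e, i) * x.1 ^ e) ^ x.2 := by
  induction e with
  | zero => simp
  | succ e ih => rw [orb_succ, detD_cons, ih, pm_iter, mul_left_iterate, sum_range_succ]; ring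

namespace Ctx
variable (h : Ctx Q a q ζ)

open Classical in
/-- the class number bound -/
noncomputable def bb (n : ℕ) (c : K) : ℕ := ∑ D ∈ h.X n with detD D = c, tt a D

include h
variable {c : K} (hc : c ≠ 0)

theorem kk_one : kk K Q 1 = a := by
  have := fun n => (coeff_rec q 1 n _).symm.trans (congrArg _ (h.lvE_rec one_pos))
  have h0 := this 0
  have h1 := this 1
  simp [PowerSeries.coeff_one, -map_sub] at h0 h1
  have h2 := (h.kk_eq (n := 1) le_rfl).2
  rw [pc, Icc_self, prod_singleton] at h2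
  exact_mod_cast (show (kk K Q 1 : ℝ) = a by rw [h0] at h1; linarith)

include hc

theorem bb_le (hn : 0 < n) (w : ℕ → ℕ) (C : ℕ)
    (hw : ∀ d m, 2 ≤ d → d ∣ a → n = d * m → (d ^ 2 - 1) * kk K Q m ≤ w d * C) :
    a * h.bb n c ≤ kk K Q n + (∑ d ∈ Icc 2 a, w d) * C := by
  refine (h.fiber c hc).trans ((h.sq_le hn).trans (Nat.add_le_add_left ?_ _))
  rw [sum_mul, ← sum_filter_add_sum_filter_not _ (2 ≤ ·), sum_eq_zero (s := filter (¬ 2 ≤ ·) _) fun d hd => by
    have := Nat.pos_of_mem_divisors (mem_filter.1 hd).1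
    rw [show d = 1 by have := (mem_filter.1 hd).2; omega]; simp, add_zero]
  have key : ∀ d ∈ {d ∈ (n.gcd a).divisors | 2 ≤ d}, d ∣ n ∧ d ∣ a := fun d hd =>
    Nat.dvd_gcd_iff.1 (Nat.dvd_of_mem_divisors (mem_filter.1 hd).1)
  exact (sum_le_sum fun d hd => hw d _ (mem_filter.1 hd).2 (key d hd).2 (Nat.mul_div_cancel' (key d hd).1).symm).trans
    (sum_le_sum_of_subset fun d hd => mem_Icc.2 ⟨(mem_filter.1 hd).2, Nat.le_of_dvd h.pos (key d hd).2⟩)

theorem bb_prime (hn : n.Prime) : a * h.bb n c ≤ kk K Q n + if n ∣ a then (n ^ 2 - 1) * a else 0 := by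
  refine (h.fiber c hc).trans ((h.sq_le hn.pos).trans (Nat.add_le_add_left ?_ _))
  split_ifs with e
  · rw [Nat.gcd_eq_left e, hn.sum_divisors, Nat.div_self hn.pos, h.kk_one]; simp
  · simp [(hn.coprime_iff_not_dvd.2 e).gcd_eq_one]

theorem bb_one : h.bb 1 c ≤ 1 := Nat.le_of_mul_le_mul_left (by
  simpa [h.kk_one] using h.bb_le hc one_pos 0 0 fun d m h1 _ e => by nlinarith [Nat.eq_one_of_mul_eq_one_right e.symm]) h.pos

end Ctx

section gl
variable (h : Ctx Q a (a + 1) ζ) {c : K} (hc : c ≠ 0)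
include h

theorem gl_kk : (∀ m, kk K Q m ≤ (a + 1) ^ m) ∧ kk K Q 2 = a * (a + 2) ∧ kk K Q 3 = a * ((a + 1) * (a + 2)) := by
  have hE : ∀ k, 0 < k → (1 - .C ((a + 1 : ℕ) : ℝ) * .X ^ k) * lvE K Q k = 1 - .X ^ k := fun k hk => by
    simpa [sub_eq_add_neg] using h.lvE_rec hk
  have := pc_low hE
  refine ⟨fun m => ?_, ?_, ?_⟩
  · exact_mod_cast (h.kk_eq le_rfl).2.trans_le (pc_le (by exact_mod_cast Nat.succ_le_succ h.pos) (fun _ => nn_gf _) hE m)
  · exact_mod_cast ((h.kk_eq le_rfl).2.trans this.2.1).trans (show _ = (a * (a + 2) : ℝ) by push_cast; ring)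
  · exact_mod_cast ((h.kk_eq le_rfl).2.trans this.2.2).trans (show _ = (a * ((a + 1) * (a + 2)) : ℝ) by push_cast; ring)

include hc

theorem gl_two : h.bb 2 c ≤ a + 5 ∧ 2 * h.bb 2 c ≤ 5 * (a + 1) := by
  have := h.bb_prime hc Nat.prime_two
  rw [(gl_kk h).2.1] at this
  split_ifs at this with e
  · have := Nat.le_of_mul_le_mul_left (show a * h.bb 2 c ≤ a * (a + 5) by norm_num at this; linarith) h.pos
    have := Nat.le_of_dvd h.pos e
    omega
  · have := Nat.le_of_mul_le_mul_left this h.pos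
    omega

theorem gl_three (n : ℕ) : h.bb (n + 3) c ≤ (a + 1) ^ (n + 2) + 3 * (a + 1) ^ (n + 1) := by
  refine Nat.le_of_mul_le_mul_left ?_ h.pos
  rcases n with _ | n
  · have := h.bb_prime hc Nat.prime_three
    rw [(gl_kk h).2.2] at this
    split_ifs at this with e <;> norm_num at this ⊢
    · nlinarith [Nat.mul_le_mul_left a (Nat.le_of_dvd h.pos e)]
    · nlinarith
  have := h.bb_le hc (n := n + 1 + 3) (by omega) (fun d => if d = 2 ∨ d = 4 then 3 else if d = 3 then 1 else 2)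
    ((a + 1) ^ (n + 2)) fun d m h1 h2 e => by
      have h3 := Nat.le_of_dvd h.pos h2
      have h4 : ∀ j w, m + j ≤ n + 2 → d ^ 2 - 1 ≤ w * (a + 1) ^ j → (d ^ 2 - 1) * kk K Q m ≤ w * (a + 1) ^ (n + 2) :=
        fun j w h5 h6 => (Nat.mul_le_mul h6 ((gl_kk h).1 m)).trans (by
          rw [mul_assoc, ← pow_add]; exact Nat.mul_le_mul_left _ (Nat.pow_le_pow_right (by omega) (by omega)))
      split_ifs with h5 h6
      · rcases h5 with rfl | rfl
        exacts [h4 0 3 (by omega) (by simp), h4 1 3 (by omega) (by simp; omega)]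
      · subst h6; exact h4 2 1 (by omega) (by norm_num; nlinarith)
      · obtain ⟨d, rfl⟩ : ∃ e, d = e + 5 := ⟨d - 5, by omega⟩
        exact h4 2 2 (by rcases m with _ | m; omega; nlinarith) (Nat.sub_le_of_le_add (by nlinarith))
  have h2 : ∀ a, 0 < a → ∑ d ∈ Icc 2 a, (if d = 2 ∨ d = 4 then 3 else if d = 3 then 1 else 2) + 1 ≤ 2 * a := fun a ha => by
    rcases Nat.lt_or_ge a 4 with h | h
    · interval_cases a <;> decide
    induction a, h using Nat.le_induction with
    | base => decide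
    | succ a h ih => rw [sum_Icc_succ_top (by omega), if_neg (by omega), if_neg (by omega)]; omega
  have h3 := Nat.mul_le_mul_right ((a + 1) ^ (n + 2)) (h2 a h.pos)
  have h4 := (gl_kk h).1 (n + 1 + 3)
  rw [show n + 1 + 3 = n + 2 + 2 by omega, pow_add _ _ 2] at h4
  rw [show n + 1 + 2 = n + 2 + 1 by omega, pow_succ _ (n + 2)]
  nlinarith

theorem gl_all (n : ℕ) : 2 * h.bb (n + 1) c ≤ 5 * (a + 1) ^ n := by
  rcases n with _ | _ | n
  · have := h.bb_one hc; simp; omega
  · simpa using (gl_two h hc).2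
  · have := gl_three h hc n
    rw [pow_succ _ (n + 1)] at this ⊢
    nlinarith [Nat.mul_le_mul_left ((a + 1) ^ (n + 1)) h.pos]

omit hc in
theorem gl_psl (n S : ℕ) (h3 : ∀ B, (∀ m c, c ≠ 0 → 2 * (m + 1) ≤ n + 2 → 2 * h.bb (m + 1) c ≤ B) →
    2 * S ≤ ((n + 2).gcd a - 1) * B) : h.bb (n + 2) 1 + S ≤ (a + 1) ^ (n + 1) + 5 * (a + 1) ^ n := by
  have g1 := Nat.gcd_le_left a (show 0 < n + 2 by omega)
  have g2 := Nat.gcd_le_right (n + 2) h.pos
  rcases n with _ | n
  · have := h3 2 fun m c c1 c2 => by obtain rfl : m = 0 := by omega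
                                     exact Nat.mul_le_mul_left 2 (h.bb_one c1)
    have := (gl_two h one_ne_zero).1
    simp at *; omega
  have := gl_three h one_ne_zero n
  have h4 := h3 (5 * (a + 1) ^ ((n + 3) / 2 - 1)) fun m c c1 c2 => (gl_all h c1 m).trans
    (Nat.mul_le_mul_left _ (Nat.pow_le_pow_right (by omega) (by omega)))
  have : ((n + 1 + 2).gcd a - 1) * (5 * (a + 1) ^ ((n + 3) / 2 - 1)) ≤ 4 * (a + 1) ^ (n + 1) := by
    generalize (n + 1 + 2).gcd a = d at *
    rcases n with _ | _ | n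
    · simp; omega
    · simp only [Nat.reduceAdd, Nat.reduceDiv, Nat.reduceSub, pow_one, sq, ← mul_assoc] at *
      exact Nat.mul_le_mul_right _ (by omega)
    · refine (Nat.mul_le_mul (show d - 1 ≤ a + 1 by omega) (Nat.mul_le_mul_left 5 (Nat.pow_le_pow_right (by omega)
        (show _ ≤ n + 1 by omega)))).trans ?_
      rw [pow_succ _ (n + 1 + 1), pow_succ _ (n + 1)]
      have := Nat.mul_le_mul_left ((a + 1) ^ (n + 1) * (a + 1)) (show 5 ≤ 4 * (a + 1) by have := h.pos; omega)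
      linarith
  simp only [add_assoc, Nat.reduceAdd] at *
  omega

end gl

theorem gu_all (h : Ctx Q (q + 1) q ζ) (hq : 2 ≤ q) (n : ℕ) : 100 * h.bb (n + 2) (1 : K) ≤ 826 * q ^ (n + 1) := by
  have hk := fun m => (h.kk_eq (n := m) (N := m + 7) (by omega)).2.trans_le (gu_le (q := q) (E := lvE K Q)
    (by exact_mod_cast hq) (fun _ => nn_gf _) (fun k hk => by simpa using h.lvE_rec hk) (by omega) m)
  refine Nat.le_of_mul_le_mul_left ?_ h.pos
  rcases hq.eq_or_lt with rfl | hq
  · have hk : ∀ m, 100 * kk K Q m ≤ 826 * 2 ^ m := fun m => by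
      have := hk m
      rw [if_neg (by norm_num)] at this
      exact_mod_cast (show (100 * kk K Q m : ℝ) ≤ 826 * (2 : ℕ) ^ m by norm_num at this ⊢; linarith)
    rcases eq_or_ne n 1 with rfl | hn
    · have := h.bb_prime one_ne_zero Nat.prime_three
      have := hk 3
      simp at *; omega
    have := h.bb_le one_ne_zero (n := n + 2) (by omega) (fun d => d - 2) (826 * 2 ^ (n + 1) / 100) fun d m h1 h2 e => by
      obtain rfl : d = 3 := ((Nat.dvd_prime Nat.prime_three).1 h2).resolve_left (by omega)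
      have := hk m
      have := Nat.pow_le_pow_right two_pos (show m + 3 ≤ n + 1 by omega)
      rw [pow_add] at this
      omega
    have := hk (n + 2)
    simp [sum_Icc_succ_top, pow_add] at *
    omega
  have hk : ∀ m, kk K Q m ≤ 3 * q ^ m := fun m => by
    have := hk m
    rw [if_pos (by exact_mod_cast hq)] at this
    exact_mod_cast this
  have := h.bb_le one_ne_zero (n := n + 2) (by omega) (fun d => if d ≤ 3 then 3 else if d = 4 then 2 else 1)
    (3 * q ^ (n + 1)) fun d m h1 h2 e => by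
      have h3 := Nat.le_of_dvd h.pos h2
      have h4 : ∀ j w, m + j ≤ n + 1 → d ^ 2 - 1 ≤ w * q ^ j → (d ^ 2 - 1) * kk K Q m ≤ w * (3 * q ^ (n + 1)) :=
        fun j w h5 h6 => (Nat.mul_le_mul h6 (hk m)).trans (by
          rw [mul_assoc, mul_left_comm _ 3, ← pow_add]
          exact Nat.mul_le_mul_left _ (Nat.mul_le_mul_left _ (Nat.pow_le_pow_right (by omega) (by omega))))
      split_ifs with h5 h6
      · interval_cases d
        exacts [h4 0 3 (by omega) (by simp), h4 1 3 (by omega) (by simp; omega)]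
      · subst h6; exact h4 2 2 (by omega) (by norm_num; nlinarith)
      · obtain ⟨d, rfl⟩ : ∃ e, d = e + 5 := ⟨d - 5, by omega⟩
        exact h4 3 1 (by rcases m with _ | m; omega; nlinarith) (Nat.sub_le_of_le_add (by
          nlinarith [Nat.pow_le_pow_left (show d + 4 ≤ q by omega) 3]))
  have h2 : ∀ q, 3 ≤ q → ∑ d ∈ Icc 2 (q + 1), (if d ≤ 3 then 3 else if d = 4 then 2 else 1) = q + 5 := fun a h => by
    induction a, h using Nat.le_induction with
    | base => decide
    | succ a h ih => rw [sum_Icc_succ_top (by omega), if_neg (by omega), if_neg (by omega)]; omega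
  have h4 := hk (n + 2)
  rw [h2 q hq] at this
  rw [pow_succ _ (n + 1)] at h4
  nlinarith [Nat.mul_le_mul_left (q ^ (n + 1)) hq]

variable [Finite F] [IsAlgClosed K] [Algebra.IsAlgebraic F K] [Fact p.Prime] [CharP K p]
  {G : ℕ → Type*} [∀ n, Group (G n)] {ρ : ∀ n, G n →* End F (Fin n → F)} (h : Fam K Q ρ)
  (hQ : QP p Q) (hc : Ctx Q a q ζ) {N : Type*} [Group N] {ι : N →* G n} (hi : Injective ι)
  (hr : ∀ g, g ∈ ι.range ↔ LinearMap.det (ρ n g) = 1)
include h hQ hc hi hr

theorem Fam.card_bb : Nat.card (ConjClasses N) ≤ hc.bb n 1 := by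
  classical
  refine (Nat.card_congr (Equiv.subtypeUnivEquiv fun _ => trivial)).symm.trans_le
    (h.card_le hQ hc hi hr _ id (fun _ => True) fun g _ => ?_)
  obtain ⟨D, hD⟩ := exists_jd (K := K) (ρ n (ι g))
  exact ⟨D, mem_filter.2 ⟨hc.mem_X.2 ⟨h.pre n _ D hD, by simpa using hD.dim.symm⟩,
    by rw [← hD.det, (hr _).1 ⟨g, rfl⟩, map_one]⟩, hD⟩

theorem Fam.card_fix {z : N} {c : F} (hz : ρ n (ι z) = algebraMap F _ c) {e : ℕ} (he : 0 < e)
    (h1 : IsPrimitiveRoot (algebraMap F K c) e) : ∃ c' : K, c' ≠ 0 ∧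
      Nat.card {c : ConjClasses N // ∃ g, .mk g = c ∧ IsConj (z * g) g} ≤ hc.bb (n / e) c' := by
  classical
  have c0 := h1.ne_zero he.ne'
  refine ⟨((algebraMap F K c ^ ∑ i ∈ range e, i) ^ (n / e))⁻¹, by simp [c0], (h.card_le hQ hc hi hr _
    (·.bind fun y => (nthRoots e y.1).map (·, y.2)) _ ?_).trans (sum_le_sum fun D _ => le_of_eq ?_)⟩; swap
  · refine congrArg (fun s => Nat.gcd (Finset.gcd s id) a) (Finset.ext fun k => ?_)
    simpa [mem_nthRoots he] using ⟨fun ⟨x, h⟩ => ⟨_, h⟩, fun ⟨x, h⟩ =>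
      (IsAlgClosed.exists_pow_nat_eq x he).imp fun y (e : y ^ e = x) => e ▸ h⟩
  rintro g ⟨g', e1, e2⟩
  obtain ⟨D, hD⟩ := exists_jd (K := K) (ρ n (ι g'))
  have hD' := h.pre n _ D hD
  have e3 : D.map (pm (algebraMap F K c * ·)) = D := (hD.smul (by simpa using c0)).unique (by
    simpa [hz, Algebra.smul_def] using hD.of_sim (sim_of_conj ((ρ n).comp ι) e2.symm))
  obtain ⟨t, t1, t2⟩ := exists_orbs (pm_inj (mul_right_injective₀ c0)) D e3
  rw [Multiset.bind_congr (g := orb (pm (algebraMap F K c * ·)) e) fun x hx => congrArg (orb _ · x) (by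
    rw [minPer_pm]
    refine Nat.dvd_antisymm ?_ ?_ <;> simp [isPeriodicPt_iff_minimalPeriod_dvd.symm, ← h1.pow_eq_one_iff_dvd, h1.pow_eq_one,
      IsPeriodicPt, IsFixedPt]
    simpa [hD'.ne x (t1 x hx), -iterate_minimalPeriod] using
      iterate_minimalPeriod (f := (algebraMap F K c * ·)) (x := x.1))] at t2
  have t3 : D.map (pm (· ^ e)) = e • t.map (pm (· ^ e)) := by
    rw [t2, Multiset.map_bind, Multiset.bind_congr (g := fun x => e • {pm (· ^ e) x}) fun x _ => by
      rw [orb_map (φ := pm (algebraMap F K c * ·)) (ψ := id) (pm (· ^ e)) fun x =>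
        Prod.ext (by simp [mul_pow, h1.pow_eq_one]) rfl]
      simp [orb, Multiset.nsmul_singleton], ← Multiset.bind_singleton, Multiset.bind, Multiset.bind]
    exact Multiset.sum_map_nsmul ..
  have t4 : dimD t = n / e := by
    have := congrArg dimD t3
    rw [dimD_map, dimD_smul, dimD_map, ← hD.dim, finrank_fin_fun] at this
    rw [this, Nat.mul_div_cancel_left _ he]
  refine ⟨t.map (pm (· ^ e)), mem_filter.2 ⟨hc.mem_X.2 ⟨⟨nsmul_right_injective he.ne' ?_, Multiset.forall_mem_map_iff.2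
    fun x hx => pow_ne_zero _ (hD'.ne x (t1 x hx)), Multiset.forall_mem_map_iff.2 fun x hx => hD'.pos x (t1 x hx)⟩,
    by simpa using t4⟩, (eq_inv_of_mul_eq_one_right ?_)⟩, ?_⟩
  · simp only [← Multiset.map_nsmul (pm (· ^ Q)), ← t3]
    conv_rhs => rw [← hD'.inv]
    simp only [Multiset.map_map]
    exact Multiset.map_congr rfl fun x _ => Prod.ext (zpow_comm' ..).symm rfl
  · rw [← t4, ← dimD_map (· ^ e), ← detD_mul, ← map_one (algebraMap F K), ← (hr _).1 ⟨g', rfl⟩, hD.det, t2]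
    simp only [detD, Multiset.map_bind, Multiset.prod_bind, Multiset.map_map]
    exact congrArg _ (Multiset.map_congr rfl fun x _ => (detD_orb_mul ..).symm)
  · rw [Multiset.bind_map, Multiset.bind_congr (g := orb (pm (algebraMap F K c * ·)) e) fun x _ => by
      rw [orb_pm, pm_fst, h1.nthRoots_eq rfl]; simp [orb], ← t2]
    exact hD.of_sim (sim_of_conj ((ρ n).comp ι) (ConjClasses.mk_eq_mk_iff_isConj.1 e1))

omit h hQ hc hi hr

theorem card_sub_le {G : Type*} [Group G] [Finite G] (P : ConjClasses G → Prop) :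
    Nat.card {c // P c} ≤ Nat.card (ConjClasses G) :=
  have : Finite (ConjClasses G) := Quotient.finite _
  Finite.card_subtype_le P

theorem gl_bound (F : Type*) [Field F] [Fintype F] (n : ℕ) :
    Fintype.card F ^ (n + 1) - Fintype.card F ^ n ≤ Nat.card (ConjClasses (GL (Fin (n + 1)) F)) ∧
      Nat.card (ConjClasses (GL (Fin (n + 1)) F)) ≤ Fintype.card F ^ (n + 1) := by
  have := Fact.mk (CharP.char_is_prime F (ringChar F))
  obtain ⟨ζ, hc⟩ := ctx_gl (F := F) (K := AlgebraicClosure F) (p := ringChar F)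
  obtain ⟨a, ha⟩ := Nat.exists_eq_add_one_of_ne_zero (Nat.card_pos (α := F)).ne'
  rw [← Nat.card_eq_fintype_card]
  refine ⟨le_trans (by rw [pow_succ', Nat.sub_one_mul]) ((gl_card (p := ringChar F) F n).ge.trans (card_sub_le _)), ?_⟩
  rw [(fam_gl (K := AlgebraicClosure F)).card]
  generalize ((Nat.card F : ℕ) : ℤ) = Q at *
  rw [ha] at hc ⊢
  exact (gl_kk hc).1 _

theorem sl_det {n : ℕ} (g : GL (Fin n) F) :
    g ∈ (Matrix.SpecialLinearGroup.toGL : _ →* GL (Fin n) F).range ↔ LinearMap.det (glE g) = 1 := by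
  rw [range_toGL, det_glE]; exact Units.ext_iff

theorem sl_lower (F : Type*) [Field F] [Finite F] (n : ℕ) :
    Nat.card F ^ (n + 1) < Nat.card (ConjClasses (Matrix.SpecialLinearGroup (Fin (n + 2)) F)) := by
  have := Fact.mk (CharP.char_is_prime F (ringChar F))
  have : Finite (ConjClasses (Matrix.SpecialLinearGroup (Fin (n + 2)) F)) := Quotient.finite _
  obtain ⟨g, hg⟩ := (fam_gl (F := F) (K := AlgebraicClosure F)).ex (n + 2) _ ((pre_sing one_ne_zero (one_zpow _)
    two_pos).add (pre_ones n)) (by simp [add_comm])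
  obtain ⟨g, rfl⟩ := (sl_det g).2 ((algebraMap F (AlgebraicClosure F)).injective (by simp [hg.det]))
  refine (sl_card (p := ringChar F) F (n + 1)).ge.trans_lt (Finite.card_subtype_lt (x := .mk g) fun ⟨g', e, h⟩ => ?_)
  have := (hg.of_sim (sim_of_conj (glE.comp Matrix.SpecialLinearGroup.toGL)
    (ConjClasses.mk_eq_mk_iff_isConj.1 e.symm))).unique (jd_ss h)
  exact absurd (mem_ssd.1 (this ▸ Multiset.mem_add.2 (.inl (Multiset.mem_singleton_self _)))).2 (by decide : 2 ≠ 1)

theorem sl_bound (F : Type*) [Field F] [Fintype F] (n : ℕ) :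
    2 * Nat.card (ConjClasses (Matrix.SpecialLinearGroup (Fin (n + 1)) F)) ≤ 5 * Fintype.card F ^ n ∧
      (2 ≤ n → Nat.card (ConjClasses (Matrix.SpecialLinearGroup (Fin (n + 1)) F)) ≤
        Fintype.card F ^ n + 3 * Fintype.card F ^ (n - 1)) := by
  have := Fact.mk (CharP.char_is_prime F (ringChar F))
  obtain ⟨ζ, hc⟩ := ctx_gl (F := F) (K := AlgebraicClosure F) (p := ringChar F)
  obtain ⟨a, ha⟩ := Nat.exists_eq_add_one_of_ne_zero (Nat.card_pos (α := F)).ne'
  have := fam_gl.card_bb (n := n + 1) qp_nat hc Matrix.SpecialLinearGroup.toGL_injective sl_det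
  rw [← Nat.card_eq_fintype_card]
  generalize ((Nat.card F : ℕ) : ℤ) = Q at *
  revert hc
  rw [ha]
  refine fun hc this => ⟨(Nat.mul_le_mul_left _ this).trans (gl_all hc one_ne_zero n), fun h => ?_⟩
  obtain ⟨n, rfl⟩ := Nat.exists_eq_add_of_le' h
  exact this.trans (gl_three hc one_ne_zero n)

theorem su_bound (F : Type*) [Field F] [Fintype F] {q : ℕ} (hF : Fintype.card F = q ^ 2) (n : ℕ) :
    q ^ (n + 1) ≤ Nat.card (ConjClasses (Cfsg.SU (n + 2) F q)) ∧
      100 * Nat.card (ConjClasses (Cfsg.SU (n + 2) F q)) ≤ 826 * q ^ (n + 1) := by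
  have := Fact.mk (CharP.char_is_prime F (ringChar F))
  obtain ⟨ζ, hc⟩ := ctx_gu (K := AlgebraicClosure F) (p := ringChar F) hF
  exact ⟨(su_card (p := ringChar F) F hF _).ge.trans (card_sub_le _), (Nat.mul_le_mul_left _ ((fam_gu hF).card_bb
    (qp_neg hF) hc (H11.suToGU_injective _) fun g => by
      rw [H11.range_suToGU, guRep_ρ, det_glE]; exact Units.ext_iff)).trans (gu_all hc (H11.two_le_of_card_sq hF) n)⟩

theorem psl_fix {ζ : K} (hc : Ctx (Nat.card F : ℕ) a q ζ) [CharP F p]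
    {z : Subgroup.center (Matrix.SpecialLinearGroup (Fin (n + 2)) F)} (hz : z ≠ 1) : ∃ m c, c ≠ 0 ∧
      2 * (m + 1) ≤ n + 2 ∧ Nat.card {c : ConjClasses _ // ∃ g, .mk g = c ∧ IsConj (z.1 * g) g} ≤ hc.bb (m + 1) c := by
  obtain ⟨c, c1, c2⟩ := Matrix.SpecialLinearGroup.mem_center_iff.1 z.2
  obtain ⟨m, hm⟩ := orderOf_dvd_of_pow_eq_one c1
  rw [Fintype.card_fin] at hm
  have h0 : 0 < orderOf c := Nat.pos_of_ne_zero fun e => by simp [e] at hm
  have h1 : orderOf c ≠ 1 := fun e => hz (Subtype.ext (Subtype.ext (by simp [← c2, orderOf_eq_one_iff.1 e])))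
  obtain ⟨c', c3, c4⟩ := fam_gl.card_fix (n := n + 2) (qp_nat (p := p)) hc Matrix.SpecialLinearGroup.toGL_injective sl_det
    (toLin'_eq_alg.2 c2.symm) h0 ((IsPrimitiveRoot.orderOf c).map_of_injective (algebraMap F _).injective)
  rcases m with _ | m
  · omega
  rw [Nat.div_eq_of_eq_mul_right h0 hm] at c4
  exact ⟨m, c', c3, hm ▸ Nat.mul_le_mul_right _ (by omega), c4⟩

theorem psl_bound (F : Type*) [Field F] [Fintype F] (n : ℕ) :
    Fintype.card F ^ (n + 1) ≤ (n + 2).gcd (Fintype.card F - 1) *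
      Nat.card (ConjClasses (Matrix.ProjectiveSpecialLinearGroup (Fin (n + 2)) F)) ∧ (n + 2).gcd (Fintype.card F - 1) *
      Nat.card (ConjClasses (Matrix.ProjectiveSpecialLinearGroup (Fin (n + 2)) F)) ≤
        Fintype.card F ^ (n + 1) + 5 * Fintype.card F ^ n := by
  have := Fact.mk (CharP.char_is_prime F (ringChar F))
  obtain ⟨ζ, hc⟩ := ctx_gl (F := F) (K := AlgebraicClosure F) (p := ringChar F)
  obtain ⟨a, ha⟩ := Nat.exists_eq_add_one_of_ne_zero (Nat.card_pos (α := F)).ne'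
  have h1 := fam_gl.card_bb (n := n + 2) qp_nat hc Matrix.SpecialLinearGroup.toGL_injective sl_det
  have hz := H11.card_center_sl (ι := Fin (n + 2)) (F := F)
  rw [Fintype.card_fin] at hz
  obtain ⟨S, h2, h3⟩ := burnside' (Matrix.SpecialLinearGroup (Fin (n + 2)) F)
  rw [hz, ← Nat.card_eq_fintype_card] at h2 h3
  rw [← Nat.card_eq_fintype_card, h2]
  refine ⟨(sl_lower F n).le.trans (Nat.le_add_right _ _), (Nat.add_le_add_right h1 _).trans ?_⟩
  replace h3 := fun B (h : ∀ m c, c ≠ 0 → 2 * (m + 1) ≤ n + 2 → 2 * hc.bb (m + 1) c ≤ B) => h3 B fun z hz =>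
    (psl_fix (p := ringChar F) hc hz).elim fun m ⟨c, c1, c2, c3⟩ => (Nat.mul_le_mul_left 2 c3).trans (h m c c1 c2)
  clear h1 h2
  revert hc
  generalize ((Nat.card F : ℕ) : ℤ) = Q
  rw [ha]
  exact fun hc => gl_psl hc n S

end H27.CN
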