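import Cfsg.Agent.H27.CN5
import Cfsg.Agent.H22.UF3

/-! The class number of symplectic groups in odd characteristic. -/

set_option autoImplicit false

namespace H27.CN

open Module Polynomial Finset Function H22 H27.Sp H12 H12.CForm

variable {F K : Type*} [Field F] [Field K] [Algebra F K] {V W : Type*} [AddCommGroup V] [Module F V]
  [AddCommGroup W] [Module F W] [FiniteDimensional F V] [FiniteDimensional F W] {u : End F V} {u' : End F W}

section fit
variable {T : FormType F} {C : CForm T V} {C' : CForm T W}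

theorem exists_fit (hC : C.Nondeg) (hu : C.IsIsomTo C u) : ∃ (U : Submodule F V) (h1 : ∀ x ∈ U, u x ∈ U)
    (h2 : ∀ x ∈ C.perp U, u x ∈ C.perp U), C.NondegOn U ∧ IsNilpotent (u.restrict h1 - 1 : End F U) ∧
      ∀ x ∈ C.perp U, u x = x → x = 0 := by
  obtain ⟨N, h, h0⟩ := ((u - 1).eventually_isCompl_ker_pow_range_pow.and (Filter.eventually_ge_atTop 1)).exists
  have hc : ∀ x, ((u - 1) ^ N) (u x) = u (((u - 1) ^ N) x) :=
    LinearMap.congr_fun ((Commute.refl u).sub_left (Commute.one_left u) |>.pow_left N).eq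
  have e : LinearMap.range ((u - 1) ^ N) = C.perp (LinearMap.ker ((u - 1) ^ N)) := by
    refine Submodule.eq_of_le_of_finrank_eq ?_ ?_
    · rintro _ ⟨x, rfl⟩
      exact C.mem_perp'.2 fun y hy => InvF.zero_left hu.1 hy x
    · have := hC.finrank_add_finrank_perp (LinearMap.ker ((u - 1) ^ N))
      have := ((u - 1) ^ N).finrank_range_add_finrank_ker
      omega
  refine ⟨_, fun x hx => by rw [LinearMap.mem_ker, hc, hx, map_zero], e ▸ by rintro _ ⟨x, rfl⟩; exact ⟨_, hc x⟩,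
    C.nondegOn_iff.2 (e ▸ h.disjoint), ⟨N, LinearMap.ext fun x => Subtype.ext ((pow_intertw
      (φ := Submodule.subtype _) (fun _ => rfl) N x).trans x.2)⟩, fun x hx e' => Submodule.disjoint_def.1 h.disjoint x
      (pow_apply_of_le (i := 1) (by simp [e']) h0) (e ▸ hx)⟩

omit [FiniteDimensional F V] in
theorem isom_res (hu : C.IsIsomTo C u) {U : Submodule F V} (h : ∀ x ∈ U, u x ∈ U) :
    (C.restrict U).IsIsomTo (C.restrict U) (u.restrict h : End F U) := ⟨fun x y => hu.1 x y, fun x => hu.2 x⟩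

omit [FiniteDimensional F V] [FiniteDimensional F W] in
theorem fsim_neg (h : FSim C (-u) C' (-u')) : FSim C u C' u' :=
  let ⟨e, h1, h2⟩ := h; ⟨e, h1, fun x => by simpa using h2 x⟩

theorem fsim_glue (hC : C.Nondeg) (hC' : C'.Nondeg) {U : Submodule F V} {U' : Submodule F W} {h1 : ∀ x ∈ U, u x ∈ U}
    {h2 : ∀ x ∈ C.perp U, u x ∈ C.perp U} {h1' : ∀ x ∈ U', u' x ∈ U'} {h2' : ∀ x ∈ C'.perp U', u' x ∈ C'.perp U'}
    (n : C.NondegOn U) (n' : C'.NondegOn U') (a : FSim (C.restrict U) (u.restrict h1) (C'.restrict U') (u'.restrict h1'))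
    (b : FSim (C.restrict _) (u.restrict h2) (C'.restrict _) (u'.restrict h2')) : FSim C u C' u' := by
  obtain ⟨a, a1, a2⟩ := a
  obtain ⟨b, b1, b2⟩ := b
  obtain ⟨g, g1, g2, g3⟩ := exists_glue (hC.isCompl_perp n) (hC'.isCompl_perp n') a1 b1
  refine ⟨g, g1, fun x => ?_⟩
  obtain ⟨x, y, rfl⟩ := H11.exists_add_of_isCompl (hC.isCompl_perp n) x
  rw [map_add, map_add, map_add, map_add, g2, g3]
  exact congrArg₂ _ ((g2 (u.restrict h1 x)).trans (congrArg _ (a2 x))) ((g3 (u.restrict h2 y)).trans (congrArg _ (b2 y)))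

end fit

variable [Finite F] {C : CForm (altType F) V} {C' : CForm (altType F) W}

/-- unipotent type with signs -/
def Un (C : CForm (altType F) V) (u : End F V) (μ : Multiset ℕ) (b : Finset ℕ) : Prop :=
  (∀ k ∈ μ, 0 < k) ∧ ∃ J : JB (u - 1) (exists_fin_map μ).choose,
    ∀ i, Even i → qsign (J.gram C.B i).det = if i ∈ b then -1 else 1

theorem Un.dim {μ : Multiset ℕ} {b : Finset ℕ} (h : Un C u μ b) : finrank F V = μ.sum :=
  let ⟨_, J, _⟩ := h; (exists_fin_map μ).choose_spec ▸ J.nType.finrank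

omit [Finite F] in
theorem pos_fin {μ : Multiset ℕ} (h : ∀ k ∈ μ, 0 < k) (k : Fin μ.card) : 0 < (exists_fin_map μ).choose k :=
  h _ (Multiset.mem_of_le (exists_fin_map μ).choose_spec.le (Multiset.mem_map_of_mem _ (mem_univ k)))

variable (h2 : (2 : F) ≠ 0) (hC : C.Nondeg) (hu : C.IsIsomTo C u)
include h2 hC hu

omit [FiniteDimensional F W] in
theorem Un.fsim (hC' : C'.Nondeg) (hu' : C'.IsIsomTo C' u') {μ : Multiset ℕ} {b : Finset ℕ} (h : Un C u μ b)
    (h' : Un C' u' μ b) : FSim C u C' u' := by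
  obtain ⟨h0, J, e⟩ := h
  obtain ⟨-, J', e'⟩ := h'
  have := J'.fd
  have hp := pos_fin h0
  obtain ⟨f, f1, f2⟩ := JB.fsim_of_gram h2 hp J J' (toSQ hC) hu.1 hu'.1 (ε := -1) C.symm C'.symm fun i => by
    have n1 := J.det_gram_ne hp (toSQ hC) hu.1 i
    have n2 := J'.det_gram_ne hp (toSQ hC') hu'.1 i
    rcases i.even_or_odd with hi | hi
    swap
    · exact alt_congr (J.gram_alt hp hu.1 (alt_isAlt C) hi) (J'.gram_alt hp hu'.1 (alt_isAlt C') hi) n1 n2
    have := fun k : Bk _ i => Odd.neg_one_pow (α := F) (Nat.Even.sub_odd (k.2 ▸ hp k.1) hi odd_one)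
    exact sym_congr h2 (Matrix.IsSymm.ext fun k l => (J.gram_symm hp hu.1 C.symm i l k).trans
      (by simp [this k, altType]; rfl)) (Matrix.IsSymm.ext fun k l => (J'.gram_symm hp hu'.1 C'.symm i l k).trans
      (by simp [this k, altType])) n1 n2 ((e i hi).trans (e' i hi).symm)
  exact ⟨f, ⟨f2, fun x => alt_N0 _ |>.trans (alt_N0 _).symm⟩, f1⟩

omit h2 in
theorem exists_un (h : IsNilpotent (u - 1)) : ∃ (ν : Multiset ℕ) (b c : Finset ℕ), Un C u (ν + ν + b.1 + c.1) c ∧
    (∀ i ∈ b, Even i) ∧ ∀ i ∈ c, Even i := by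
  classical
  obtain ⟨k, hk⟩ := h
  obtain ⟨μ, a1, a2⟩ := exists_nType hk
  obtain ⟨J⟩ := NType.jb ((exists_fin_map μ).choose_spec.symm ▸ a2 :
    NType (u - 1) (univ.val.map (exists_fin_map μ).choose))
  have hp := pos_fin fun k hk => (a1 k hk).1
  have hc : ∀ i, Fintype.card (Bk (exists_fin_map μ).choose i) = μ.count i := fun i => by
    rw [card_Bk_count, (exists_fin_map μ).choose_spec]
  let c := μ.toFinset.filter fun i => Even i ∧ qsign (J.gram C.B i).det = -1
  let b := (μ - c.1).toFinset.filter fun i => Odd ((μ - c.1).count i)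
  have hb : ∀ i ∈ b, Even i := fun i hi => by
    by_contra! H
    have := hc i ▸ even_of_alt (J.gram_alt hp hu.1 (alt_isAlt C) (Nat.not_even_iff_odd.1 H))
      (J.det_gram_ne hp (toSQ hC) hu.1 i)
    have h := (mem_filter.1 hi).2
    rw [Multiset.count_sub, Multiset.count_eq_zero (s := c.1).2 fun e => H (mem_filter.1 e).2.1] at h
    exact Nat.not_even_iff_odd.2 h this
  obtain ⟨ν, hν⟩ := (μ - c.1 - b.1).exists_smul_of_dvd_count (k := 2) fun i hi => by
    rw [Multiset.count_sub, Multiset.count_eq_of_nodup b.2]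
    split_ifs with h
    · exact even_iff_two_dvd.1 ((mem_filter.1 h).2.tsub_odd odd_one)
    · simpa [b, Multiset.mem_of_le (Multiset.sub_le_self _ _) hi, even_iff_two_dvd] using h
  have e : ν + ν + b.1 + c.1 = μ := by
    rw [← two_nsmul, ← hν, tsub_add_cancel_of_le, tsub_add_cancel_of_le] <;>
      exact (val_le_iff.2 (filter_subset _ _)).trans (Multiset.dedup_le _)
  refine ⟨ν, b, c, e.symm ▸ ⟨fun k hk => (a1 k hk).1, J, fun i hi => ?_⟩, hb, fun i hi => (mem_filter.1 hi).2.1⟩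
  split_ifs with h
  · exact (mem_filter.1 h).2.2
  by_cases h' : i ∈ μ
  · exact (Int.units_eq_one_or _).resolve_right fun e => h (mem_filter.2 ⟨Multiset.mem_toFinset.2 h', hi, e⟩)
  · have : IsEmpty (Bk _ i) := Fintype.card_eq_zero_iff.1 ((hc i).trans (by simpa using h'))
    simp

omit h2 hC hu

variable (F) in
/-- palindromic multisets -/
def Pal (E : Multiset K) : Prop := (E.map (fr F) = E ∧ E.map (·⁻¹) = E ∧ E.prod = 1) ∧ Even E.card

omit [Finite F] in
theorem Pal.add {E E' : Multiset K} (h : Pal F E) (h' : Pal F E') : Pal F (E + E') :=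
  ⟨⟨by simp [h.1.1, h'.1.1], by simp [h.1.2.1, h'.1.2.1], by simp [h.1.2.2, h'.1.2.2]⟩, by simp [h.2.add h'.2]⟩

theorem pal_two (c : F) (hc : c * c = 1) (ν : Multiset ℕ) (k : ℕ) :
    Pal F (lv k ((ν + ν).map (algebraMap F K c, ·))) := by
  have : lv k (ν.map (algebraMap F K c, ·)) = .replicate _ (algebraMap F K c) :=
    Multiset.eq_replicate_card.2 fun x hx => by
      obtain ⟨_, -, e⟩ := Multiset.mem_map.1 (mem_lv.1 hx); exact (Prod.mk.inj e).1.symm
  rw [Multiset.map_add, lv_add, this]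
  exact ⟨⟨by simp [fr_alg], by simp [← map_inv₀, inv_eq_of_mul_eq_one_right hc], by
    simp [← mul_pow, ← map_mul, hc]⟩, by simp⟩

variable [Algebra.IsAlgebraic F K]

theorem pal_lv {D : Multiset (K × ℕ)} (h : Sy (Nat.card F : ℕ) D) (h1 : ∀ x ∈ D, x.1 ^ 2 ≠ 1) (k : ℕ) : Pal F (lv k D) := by
  have h2 := (pre_iff.1 h.toPre).1 k
  have h3 : (lv k D).map (·⁻¹) = lv k D := (lv_map' _ k D).symm.trans (congrArg _ h.sym)
  have := Sy.alt ⟨h2.pre one_pos, by
    conv_rhs => rw [← h3]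
    simp only [Multiset.map_map]; rfl⟩ (Multiset.forall_mem_map_iff.2 fun x hx => h1 (x, k) (mem_lv.1 hx))
  exact ⟨⟨fr_eq_zpow (F := F) (K := K) ▸ h2.1, h3, by simpa [detD_lev] using this.det⟩, by simpa [dimD_lev] using this.even⟩

omit [FiniteDimensional F V] [Finite F] [Algebra.IsAlgebraic F K] in
theorem sq_ne {D : Multiset (K × ℕ)} (h : JD u D) (hu : Injective (u * u - 1 : End F V)) : ∀ x ∈ D, x.1 ^ 2 ≠ 1 := fun x hx e => by
  have h0 := X_pow_sub_C_ne_zero two_pos (1 : F)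
  have := h.kd _ h0
  rw [H22.kd, map_sub, map_pow, aeval_X, aeval_C, map_one, sq, LinearMap.ker_eq_bot.2 hu, finrank_bot] at this
  exact (lt_min (h.pos x hx) ((mu_pos h0).2 (by simp [e]))).ne'
    (Multiset.sum_eq_zero_iff.1 this.symm _ (Multiset.mem_map_of_mem _ hx))

variable [IsAlgClosed K]

theorem card_pal' (n : ℕ) : Nat.card {E : {E : Multiset K // Pal F E} // E.1.card = 2 * n} = Nat.card F ^ n := by
  have key : ∀ f : F[X], f.Monic → f.natDegree = 2 * n → ((f.aroots K).map (·⁻¹) = f.aroots K ∧ (f.aroots K).prod = 1 ↔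
      (∀ i : Fin (2 * n), i.1 = 0 → f.coeff i = 1) ∧ ∀ i j : Fin (2 * n), i.1 + j.1 = 2 * n → f.coeff i = f.coeff j) :=
    fun f h1 h2 => by
    have h4 := h2 ▸ h1.coeff_natDegree
    rw [← map_one (algebraMap F K), prod_aroots h1, h2, pow_mul, neg_one_sq, one_pow, one_mul, and_comm,
      show (∀ i : Fin (2 * n), i.1 = 0 → f.coeff i = 1) ↔ f.coeff 0 = 1 from ⟨fun h => by
        rcases n with _ | n
        exacts [h4, h ⟨0, by omega⟩ rfl], fun h i e => e ▸ h⟩]
    refine and_congr_right fun h3 => ((Multiset.map_injective (Prod.mk_left_injective 1)).eq_iff.symm.trans (Iff.trans ?_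
      (ssd_rev_iff (σ := RingHom.id F) (τ := RingHom.id K) (fun _ => rfl) h1 (by simp [h3])))).trans ?_
    · simp only [ssd, Multiset.map_map]; rfl
    simp only [rev_iff h2, h3, RingHom.id_apply, one_mul]
    refine ⟨fun h i j => h i j, fun h i j e => ?_⟩
    rcases eq_or_ne i 0 with rfl | hi
    · rw [h3, show j = 2 * n by omega, h4]
    rcases eq_or_ne j 0 with rfl | hj
    · rw [h3, show i = 2 * n by omega, h4]
    exact h ⟨i, by omega⟩ ⟨j, by omega⟩ e
  have inv : ∀ f : F[X], (f.aroots K).map (fr F) = f.aroots K := fun f =>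
    (lv_map' _ 1 (ssd K f)).symm.trans (congrArg _ (ssd_inv f)) |> (by simpa [ssd, lv_map] using ·)
  have hc := fun f : F[X] => IsAlgClosed.card_aroots_eq_natDegree (p := f) (B := K)
  refine (Nat.card_congr (Equiv.ofBijective (fun f => ⟨⟨f.1.aroots K, ⟨inv _, (key _ f.2.1.1 f.2.1.2).2 f.2.2⟩,
    ⟨n, ((hc _).trans f.2.1.2).trans (two_mul n)⟩⟩, (hc _).trans f.2.1.2⟩) ⟨fun f g e => Subtype.ext (eq_of_ssd (K := K)
      (congrArg (·.1.1.map (·, 1)) e) (f.2.1.1.trans g.2.1.1.symm)), fun E => ?_⟩)).symm.trans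
      ((card_monic _ _).trans (card_pal n))
  obtain ⟨u, hu⟩ := exists_of_jd (F := F) (V := Fin (2 * n) → F) (D := E.1.1.map (·, 1)) (by
    conv_rhs => rw [← E.1.2.1.1]
    simp only [Multiset.map_map]; rfl) (by simp) (by simp [dimD_lev, E.2])
  have e : u.charpoly.aroots K = E.1.1 := Multiset.map_injective (Prod.mk_left_injective 1) (hu.ss (by simp)).symm
  have h1 := P_gl (u := u) (n := 2 * n) (by simp)
  exact ⟨⟨_, h1, (key _ h1.1 h1.2).1 (e ▸ E.1.2.1.2)⟩, Subtype.ext (Subtype.ext e)⟩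

theorem gf_pal : FF (fun E : {E : Multiset K // Pal F E} => E.1.card) ∧
    (1 - .C (Nat.card F : ℝ) * .X ^ 2) * gf (fun E : {E : Multiset K // Pal F E} => E.1.card) = 1 := by
  have e : ∀ m, IsEmpty {E : {E : Multiset K // Pal F E} // E.1.card = 2 * m + 1} := fun m =>
    ⟨fun E => Nat.not_even_two_mul_add_one m (E.2 ▸ E.1.2.2)⟩
  refine ⟨fun m => ?_, PowerSeries.ext fun m => ?_⟩ <;> obtain ⟨m, rfl | rfl⟩ := m.even_or_odd'
  · exact Nat.finite_of_card_ne_zero (by rw [card_pal']; exact (pow_pos Nat.card_pos m).ne')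
  · infer_instance
  · rw [coeff_rec, coeff_gf, card_pal']
    rcases m with _ | m
    · simp
    · rw [if_pos (by omega), show 2 * (m + 1) - 2 = 2 * m by omega, coeff_gf, card_pal']; simp [PowerSeries.coeff_one, pow_succ']
  · rw [coeff_rec, coeff_gf, Nat.card_of_isEmpty]
    rcases m with _ | m
    · simp [PowerSeries.coeff_one]
    · rw [if_pos (by omega), show 2 * (m + 1) + 1 - 2 = 2 * m + 1 by omega, coeff_gf]
      simp [PowerSeries.coeff_one]

theorem gf_sub (S : Finset ℕ) : FF (fun b : S.powerset => b.1.1.sum) ∧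
    gf (fun b : S.powerset => b.1.1.sum) = ∏ k ∈ S, (1 + .X ^ k) := by
  refine ⟨fun _ => inferInstance, PowerSeries.ext fun m => ?_⟩
  rw [coeff_gf, prod_one_add, map_sum, Nat.card_eq_fintype_card, Fintype.card_subtype, card_filter, Nat.cast_sum,
    sum_coe_sort S.powerset fun b => (((if b.1.sum = m then 1 else 0 : ℕ)) : ℝ)]
  refine sum_congr rfl fun b _ => ?_
  rw [prod_pow_eq_pow_sum, PowerSeries.coeff_X_pow]; simp [eq_comm]

open Classical in
/-- the class invariants of a symplectic element -/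
def Cd (C : CForm (altType F) V) (u : End F V) (D : Multiset (K × ℕ)) (a b c d : Finset ℕ) : Prop :=
  ∃ (U : Submodule F V) (h1 : ∀ x ∈ U, u x ∈ U) (h2 : ∀ x ∈ C.perp U, u x ∈ C.perp U), C.NondegOn U ∧
    Un (C.restrict U) (u.restrict h1) ((D.filter (·.1 = 1)).map Prod.snd + a.1 + b.1) b ∧
    ∃ (U' : Submodule F (C.perp U)) (h3 : ∀ x ∈ U', (-u.restrict h2) x ∈ U') (h4 : ∀ x ∈ (C.restrict _).perp U',
      (-u.restrict h2) x ∈ (C.restrict _).perp U'), (C.restrict _).NondegOn U' ∧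
      Un ((C.restrict _).restrict U') ((-u.restrict h2).restrict h3) ((D.filter (·.1 = -1)).map Prod.snd + c.1 + d.1) d ∧
      JD ((-u.restrict h2).restrict h4 : End F _) (D.filter (·.1 ^ 2 ≠ 1)) ∧
      Injective ((-u.restrict h2).restrict h4 * (-u.restrict h2).restrict h4 - 1 : End F _)

omit [FiniteDimensional F V] in
theorem isom_neg (hu : C.IsIsomTo C u) {U : Submodule F V} (h : ∀ x ∈ U, u x ∈ U) :
    (C.restrict U).IsIsomTo (C.restrict U) (-u.restrict h : End F U) :=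
  ⟨fun x y => by simpa using hu.1 x y, fun _ => (alt_N0 _).trans (alt_N0 _).symm⟩

include h2 hC hu

omit [IsAlgClosed K] in
theorem Cd.fsim (hC' : C'.Nondeg) (hu' : C'.IsIsomTo C' u') {D : Multiset (K × ℕ)} {a b c d : Finset ℕ}
    (h : Cd C u D a b c d) (h' : Cd C' u' D a b c d) : FSim C u C' u' := by
  obtain ⟨U, a1, a2, a3, a4, Y, a5, a6, a7, a8, a9, a0⟩ := h
  obtain ⟨U', b1, b2, b3, b4, Y', b5, b6, b7, b8, b9, -⟩ := h'
  have c1 := C.restrict_nondeg_iff.2 (hC.nondegOn_perp a3)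
  have c2 := C'.restrict_nondeg_iff.2 (hC'.nondegOn_perp b3)
  have d1 := isom_neg hu a2
  have d2 := isom_neg hu' b2
  exact fsim_glue hC hC' a3 b3 (a4.fsim h2 (C.restrict_nondeg_iff.2 a3) (isom_res hu _)
    (C'.restrict_nondeg_iff.2 b3) (isom_res hu' _) b4) (fsim_neg (fsim_glue c1 c2 a7 b7
    (a8.fsim h2 (restrict_nondeg_iff _ |>.2 a7) (isom_res d1 _) (restrict_nondeg_iff _ |>.2 b7)
      (isom_res d2 _) b8) (fsim_of_sim (restrict_nondeg_iff _ |>.2 (c1.nondegOn_perp a7))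
      (restrict_nondeg_iff _ |>.2 (c2.nondegOn_perp b7)) (isom_res d1 _)
      (isom_res d2 _) (a9.sim b9) (.inr a0) (.inl rfl))))

theorem exists_cd : ∃ (D : Multiset (K × ℕ)) (a b c d : Finset ℕ), Cd C u D a b c d ∧ (∀ k, Pal F (lv k D)) ∧
    (∀ x ∈ D, 0 < x.2) ∧ (∀ e ∈ [a, b, c, d], ∀ i ∈ e, 0 < i ∧ Even i) ∧
    dimD D + (a.1.sum + (b.1.sum + (c.1.sum + d.1.sum))) = finrank F V := by
  classical
  obtain ⟨U, a1, a2, a3, a4, a5⟩ := exists_fit hC hu
  have c1 := C.restrict_nondeg_iff.2 (hC.nondegOn_perp a3)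
  have d1 := isom_neg hu a2
  obtain ⟨Y, b1, b2, b3, b4, b5⟩ := exists_fit c1 d1
  obtain ⟨ν, a, b, e1, e2, e3⟩ := exists_un (C.restrict_nondeg_iff.2 a3) (isom_res hu a1) a4
  obtain ⟨ν', c, d, f1, f2, f3⟩ := exists_un (restrict_nondeg_iff _ |>.2 b3) (isom_res d1 b1) b4
  obtain ⟨D, hD⟩ := exists_jd (K := K) ((-u.restrict a2).restrict b2 : End F _)
  have g1 : Injective ((-u.restrict a2).restrict b2 * (-u.restrict a2).restrict b2 - 1 : End F _) :=
    inj_sq (fun x e => Subtype.ext (b5 x x.2 (congrArg Subtype.val e))) fun x e => Subtype.ext (Subtype.ext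
      (a5 x x.1.2 (neg_injective (congrArg (·.1.1) e :))))
  have g2 := sq_ne hD g1
  have g3 := Rl.of (restrict_nondeg_iff _ |>.2 (c1.nondegOn_perp b3)) (isom_res d1 b2) hD
  have k2 : (-1 : K) ≠ 1 := fun e => (_root_.map_ne_zero (algebraMap F K)).2 h2 (by
    rw [map_ofNat]; linear_combination -e)
  have g4 : ∀ c : K, c ^ 2 = 1 → D.filter (·.1 = c) = 0 := fun c h => Multiset.filter_eq_nil.2 fun x hx e => g2 x hx (e ▸ h)
  refine ⟨D + (ν + ν).map (1, ·) + (ν' + ν').map (-1, ·), a, b, c, d, ⟨U, a1, a2, a3, ?_, Y, b1, b2, b3, ?_, ?_, g1⟩,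
    fun k => ?_, ?_, ?_, ?_⟩
  · simpa [g4, Multiset.filter_map, k2] using e1
  · simpa [g4, Multiset.filter_map, k2.symm] using f1
  · rw [Multiset.filter_add, Multiset.filter_add, Multiset.filter_eq_self.2 g2]
    simpa [Multiset.filter_map] using hD
  · rw [lv_add, lv_add]
    exact ((pal_lv ⟨g3.pre, g3.inv fun _ => rfl⟩ g2 k).add (by simpa using pal_two (K := K) (1 : F) (by simp) ν k)).add
      (by simpa using pal_two (K := K) (-1 : F) (by simp) ν' k)
  · simpa [or_imp, forall_and] using ⟨⟨fun _ _ => hD.pos _, fun k hk => e1.1 k (by simp [hk])⟩,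
      fun k hk => f1.1 k (by simp [hk])⟩
  · simpa using ⟨fun k hk => ⟨e1.1 k (by simp [hk]), e2 k hk⟩, fun k hk => ⟨e1.1 k (by simp [hk]), e3 k hk⟩,
      fun k hk => ⟨f1.1 k (by simp [hk]), f2 k hk⟩, fun k hk => ⟨f1.1 k (by simp [hk]), f3 k hk⟩⟩
  · have := hC.finrank_add_finrank_perp U
    have := c1.finrank_add_finrank_perp Y
    have := e1.dim
    have := f1.dim
    have := hD.dim
    simp only [dimD_add] at *
    simp [dimD] at *
    omega

omit h2 hC hu

theorem sp_bound (F : Type*) [Field F] [Fintype F] (hq : Odd (Fintype.card F)) (n : ℕ) :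
    Fintype.card F ^ n ≤ Nat.card (ConjClasses (Matrix.symplecticGroup (Fin n) F)) ∧
      5 * Nat.card (ConjClasses (Matrix.symplecticGroup (Fin n) F)) ≤ 54 * Fintype.card F ^ n := by
  have := Fact.mk (CharP.char_is_prime F (ringChar F))
  rw [← Nat.card_eq_fintype_card]
  refine ⟨(sp_card (p := ringChar F) F n).ge.trans (card_sub_le _), ?_⟩
  have h2 := odd_card_iff.1 hq
  have hp := gf_pal (F := F) (K := AlgebraicClosure F)
  have h3 := gf_lv (c := fun _ => Pal (K := AlgebraicClosure F) F) (by simp [Pal]) Prod.snd (Icc 1 (2 * (n + 3) + 1))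
    fun k hk => by simpa [mul_comm] using (gf_mul hp.1 (show k ≠ 0 by simp at hk; omega)).1
  have h4 := gf_sub {k ∈ Icc 1 (2 * (n + 3) + 1) | Even k}
  have h5 := gf_prod h4.1 h4.1
  have h6 := gf_prod h4.1 h5.1
  have h7 := gf_prod h4.1 h6.1
  have h8 := gf_prod h3.1 h7.1
  have h9 := sp_le (q := Nat.card F) (E := fun k => gf (fun E : {E : Multiset (AlgebraicClosure F) // Pal F E} =>
    k * E.1.card) * if Even k then (1 + .X ^ k) ^ 4 else 1) (N := n + 3) (by
      have := Fintype.one_lt_card (α := F)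
      rw [Nat.card_eq_fintype_card]; obtain ⟨k, hk⟩ := hq; exact_mod_cast (by omega)) (fun k => (nn_gf _).mul (by
        split_ifs
        · simpa using nn_prod (S := range 4) (E := fun _ => ∏ j ∈ {k}, (1 + .X ^ j)) fun _ _ => (gf_sub {k}).2 ▸ nn_gf _
        exact nn_one)) (fun k hk => by
      have := congrArg (PowerSeries.expand k hk.ne') hp.2
      rw [← mul_assoc, (gf_mul hp.1 hk.ne').2]
      exact mul_left_eq_self₀.2 (.inl (by simpa [PowerSeries.expand_C, ← pow_mul, mul_comm k] using this))) (by omega) n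
  rw [h7.2, h6.2, h5.2, h4.2, h3.2] at h8
  simp only [Multiset.map_const', Multiset.sum_replicate, smul_eq_mul, mul_comm (Multiset.card _)] at h8
  rw [pc, prod_mul_distrib, ← prod_filter, prod_pow, show ∀ a b : PowerSeries ℝ, a * b ^ 4 = a * (b * (b * (b * b))) from
    fun a b => by ring, ← h8.2, coeff_gf] at h9
  have R := spRep (Fin n) F
  choose D a b c d k1 k2 k3 k4 k5 using fun g : ConjClasses _ =>
    exists_cd (K := AlgebraicClosure F) h2 R.nd (R.isom g.out)
  simp only [finrank_fintype_fun_eq_card, Fintype.card_sum, Fintype.card_fin, ← two_mul] at k5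
  have k6 : ∀ g, ∀ e ∈ [a g, b g, c g, d g], e ∈ powerset {k ∈ Icc 1 (2 * (n + 3) + 1) | Even k} := fun g e he =>
    mem_powerset.2 fun i hi => mem_filter.2 ⟨mem_Icc.2 ⟨(k4 g e he i hi).1, by
      have := Multiset.single_le_sum (s := e.1) (by simp) i hi
      have := k5 g
      simp at he; rcases he with rfl | rfl | rfl | rfl <;> omega⟩, (k4 g e he i hi).2⟩
  have := h8.1 (2 * n)
  refine (fun this => ?_) <| (Nat.cast_le (α := ℝ).2 (Nat.card_le_card_of_injective (fun g => ⟨(⟨D g, k2 g, fun x hx => mem_Icc.2 ⟨k3 g x hx, by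
    have := le_dimD hx; have := k5 g; omega⟩⟩, ⟨_, k6 g (a g) (by simp)⟩, ⟨_, k6 g (b g) (by simp)⟩,
    ⟨_, k6 g (c g) (by simp)⟩, ⟨_, k6 g (d g) (by simp)⟩), k5 g⟩) fun g g' e => ?_)).trans h9
  · exact_mod_cast (show (5 * Nat.card _ : ℝ) ≤ 54 * Nat.card F ^ n by linarith)
  · replace e := congrArg (fun x => (x.1.1.1, x.1.2.1.1, x.1.2.2.1.1, x.1.2.2.2.1.1, x.1.2.2.2.2.1)) e
    simp only [Prod.mk.injEq] at e
    exact Quotient.out_equiv_out.1 (R.isConj ((k1 g).fsim h2 R.nd (R.isom _) R.nd (R.isom _)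
      (by rw [e.1, e.2.1, e.2.2.1, e.2.2.2.1, e.2.2.2.2]; exact k1 g')))

end H27.CN
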