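import Cfsg.Agent.H27.Spec20

/-! The spectrum of `Ω₉(q)`, II. -/

set_option autoImplicit false
set_option linter.unusedSectionVars false

namespace H27.Sp

open Module Polynomial Function H11 H22 H12 H12.CForm Iso

variable {F K : Type*} [Field F] [Field K] [Algebra F K] {p N : ℕ} {D E Z : Multiset (K × ℕ)} [Finite F]
  {δ s δ' s' : ℤˣ} [Algebra.IsAlgebraic F K] [IsAlgClosed K] [Fact p.Prime] [CharP F p] [CharP K p]
  {c : ℕ} (hc : Nat.card F = 2 * c + 1)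
include hc

theorem split1 (h : Rq F D δ 1) (h1 : detD D = 1) : ∃ A Z δ, D = A + Z ∧ Rq F Z δ 1 ∧ (∀ x ∈ Z, x.1 ≠ 1) ∧ detD Z = 1 ∧
    Even (dimD Z) ∧ ∀ N, (p ^ Nat.clog p (dimD A) ∣ N → K1 p A N) ∧ (p ^ Nat.clog p (dimD A + 1) ∣ N → KA p A N) := by
  obtain ⟨f2, k2, p2⟩ := facts (K := K) (p := p) hc
  obtain ⟨A, Z, _, _, δ, s, rfl, r1, r2, -, e, a, z⟩ := h.split f2 (c := 1) (by simp)
  rw [map_one] at a z
  rw [r1.unip p2 a, one_mul] at e
  rw [detD_add, detD_const a, one_pow, one_mul] at h1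
  exact ⟨A, Z, δ, rfl, e ▸ r2, z, h1, r2.rl.par (p := p) hc z h1, fun N => ⟨fun k x hx => ⟨by simp [a x hx],
    clog_dvd (le_dimD hx) k⟩, fun k x hx => ⟨by simp [a x hx], clog_dvd (by simpa [a x hx] using le_dimD hx) k⟩⟩⟩

theorem main8 (h : Rq F D δ 1) (hd : dimD D = 8) (h1 : detD D = 1) (δ' : ℤˣ) :
    ∃ E : Multiset (K × ℕ), Rq F E δ' 1 ∧ dimD E = 9 ∧ detD E = 1 ∧ ∀ N, K1 p E N → KA p D N := by
  obtain ⟨f2, k2, p2⟩ := facts (K := K) (p := p) hc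
  obtain ⟨A, Z, δ, rfl, r, z, d, ⟨l, e⟩, k⟩ := split1 (p := p) hc h h1
  rw [dimD_add] at hd
  exact ⟨_, (r.add f2 (rq_reg f2 p2 (4 - l) (δ * δ'))).cast (by simp [← mul_assoc]) rfl, by simp; omega, by simp [d],
    fun N k' => KA_add.2 ⟨(k N).2 (clog_dvd (by omega) (K1_one.1 (K1_add.1 k').2)), (K1_add.1 k').1.ka z⟩⟩

theorem main9 (h : Rq F D δ 1) (hd : dimD D = 9) (h1 : detD D = 1) : In8 F (K := K) p (K1 p D) := by
  obtain ⟨f2, k2, p2⟩ := facts (K := K) (p := p) hc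
  have k2' : (-1 : K) ≠ 1 := fun e => k2 (by linear_combination -e)
  obtain ⟨A, Z, δ, rfl, r, z, d, ⟨l, e⟩, k⟩ := split1 (p := p) hc h h1
  rw [dimD_add] at hd
  by_cases l4 : l < 4
  · exact (rv hc r (a := 3 - l) (by omega) d).mono fun N k' => K1_add.2 ⟨(k N).1 (clog_dvd (by omega) k'.2), k'.1⟩
  refine In8.mono (P := K1 p Z) ?_ fun N k' => K1_add.2 ⟨(k N).1 (by simp [show dimD A = 1 by omega]), k'⟩
  rcases Int.units_eq_one_or δ with rfl | rfl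
  swap; · exact ⟨Z, r, by omega, d, fun N k => k.k1⟩
  obtain ⟨B, Y, δ, s, δ', s', rfl, r1, r2, -, -, b, y⟩ := r.split f2 (c := -1) (by simp)
  rw [map_neg, map_one] at b y
  have y2 : ∀ x ∈ Y, x.1 ^ 2 ≠ 1 := fun x hx => by simp [z x (by simp [hx]), y x hx]
  have al := r2.rl.sy'.alt y2
  obtain ⟨m, hm⟩ := al.even
  rw [dimD_add] at e hd
  have a1 : dimD A = 1 := by omega
  have kb : ∀ N, Even N → p ^ Nat.clog p (dimD B - 1) ∣ N → K1 p B N := fun N e k x hx => ⟨by rw [b x hx, e.neg_one_pow],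
    clog_dvd (by
      obtain ⟨B, rfl⟩ := Multiset.exists_cons_of_mem hx
      rcases eq_or_ne B 0 with rfl | h
      · obtain ⟨_, h⟩ := Rl.odd_blk (c := x.1) (k := x.2) f2 r1.rl (by simp [b x hx])
        simp at *; omega
      obtain ⟨w, hw⟩ := Multiset.exists_mem_of_ne_zero h
      have := le_dimD hw
      have := r1.rl.pre.pos w (by simp [hw])
      rw [dimD_cons]; omega) k⟩
  by_cases m4 : m = 4
  · obtain rfl := r1.rl.pre.eq_zero (by omega)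
    exact reg8 hc r (by simp; omega) (by simpa using y2)
  by_cases m3 : m = 3
  · have e1 : dimD B - 1 = 1 := by omega
    by_cases ev : ∀ N, K1 p Y N → Even N
    · exact (rp hc r2.rl (by omega) al.det).mono fun N k => K1_add.2 ⟨kb N (ev N k) (by simp [e1]), k⟩
    push Not at ev
    obtain ⟨M, kM, oM⟩ := ev
    refine (rp hc r2.rl.neg (by simp; omega) ((detD_neg ⟨m, hm⟩).trans al.det)).mono fun N k => ?_
    obtain ⟨w, hw⟩ := Multiset.exists_mem_of_ne_zero (s := Y) (by rintro rfl; simp at hm; omega)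
    have : Even N := by
      have := congrArg (· ^ M) (K1_neg.1 k w hw).1
      simp only [← pow_mul, mul_comm N] at this
      rwa [pow_mul, (Nat.not_even_iff_odd.1 oM).neg_pow, (kM w hw).1, one_pow, neg_one_pow_eq_one_iff_even k2'] at this
    exact K1_add.2 ⟨kb N this (by simp [e1]), fun x hx => by simpa [this.neg_pow] using K1_neg.1 k x hx⟩
  refine (rv hc ((r2.add f2 ((rq_ones f2 p2 s').neg f2 (m := 0) (by simp))).cast rfl (by simp)) (a := 2 - m)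
    (by simp; omega) (by simp [al.det])).mono fun N k => K1_add.2 ⟨kb N ?_ (clog_dvd (by omega) k.2), (K1_add.1 k.1).1⟩
  exact (neg_one_pow_eq_one_iff_even k2').1 (k.1 (-1, 1) (by simp)).1

omit hc
variable {V : Type*} [AddCommGroup V] [Module F V] [FiniteDimensional F V] {Q : QuadraticForm F V} (f2 : (2 : F) ≠ 0)
  (hQ : QNondeg Q)
include f2 hQ

theorem om_out {g : orth Q} (h : g ∈ commutator (orth Q)) : ∃ D : Multiset (K × ℕ), JD (g.1 : End F V) D ∧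
    Rq F D (dq Q) 1 ∧ dimD D = finrank F V ∧ detD D = 1 :=
  let ⟨D, hD⟩ := exists_jd (K := K) (g.1 : End F V)
  ⟨D, hD, ((mem_commutator_iff hQ (notExc_of_two_ne_zero f2) g).1 h).2 ▸ Rq.of f2 hQ g hD, hD.dim.symm, by
    rw [← hD.det, det_of_mem_commutator h, map_one]⟩

theorem om_in (h : Rq F D (dq Q) 1) (hd : dimD D = finrank F V) (h1 : detD D = 1) :
    ∃ g ∈ commutator (orth Q), JD (g.1 : End F V) D := by
  obtain ⟨m, Q', g, a, b, e, s⟩ := h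
  obtain ⟨g', hg⟩ := exists_fsim hQ (quad_iso_of_disc f2 a hQ (b.dim.trans hd) _ _ e) g
  have j := b.of_sim (fsim_sim hg)
  exact ⟨g', (mem_commutator_iff hQ (notExc_of_two_ne_zero f2) _).2 ⟨(dickson_eq_one_iff hQ f2 _).2
    ((algebraMap F K).injective (by rw [j.det, h1, map_one])), (fsim_inv f2 a hg).2 ▸ s⟩, j⟩

omit f2 in
theorem ord_k1 (g : commutator (orth Q)) (h : JD (g.1.1 : End F V) D) : orderOf g ∣ N ↔ K1 p D N := by
  rw [K1, ← h.pow_eq_one (h.ne_zero (isUnit_of_isom hQ g.1.2)), orderOf_dvd_iff_pow_eq_one,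
    Subtype.ext_iff, Subtype.ext_iff, ← LinearEquiv.toLinearMap_inj]
  simp [End.one_eq_id, coe_pow']

omit f2 hQ
variable {G : Type*} [Group G] (φ : G →* MulAut (Multiplicative V)) (ρ : G →* End F V)
  (hφ : ∀ g v, φ g (.ofAdd v) = .ofAdd (ρ g v)) (hρ : Injective ρ)
include hφ

theorem sd_pow (x : Multiplicative V ⋊[φ] G) (k : ℕ) :
    (x ^ k).left = .ofAdd ((∑ i ∈ Finset.range k, ρ x.right ^ i) x.left.toAdd) := by
  induction k with
  | zero => simp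
  | succ k ih =>
    rw [pow_succ, SemidirectProduct.mul_left, ih, Finset.sum_range_succ, LinearMap.add_apply, ofAdd_add, ← map_pow, ← hφ]
    exact congrArg (_ * φ · _) (map_pow SemidirectProduct.rightHom x k)

include hρ
theorem sd_one (x : Multiplicative V ⋊[φ] G) (k : ℕ) :
    x ^ k = 1 ↔ ρ x.right ^ k = 1 ∧ (∑ i ∈ Finset.range k, ρ x.right ^ i) x.left.toAdd = 0 := by
  rw [SemidirectProduct.ext_iff, sd_pow φ ρ hφ, and_comm, ← map_pow, map_eq_one_iff _ hρ]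
  exact and_congr (by rw [show (x ^ k).right = _ from map_pow SemidirectProduct.rightHom x k]; rfl) ofAdd_eq_one

theorem sd_out (x : Multiplicative V ⋊[φ] G) (h : Gd (ρ x.right) N) : orderOf x ∣ N :=
  orderOf_dvd_of_pow_eq_one ((sd_one φ ρ hφ hρ x N).2 ⟨h.pow_eq, by rw [h]; rfl⟩)

include p in
theorem sd_in (g : G) : ∃ x : Multiplicative V ⋊[φ] G, Gd (ρ g) (orderOf x) := by
  by_cases h : Gd (ρ g) (orderOf (ρ g))
  · exact ⟨⟨1, g⟩, h.dvd (orderOf_dvd_of_pow_eq_one ((sd_one φ ρ hφ hρ _ _).1 (pow_orderOf_eq_one _)).1)⟩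
  obtain ⟨v, hv⟩ := DFunLike.ne_iff.1 h
  refine ⟨⟨.ofAdd v, g⟩, ?_⟩
  obtain ⟨h1, h2⟩ := (sd_one φ ρ hφ hρ ⟨.ofAdd v, g⟩ _).1 (pow_orderOf_eq_one _)
  obtain ⟨k, hk⟩ := orderOf_dvd_of_pow_eq_one h1
  rw [hk] at h2 ⊢
  refine (gd_p F p (pow_orderOf_eq_one _)).dvd (mul_dvd_mul_left _ ((CharP.cast_eq_zero_iff F p k).1 ?_))
  rw [sum_mul_range, pow_orderOf_eq_one] at h2
  simp only [one_pow, Finset.sum_const, Finset.card_range, mul_smul_comm, mul_one, ← Nat.cast_smul_eq_nsmul F] at h2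
  exact (smul_eq_zero.1 h2).resolve_right hv

local notation "𝕂" => AlgebraicClosure F

theorem om9_eq [Finite V] [Finite G] (hq : Odd (Nat.card F)) (hQ : QNondeg Q) (hd : finrank F V = 8)
    (ht : ¬ (ofQuad Q).HasTS 4) (e : G ≃* commutator (orth Q)) (he : ∀ g, ρ g = (e g).1.1) :
    om (Og 4 F) = om (Multiplicative V ⋊[φ] G) := by
  obtain ⟨c, hc⟩ := hq
  obtain ⟨p, _⟩ := CharP.exists F
  have := Fact.mk (CharP.char_is_prime F p)
  obtain ⟨f2, -, -⟩ := facts (K := 𝕂) (p := p) hc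
  have n9 := qOdd_nondeg f2 4
  have : Finite (Multiplicative V ⋊[φ] G) := .of_equiv _ SemidirectProduct.equivProd.symm
  have dm : dq Q = -1 := qsign_eq_neg_one.2 fun h => ht ((quad_hasTS_iff_disc f2 hQ hd (finBasis F V)).2 (by
    simpa [show (-1 : F) ^ 4 = 1 by norm_num]))
  refine Set.Subset.antisymm ?_ ?_ <;> rintro _ ⟨x, rfl⟩
  · obtain ⟨D, j, r, d1, d2⟩ := om_out (K := 𝕂) f2 n9 x.2
    obtain ⟨E, r', e1, e2, h⟩ := main9 (p := p) hc r (by simp [d1]) d2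
    obtain ⟨g, hg, j'⟩ := om_in f2 hQ (dm ▸ r') (e1.trans hd.symm) e2
    obtain ⟨y, hy⟩ := sd_in (p := p) φ ρ hφ hρ (e.symm ⟨g, hg⟩)
    rw [he, e.apply_symm_apply, j'.gd (p := p) r'.rl.pre.ne] at hy
    exact om_dvd ⟨y, rfl⟩ ((ord_k1 n9 x j).2 (h _ hy))
  · obtain ⟨D, j, r, d1, d2⟩ := om_out (K := 𝕂) f2 hQ (e x.right).2
    obtain ⟨E, r', e1, e2, h⟩ := main8 (p := p) hc r (d1.trans hd) d2 (dq (qOdd 4 F))
    obtain ⟨g, hg, j'⟩ := om_in f2 n9 r' (by simp [e1]) e2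
    exact om_dvd ⟨⟨g, hg⟩, rfl⟩ (sd_out φ ρ hφ hρ x (by
      rw [he, j.gd (p := p) r.rl.pre.ne]; exact h _ ((ord_k1 n9 ⟨g, hg⟩ j').1 dvd_rfl)))

end H27.Sp
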