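import Cfsg.Agent.H27.CN6
import Cfsg.Agent.H27.Spec21

/-! Conjugacy classes of orthogonal groups in odd characteristic. -/

set_option autoImplicit false
set_option linter.unusedSectionVars false

namespace H27.CN

open Module Finset Function H22 H27.Sp H11 H12 H12.CForm QuadraticMap

variable {F K : Type*} [Field F] [Field K] [Algebra F K] {V W : Type*} [AddCommGroup V] [Module F V]
  [AddCommGroup W] [Module F W] {u : End F V} {u' : End F W} {ι : Type*} [Fintype ι] [DecidableEq ι] {d : ι → ℕ}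

theorem det_Cm {N φ : End F V} (J : JB N d) (hd : ∀ k, 0 < d k) (h : φ ∈ Cm N) {s : ℕ} (hs : ∀ k, d k < s) :
    LinearMap.det φ = ∏ i ∈ range s, (J.π hd i φ).det ^ i := by
  let key : (Σ k, Fin (d k)) → ℕᵒᵈ ×ₗ ℕ := fun x => toLex (OrderDual.toDual x.2.1, d x.1)
  have e : ∀ x y, LinearMap.toMatrix J.b J.b φ x y = J.b.repr ((N ^ y.2.1) (φ (J.e y.1))) x := fun x y => by
    rw [LinearMap.toMatrix_apply, J.b_eq y.1 y.2, Cm_pow h]
  have t : (LinearMap.toMatrix J.b J.b φ).BlockTriangular key := by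
    rintro ⟨k, a⟩ ⟨l, b⟩ hl
    rw [e]
    rcases (Prod.Lex.toLex_lt_toLex.1 hl) with hl | ⟨h1, h2⟩
    · refine DFunLike.congr_fun (J.b.ext (f₁ := (J.b.coord ⟨k, a⟩).comp (N ^ b.1)) (f₂ := 0) fun ⟨m, j⟩ => ?_) _
      have : a.1 < b.1 := hl
      simp [J.b_eq, ← pow_apply_add, J.repr_pow_e]; omega
    · rw [show b.1 = a.1 from h1, J.repr_pow hd]; exact J.P_tri hd h h2
  rw [← LinearMap.det_toMatrix J.b, t.det, prod_subset (s₂ := ((range s).sigma range).image fun x =>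
    toLex (OrderDual.toDual x.2, x.1)) (image_subset_iff.2 fun x _ => mem_image.2 ⟨⟨d x.1, x.2⟩, by simp [hs], rfl⟩)
    fun κ _ h => by
      have : IsEmpty {x // key x = κ} := ⟨fun x => h (mem_image.2 ⟨x, mem_univ _, x.2⟩)⟩
      exact Matrix.det_isEmpty, prod_image (by rintro ⟨a, b⟩ - ⟨c, d⟩ - h; cases h; rfl), prod_sigma]
  refine prod_congr rfl fun i _ => (prod_eq_pow_card fun a ha => ?_).trans (by rw [card_range])
  rw [mem_range] at ha
  rw [← Matrix.det_submatrix_equiv_self (Equiv.ofBijective (fun k : Bk d i => (⟨⟨k.1, a, k.2.symm ▸ ha⟩, by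
    simp [key, k.2]⟩ : {x // key x = toLex (OrderDual.toDual a, i)})) ⟨fun k l h => Subtype.ext (congrArg (·.1.1) h),
      by rintro ⟨⟨k, b⟩, h⟩; cases h; exact ⟨⟨k, rfl⟩, rfl⟩⟩)]
  exact congrArg _ (Matrix.ext fun k l => (e _ _).trans (J.repr_pow hd k.1 ⟨a, _⟩ _))

variable [Finite F] [FiniteDimensional F V] [FiniteDimensional F W] {Q : QuadraticForm F V} {Q' : QuadraticForm F W}

theorem dq_rel (hd : ∀ k, 0 < d k) (J : JB (u - 1) d) (J' : JB (u' - 1) d) (hQ : QNondeg Q) (hQ' : QNondeg Q')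
    (h : InvF u (ofQuad Q).B) (h' : InvF u' (ofQuad Q').B) {s : ℕ} (hs : ∀ k, d k < s) : dq Q' = dq Q *
      ∏ i ∈ range s, (qsign (J.gram (ofQuad Q).B i).det * qsign (J'.gram (ofQuad Q').B i).det) ^ i := by
  let e := J.b.equiv J'.b (Equiv.refl _)
  have e0 : (e : V →ₗ[F] W) = J.lift (u' - 1) J'.e := J.b.ext fun ⟨k, j⟩ => by simp [e, JB.lift, J'.b_eq]
  have e2 : ∀ x, e (u x) = u' (e x) := by simpa [← e0] using J.lift_comm J'.nil
  let β := ((ofQuad Q').B.comp (e : V →ₗ[F] W)).compl₂ (e : V →ₗ[F] W)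
  obtain ⟨t, h8, h9⟩ := (toSQ hQ).exists_Cm h (β := β) fun x y => by simpa [β, e2] using h' _ _
  have g1 : ∀ i, (J'.gram (ofQuad Q').B i).det = (J.π hd i t).det * (J.gram (ofQuad Q).B i).det := fun i => by
    have := J.gram_comp hd h h8 (one_mem _) i
    rw [J.π_one, mul_one, show ((ofQuad Q).B.comp t).compl₂ (1 : End F V) = β by ext x y; exact h9 x y] at this
    rw [← Matrix.det_transpose (J.π hd i t), ← Matrix.det_mul]
    refine congrArg _ (.trans (Matrix.ext fun k l => ?_) this)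
    have := J.lift_pow J'.nil
    simp only [← e0, LinearEquiv.coe_coe] at this
    simp [JB.gram_apply, β, this, show ∀ k, e (J.e k) = J'.e k from fun k => this k 0]
  have n1 : ∀ i, (J.gram (ofQuad Q).B i).det ≠ 0 := J.det_gram_ne hd (toSQ hQ) h
  have n2 := fun i => left_ne_zero_of_mul (g1 i ▸ J'.det_gram_ne hd (toSQ hQ') h' i)
  rw [dq_eq hQ' J'.b, dq_eq hQ J.b, show (ofQuad Q').gram J'.b = .of fun i j => (ofQuad Q).B (t (J.b i)) (J.b j) from
    Matrix.ext fun i j => .trans (by simp [β, e, CForm.gram]) (h9 _ _).symm, gram_comp, det_Cm J hd h8 hs, qsign_mul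
      (prod_ne_zero_iff.2 fun i _ => pow_ne_zero _ (n2 i)) ((nondeg_iff_det_gram _).1 hQ), mul_comm,
      qsign_prod _ _ fun i _ => pow_ne_zero _ (n2 i)]
  refine congrArg _ (prod_congr rfl fun i _ => ?_)
  rw [qsign_pow (n2 i), g1, qsign_mul (n2 i) (n1 i), mul_left_comm]
  simp

/-- unipotent type with signs -/
def UO (Q : QuadraticForm F V) (u : End F V) (x : Multiset ℕ × Finset ℕ) : Prop :=
  ∃ J : JB (u - 1) (exists_fin_map x.1).choose,
    ∀ i, Odd i → qsign (J.gram (ofQuad Q).B i).det = if i ∈ x.2 then -1 else 1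
/-- admissible types -/
def VU (x : Multiset ℕ × Finset ℕ) : Prop :=
  (∀ k ∈ x.1, 0 < k) ∧ (∀ i, Even i → Even (x.1.count i)) ∧ ∀ i ∈ x.2, Odd i ∧ i ∈ x.1

variable {x y : Multiset ℕ × Finset ℕ}
theorem UO.dim (h : UO Q u x) : finrank F V = x.1.sum :=
  let ⟨J, _⟩ := h; (exists_fin_map x.1).choose_spec ▸ J.nType.finrank

theorem UO.dq (h : UO Q u x) (h' : UO Q' u' y) (hx : VU x) (hy : VU y) (e : x.1 = y.1) (hQ : QNondeg Q)
    (hQ' : QNondeg Q') (hu : InvF u (ofQuad Q).B) (hu' : InvF u' (ofQuad Q').B) :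
    dq Q' * (-1) ^ #y.2 = dq Q * (-1) ^ #x.2 := by
  obtain ⟨μ, σ⟩ := x
  obtain ⟨_, τ⟩ := y
  cases e
  obtain ⟨J, e⟩ := h
  obtain ⟨J', e'⟩ := h'
  have k : ∀ σ, VU (μ, σ) → (-1 : ℤˣ) ^ #σ = ∏ i ∈ range (μ.sum + 1), if i ∈ σ then -1 else 1 := fun σ h => by
    rw [prod_ite_mem, prod_const, inter_eq_right.2 fun i hi => mem_range.2 (Nat.lt_succ_of_le
      (Multiset.single_le_sum (by simp) i (h.2.2 i hi).2))]
  rw [dq_rel (pos_fin hx.1) J J' hQ hQ' hu hu' (s := μ.sum + 1) fun k => Nat.lt_succ_of_le (Multiset.single_le_sum (by simp) _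
    (Multiset.mem_of_le (exists_fin_map μ).choose_spec.le (Multiset.mem_map_of_mem _ (mem_univ k)))), k _ hx, k _ hy,
    mul_assoc, ← prod_mul_distrib]
  refine congrArg _ (prod_congr rfl fun i _ => ?_)
  rcases i.even_or_odd with hi | hi
  · rw [if_neg fun h => Nat.not_odd_iff_even.2 hi (hx.2.2 i h).1, if_neg fun h => Nat.not_odd_iff_even.2 hi (hy.2.2 i h).1,
      Int.units_pow_eq_pow_mod_two, Nat.even_iff.1 hi, pow_zero, mul_one]
  · rw [e i hi, e' i hi]; split_ifs <;> simp [hi.neg_one_pow]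

variable (f2 : (2 : F) ≠ 0) (hQ : QNondeg Q) (hu : InvF u (ofQuad Q).B)
include f2 hQ hu

theorem UO.fsim (hQ' : QNondeg Q') (hu' : InvF u' (ofQuad Q').B) (hx : VU x) (h : UO Q u x) (h' : UO Q' u' x) :
    FSim (ofQuad Q) u (ofQuad Q') u' := by
  obtain ⟨J, e⟩ := h
  obtain ⟨J', e'⟩ := h'
  have hp := pos_fin hx.1
  obtain ⟨f, f1, f3⟩ := JB.fsim_of_gram f2 hp J J' (toSQ hQ) hu hu' (ε := 1) (ofQuad Q).symm (ofQuad Q').symm fun i => by
    have n1 := J.det_gram_ne hp (toSQ hQ) hu i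
    have n2 := J'.det_gram_ne hp (toSQ hQ') hu' i
    rcases i.even_or_odd with hi | hi
    · exact alt_congr (J.gram_alt' hp hu f2 (fun _ _ => polar_comm _ _ _) hi)
        (J'.gram_alt' hp hu' f2 (fun _ _ => polar_comm _ _ _) hi) n1 n2
    have := (Nat.Odd.sub_odd hi odd_one).neg_one_pow (α := F)
    exact sym_congr f2 (Matrix.IsSymm.ext fun k l => (J.gram_symm hp hu (ofQuad Q).symm i l k).trans
      (by simp [this, quadType]; rfl)) (Matrix.IsSymm.ext fun k l => (J'.gram_symm hp hu' (ofQuad Q').symm i l k).trans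
      (by simp [this, quadType])) n1 n2 ((e i hi).trans (e' i hi).symm)
  exact ⟨f, ⟨f3, fun x => mul_left_cancel₀ f2 (by simpa [toSQ, polar_self] using f3 x x)⟩, f1⟩

theorem exists_uo (h : IsNilpotent (u - 1)) : ∃ x, UO Q u x ∧ VU x := by
  classical
  obtain ⟨k, hk⟩ := h
  obtain ⟨μ, a1, a2⟩ := exists_nType hk
  obtain ⟨J⟩ := NType.jb ((exists_fin_map μ).choose_spec.symm ▸ a2 :
    NType (u - 1) (univ.val.map (exists_fin_map μ).choose))
  have hp := pos_fin fun k hk => (a1 k hk).1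
  have hc : ∀ i, Fintype.card (Bk (exists_fin_map μ).choose i) = μ.count i := fun i => by
    rw [card_Bk_count, (exists_fin_map μ).choose_spec]
  refine ⟨(μ, μ.toFinset.filter fun i => Odd i ∧ qsign (J.gram (ofQuad Q).B i).det = -1), ⟨J, fun i hi => ?_⟩,
    fun k hk => (a1 k hk).1, fun i hi => hc i ▸ even_of_alt (J.gram_alt' hp hu f2 (fun _ _ => polar_comm _ _ _) hi)
      (J.det_gram_ne hp (toSQ hQ) hu i), fun i hi => by simp at hi; exact ⟨hi.2.1, hi.1⟩⟩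
  split_ifs with h
  · exact (mem_filter.1 h).2.2
  by_cases h' : i ∈ μ
  · exact (Int.units_eq_one_or _).resolve_right fun e => h (mem_filter.2 ⟨Multiset.mem_toFinset.2 h', hi, e⟩)
  · have : IsEmpty (Bk _ i) := Fintype.card_eq_zero_iff.1 ((hc i).trans (by simpa using h'))
    simp

omit f2 hQ hu

/-- similarity of isometries -/
abbrev FS (g : orth Q) (g' : orth Q') : Prop := FSim (ofQuad Q) (g.1 : End F V) (ofQuad Q') (g'.1 : End F W)
/-- the negative -/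
abbrev ng (g : orth Q) : orth Q := H12.negOne Q * g

section
variable {X Y : Type*} [AddCommGroup X] [Module F X] [AddCommGroup Y] [Module F Y] {P : QuadraticForm F X}
  {P' : QuadraticForm F Y} {g : orth Q} {g' : orth Q'} {k : orth P} {k' : orth P'}
theorem FS.of (e : V ≃ₗ[F] W) (h : ∀ x, Q' (e x) = Q x) (h' : ∀ x, e (g.1 x) = g'.1 (e x)) : FS g g' :=
  ⟨e, quad_isIsomTo (e : V →ₗ[F] W) h, h'⟩
theorem FS.symm (h : FS g g') : FS g' g :=
  let ⟨e, a, b⟩ := h; .of e.symm (fun x => by simpa using (a.2 (e.symm x)).symm) fun x => by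
    simpa [LinearEquiv.symm_apply_eq] using (b (e.symm x)).symm
theorem FS.trans (h : FS g g') (h' : FS g' k) : FS g k :=
  let ⟨e, a, b⟩ := h; let ⟨e', a', b'⟩ := h'
  ⟨e.trans e', ⟨fun x y => (a'.1 _ _).trans (a.1 x y), fun x => (a'.2 _).trans (a.2 x)⟩, fun x =>
    (congrArg e' (b x)).trans (b' _)⟩
theorem FS.sum (h : FS g g') (h' : FS k k') : FS (sumH _ _ (g, k)) (sumH _ _ (g', k')) :=
  let ⟨e, a, b⟩ := h; let ⟨e', a', b'⟩ := h'
  ⟨e.prodCongr e', ⟨fun x y => by simpa using congrArg₂ (· + ·) (a.1 x.1 y.1) (a'.1 x.2 y.2),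
    fun x => congrArg₂ (· + ·) (a.2 x.1) (a'.2 x.2)⟩, fun x => Prod.ext (b _) (b' _)⟩
theorem FS.neg (h : FS g g') : FS (ng g) (ng g') :=
  let ⟨e, a, b⟩ := h; ⟨e, a, fun x => (map_neg e _).trans (congrArg (- ·) (b x))⟩
theorem ng_ng (g : orth Q) : ng (ng g) = g := orth_ext fun _ => neg_neg _
end

variable (F) in
/-- an orthogonal space with an isometry -/
structure OS where
  m : ℕ
  Q : QuadraticForm F (Fin m → F)
  nd : QNondeg Q
  g : orth Q

theorem exists_os (hQ : QNondeg Q) (g : orth Q) : ∃ A : OS F, FS g A.g :=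
  let e := (finBasis F V).equivFun
  have i : (ofQuad Q).Iso (ofQuad (Q.comp e.symm.toLinearMap)) := quad_iso_iff.2 ⟨e, by simp⟩
  let ⟨g', hg⟩ := exists_fsim (i.nondeg hQ) i g; ⟨⟨_, _, i.nondeg hQ, g'⟩, hg⟩

theorem split_at (hQ : QNondeg Q) (g : orth Q) {U : Submodule F V} (nd : (ofQuad Q).NondegOn U)
    (u1 : ∀ x ∈ U, (g.1 : End F V) x ∈ U) (u2 : ∀ x ∈ (ofQuad Q).perp U, (g.1 : End F V) x ∈ (ofQuad Q).perp U) :
    ∃ A B : OS F, FS (sumH _ _ (A.g, B.g)) g ∧ Sim ((g.1 : End F V).restrict u1) A.g.1.toLinearMap ∧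
      Sim ((g.1 : End F V).restrict u2) B.g.1.toLinearMap := by
  have r : ∀ X : Submodule F V, (ofQuad Q).NondegOn X → (hX : ∀ x ∈ X, (g.1 : End F V) x ∈ X) → ∃ (A : OS F)
      (e : X ≃ₗ[F] _), (∀ x, A.Q (e x) = Q x) ∧ ∀ x, e ((g.1 : End F V).restrict hX x) = A.g.1 (e x) := fun X h1 h2 => by
    have h3 : QNondeg (Q.comp X.subtype) := (restrict_nondeg_iff _).2 h1
    obtain ⟨e, he, h4⟩ := h3.exists_isom ((g.1 : End F V).restrict h2) (quad_isIsomTo _ fun x => orth_Q g x)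
    obtain ⟨A, f, a, b⟩ := exists_os h3 ⟨e, he⟩
    exact ⟨A, f, a.2, fun x => h4 x ▸ b x⟩
  obtain ⟨A, e, a, b⟩ := r _ nd u1
  obtain ⟨B, e', a', b'⟩ := r _ (hQ.nondegOn_perp nd) u2
  refine ⟨A, B, .symm (.of ((Submodule.prodEquivOfIsCompl _ _ (hQ.isCompl_perp nd)).symm.trans (e.prodCongr e'))
    (fun x => ?_) fun x => ?_), ⟨e, b⟩, ⟨e', b'⟩⟩ <;> obtain ⟨x, y, rfl⟩ := exists_add_of_isCompl (hQ.isCompl_perp nd) x
  · simpa [a, a'] using ((ofQuad Q).N_add_of_orth (y.2 _ x.2)).symm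
  · have := map_add (Submodule.prodEquivOfIsCompl _ _ (hQ.isCompl_perp nd)).symm ((g.1 : End F V).restrict u1 x).1
      ((g.1 : End F V).restrict u2 y).1
    simp only [Submodule.prodEquivOfIsCompl_symm_apply_left, Submodule.prodEquivOfIsCompl_symm_apply_right] at this
    rw [map_add g.1, LinearEquiv.trans_apply]
    refine (congrArg _ this).trans ?_
    simp [sumH_apply, b, b']

theorem fit (hQ : QNondeg Q) (g : orth Q) : ∃ A B : OS F, FS (sumH _ _ (A.g, B.g)) g ∧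
    IsNilpotent (A.g.1.toLinearMap - 1) ∧ ∀ x, B.g.1 x = x → x = 0 := by
  obtain ⟨U, a1, a2, a3, ⟨k, a4⟩, a5⟩ := exists_fit (u := (g.1 : End F V)) hQ g.2
  obtain ⟨A, B, h, ⟨e, h1⟩, e', h2⟩ := split_at hQ g a3 a1 a2
  refine ⟨A, B, h, ⟨k, LinearMap.ext fun x => ?_⟩, fun x hx => ?_⟩
  · obtain ⟨x, rfl⟩ := e.surjective x
    exact (pow_intertw (φ := e.toLinearMap) (N := (g.1 : End F V).restrict a1 - 1) (fun x => by simp [h1]) k x).symm.trans (by simp [a4])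
  · obtain ⟨x, rfl⟩ := e'.surjective x
    rw [show x = 0 from Subtype.ext (a5 x x.2 (congrArg Subtype.val (e'.injective ((h2 x).trans hx)))), map_zero]

/-- class data -/
abbrev Z (K : Type*) := Multiset (K × ℕ) × (Multiset ℕ × Finset ℕ) × (Multiset ℕ × Finset ℕ)
/-- the class invariants of an isometry -/
def Dt (g : orth Q) (z : Z K) : Prop := ∃ A B C : OS F, JD A.g.1.toLinearMap z.1 ∧ UO B.Q B.g.1 z.2.1 ∧
  UO C.Q C.g.1 z.2.2 ∧ FS (sumH _ _ (B.g, ng (sumH _ _ (C.g, A.g)))) g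
variable (F) in
/-- admissible data -/
def VZ (n : ℕ) (z : Z K) : Prop := (Sy (Nat.card F : ℕ) z.1 ∧ ∀ x ∈ z.1, x.1 ^ 2 ≠ 1) ∧ VU z.2.1 ∧ VU z.2.2 ∧
  dimD z.1 + (z.2.1.1.sum + z.2.2.1.sum) = n

variable [Algebra.IsAlgebraic F K] {g : orth Q} {g' : orth Q'} {z z' : Z K} {n n' : ℕ}
theorem reg_fs {D : Multiset (K × ℕ)} (hQ : QNondeg Q) (hQ' : QNondeg Q') (h : JD (g.1 : End F V) D)
    (h' : JD (g'.1 : End F W) D) (h1 : ∀ x ∈ D, x.1 ^ 2 ≠ 1) : FS g g' := by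
  have := LinearMap.ker_eq_bot.1 (h.inj (Polynomial.X_pow_sub_C_ne_zero two_pos 1) fun x hx => by
    simpa [sub_eq_zero] using h1 x hx)
  rw [map_sub, map_pow, Polynomial.aeval_X, Polynomial.aeval_C, map_one, pow_two] at this
  exact fsim_of_sim hQ hQ' g.2 g'.2 (h.sim h') (.inr this) (.inr (.inr ⟨rfl, this⟩))

include f2
theorem Dt.fs (h : Dt g z) (h' : Dt g' z) (v : VZ F n z) : FS g g' := by
  obtain ⟨A, B, C, a, b, c, d⟩ := h
  obtain ⟨A', B', C', a', b', c', d'⟩ := h'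
  exact (d.symm.trans (FS.sum (b.fsim f2 B.nd B.g.2.1 B'.nd B'.g.2.1 v.2.1 b') (FS.sum (c.fsim f2 C.nd C.g.2.1 C'.nd C'.g.2.1
    v.2.2.1 c') (reg_fs A.nd A'.nd a a' v.1.2)).neg)).trans d'

theorem Dt.dq (h : Dt g z) (h' : Dt g' z') (v : VZ F n z) (v' : VZ F n' z') (e : z.1 = z'.1) (e1 : z.2.1.1 = z'.2.1.1)
    (e2 : z.2.2.1 = z'.2.2.1) : dq Q' * ((-1) ^ #z'.2.1.2 * (-1) ^ #z'.2.2.2) = dq Q * ((-1) ^ #z.2.1.2 * (-1) ^ #z.2.2.2) := by
  obtain ⟨A, B, C, a, b, c, d⟩ := h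
  obtain ⟨A', B', C', a', b', c', d'⟩ := h'
  rw [← (fsim_inv f2 (prod_nd B.nd (prod_nd C.nd A.nd)) d).1, ← (fsim_inv f2 (prod_nd B'.nd (prod_nd C'.nd A'.nd)) d').1,
    (sum_inv f2 B.nd (prod_nd C.nd A.nd) 1 1).1, (sum_inv f2 B'.nd (prod_nd C'.nd A'.nd) 1 1).1, (sum_inv f2 C.nd A.nd 1 1).1,
    (sum_inv f2 C'.nd A'.nd 1 1).1, (fsim_inv f2 A.nd (reg_fs A.nd A'.nd a (e ▸ a') v.1.2)).1, mul_mul_mul_comm,
    mul_mul_mul_comm (Sp.dq B.Q), mul_right_comm (Sp.dq C'.Q), mul_right_comm (Sp.dq C.Q),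
    b.dq b' v.2.1 v'.2.1 e1 B.nd B'.nd B.g.2.1 B'.g.2.1, c.dq c' v.2.2.1 v'.2.2.1 e2 C.nd C'.nd C.g.2.1 C'.g.2.1]

theorem exists_dt [IsAlgClosed K] (hQ : QNondeg Q) (g : orth Q) : ∃ z : Z K, Dt g z ∧ VZ F (finrank F V) z := by
  obtain ⟨B, E, h1, b1, b2⟩ := fit hQ g
  obtain ⟨C, A, h2, c1, c2⟩ := fit E.nd (ng E.g)
  obtain ⟨x, x1, x2⟩ := exists_uo f2 B.nd B.g.2.1 b1
  obtain ⟨y, y1, y2⟩ := exists_uo f2 C.nd C.g.2.1 c1
  obtain ⟨D, hD⟩ := exists_jd (K := K) A.g.1.toLinearMap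
  have h3 := (FS.sum (.of (.refl F _) (fun _ => rfl) fun _ => rfl) (ng_ng E.g ▸ h2.neg :)).trans h1
  refine ⟨(D, x, y), ⟨A, B, C, hD, x1, y1, h3⟩, ⟨(Rl.of A.nd A.g.2 hD).sy', sq_ne hD (inj_sq c2 fun v hv => ?_)⟩, x2, y2, ?_⟩
  · obtain ⟨e, -, h⟩ := h2
    have := h (0, v)
    rw [show (sumH C.Q A.Q (C.g, A.g)).1.toLinearMap (0, v) = -(0, v) from Prod.ext (by simp [sumH_apply]) hv, map_neg] at this
    exact congrArg Prod.snd (e.map_eq_zero_iff.1 (b2 _ (neg_injective this).symm))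
  · obtain ⟨e, -⟩ := h3
    rw [← e.finrank_eq, finrank_prod, finrank_prod, x1.dim, y1.dim, hD.dim]; ring

end H27.CN
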