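import Cfsg.Agent.H27.CN7

/-! Counting class data of orthogonal groups. -/

set_option autoImplicit false
set_option linter.unusedSectionVars false

namespace H27.CN

open Module Finset Function H22 H27.Sp H11 H12 H12.CForm PowerSeries

theorem par {f : ℝ⟦X⟧} {P : Polynomial ℝ} {a q w : ℝ} (hq : 0 < q) (hw : 0 < w) (h : 1 ≤ q * w ^ 2) (ha : 0 ≤ a)
    (h1 : ∀ j, coeff (2 * j) f ≤ a * q ^ j) (h2 : ∀ j, Odd j → coeff j f = 0) (hP : NN (P : ℝ⟦X⟧)) (m : ℕ) :
    coeff m (f * (P : ℝ⟦X⟧)) * (2 * w ^ (m % 2)) ≤ a * q ^ (m / 2) * (P.eval w + (-1) ^ m * P.eval (-w)) := by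
  simp only [NN, Polynomial.coeff_coe] at hP
  have k : ∀ j, 0 ≤ P.coeff j * w ^ j + (-1) ^ m * (P.coeff j * (-w) ^ j) := fun j => by
    rw [neg_pow w, mul_left_comm, ← mul_assoc ((-1) ^ m), ← pow_add, ← mul_add, ← one_add_mul]
    exact mul_nonneg (hP j) (mul_nonneg (by rcases neg_one_pow_eq_or ℝ (m + j) with h | h <;> simp [h]) (by positivity))
  rw [coeff_mul, ← Nat.sum_antidiagonal_swap, Nat.sum_antidiagonal_eq_sum_range_succ_mk, sum_mul,
    Polynomial.eval_eq_sum_range' (n := m + 1 + P.natDegree) (by omega),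
    Polynomial.eval_eq_sum_range' (n := m + 1 + P.natDegree) (by omega), mul_sum, ← sum_add_distrib, mul_sum]
  refine (sum_le_sum fun j hj => ?_).trans (sum_le_sum_of_subset_of_nonneg (range_mono le_self_add) fun j _ _ =>
    mul_nonneg (by positivity) (k j))
  obtain ⟨i, rfl⟩ := Nat.exists_eq_add_of_le (Nat.lt_succ_iff.1 (mem_range.1 hj))
  simp only [Prod.fst_swap, Prod.snd_swap, Nat.add_sub_cancel_left, Polynomial.coeff_coe]
  obtain ⟨i, rfl | rfl⟩ := i.even_or_odd'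
  swap; · rw [h2 _ ⟨i, rfl⟩, zero_mul, zero_mul]; exact mul_nonneg (by positivity) (k j)
  rw [neg_pow w, mul_left_comm ((-1) ^ _), ← mul_assoc ((-1) ^ _), ← pow_add, Even.neg_one_pow ⟨j + i, by ring⟩, one_mul,
    Nat.add_mul_mod_self_left, Nat.add_mul_div_left _ _ two_pos, pow_add]
  have e : w ^ j = (w ^ 2) ^ (j / 2) * w ^ (j % 2) := by rw [← pow_mul, ← pow_add, Nat.div_add_mod]
  have := mul_le_mul_of_nonneg_left (one_le_pow₀ (n := j / 2) h) (show 0 ≤ a * q ^ i * P.coeff j * (2 * w ^ (j % 2)) by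
    have := hP j; positivity)
  refine (mul_le_mul_of_nonneg_right (mul_le_mul_of_nonneg_right (h1 i) (hP j)) (by positivity)).trans ?_
  rw [e]; rw [mul_pow] at this; linarith

/-- odd numbers -/
abbrev Od (M : ℕ) : Finset ℕ := {k ∈ Icc 1 M | Odd k}

theorem o_le {q : ℝ} {E : ℕ → ℝ⟦X⟧} (hq : 3 ≤ q) (hn : ∀ k, NN (E k)) (ho : ∀ k j, Odd j → coeff j (E k) = 0)
    (hE : ∀ k, 0 < k → (1 - C q * X ^ (2 * k)) * E k = 1) {M : ℕ} (hM : 13 ≤ M) (n : ℕ) :
    coeff (2 * n) (∏ k ∈ Icc 1 M, E k) ≤ 1.79 * q ^ n ∧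
    coeff (2 * n) ((∏ k ∈ Icc 1 M, E k) * (∏ k ∈ Od M, (1 + X ^ k)) ^ 4) ≤ 16.5 * q ^ n ∧
    coeff (2 * n + 1) ((∏ k ∈ Icc 1 M, E k) * (∏ k ∈ Od M, (1 + X ^ k)) ^ 4) ≤ 28.5 * q ^ n ∧
    coeff (2 * n + 1) ((∏ k ∈ Icc 2 M, E k) * (∏ k ∈ Od M, (1 + X ^ k)) ^ 2) ≤ 3.8 * q ^ n := by
  obtain ⟨s, s0, rfl⟩ : ∃ s, 0 < s ∧ q = s ^ 2 := ⟨√q, by positivity, (Real.sq_sqrt (by linarith)).symm⟩
  have z1 : s ^ 2 * s⁻¹ ^ 2 = 1 := by field_simp
  have z2 : s⁻¹ ^ 2 ≤ 1 / 3 := by nlinarith [sq_nonneg s⁻¹]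
  have h1 : ∀ m, coeff m (E 1) ≤ 1 * s ^ m := fun m => by
    induction m using Nat.strong_induction_on with
    | _ m ih =>
      have := (coeff_rec (s ^ 2) (2 * 1) m (E 1)).symm.trans (congrArg _ (hE 1 one_pos))
      rcases m with _ | _ | m
      · simpa using this.le
      · simpa using this.le.trans (by simp [s0.le])
      · have h := mul_le_mul_of_nonneg_left (ih m (by omega)) (sq_nonneg s)
        simp [coeff_one] at this; rw [pow_succ, pow_succ]; linarith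
  have h2 : Bd (∏ k ∈ Icc 2 M, E k) s⁻¹ 1.79 := (bd_prod (c := fun k => (1 + (s⁻¹ ^ 2) ^ 0) ^ 0 / (1 - (s⁻¹ ^ 2) ^ (k - 1)))
    (fun k _ => hn k) (fun k hk => by
      obtain ⟨j, rfl⟩ : ∃ j, k = j + 2 := ⟨k - 2, by simp at hk; omega⟩
      have e : s ^ 2 * s⁻¹ ^ (2 * (j + 2)) = (s⁻¹ ^ 2) ^ (j + 1) := by
        rw [pow_mul, pow_succ' _ (j + 1), ← mul_assoc, z1, one_mul]
      have := bd_div (R := 1) (by simpa using hE (j + 2) (by omega)) (hn _) (x := s⁻¹) (by positivity) (by linarith)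
        (e ▸ pow_lt_one₀ (sq_nonneg _) (by linarith) (by omega))
      rw [e] at this; simpa using this) (by positivity)).mono (by
    have := fun k (hk : k ∈ Icc 2 M) => fac_le (sq_nonneg _) z2 (by norm_num) 0 0 (c := k - 1) (by simp at hk; omega)
    refine (prod_le_prod (fun k hk => (this k hk).1) fun k hk => (this k hk).2).trans ?_
    have := tele (F := fun k => (1 + (1 / 3 : ℝ) ^ 0) ^ 0 / (1 - (1 / 3) ^ (k - 1))) (a := 2) (N₀ := 6)
      (b := fun N => 1.79 * (1 - 2 * (1 / 3) ^ N)) (by omega) (by norm_num [prod_Icc_succ_top]) (fun N h => by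
        have := pow_lt_one₀ (a := (1 / 3 : ℝ)) (by norm_num) (by norm_num) (show N ≠ 0 by omega)
        refine ⟨div_nonneg (by positivity) (by simpa using this.le), ?_⟩
        rw [Nat.add_sub_cancel, ← mul_div_assoc, div_le_iff₀ (by linarith), pow_zero, pow_succ (1 / 3 : ℝ)]
        have : (0 : ℝ) ≤ (1 / 3) ^ N := by positivity
        generalize (1 / _ : ℝ) ^ N = y at *; nlinarith [sq_nonneg y]) (show 6 ≤ M by omega)
    have : (0 : ℝ) ≤ (1 / 3) ^ M := by positivity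
    linarith)
  have n2 := nn_prod (S := Icc 2 M) fun k _ => hn k
  have h3 : ∀ j, coeff (2 * j) (∏ k ∈ Icc 1 M, E k) ≤ 1.79 * (s ^ 2) ^ j := fun j => by
    rw [← insert_Icc_add_one_left_eq_Icc (by omega), prod_insert (by simp), ← pow_mul]
    simpa using le_of_bd s0 zero_le_one h1 n2 h2
  have h4 : ∀ j, coeff (2 * j) (∏ k ∈ Icc 2 M, E k) ≤ 1 * (s ^ 2) ^ j := fun j => by
    have e : coeff 0 (∏ k ∈ Icc 2 M, E k) = 1 := by
      rw [coeff_zero_eq_constantCoeff, map_prod]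
      exact prod_eq_one fun k hk => by
        simpa [show k ≠ 0 by simp at hk; omega] using congrArg constantCoeff (hE k (by simp at hk; omega))
    rcases j with _ | j
    · simpa using e.le
    have := (sum_le_sum_of_subset_of_nonneg (s := {0, 2 * (j + 1)}) (by simp [insert_subset_iff])
      fun i _ _ => mul_nonneg (n2 i) (by positivity)).trans (h2 (2 * (j + 1) + 1))
    rw [sum_pair (by omega), e, inv_pow s (2 * _), ← div_eq_mul_inv, pow_mul] at this
    rw [← div_le_iff₀ (by positivity)]; norm_num at this ⊢; linarith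
  have h5 : ∀ a j, Odd j → coeff j (∏ k ∈ Icc a M, E k) = 0 := fun a => prod_induction _ (fun f : ℝ⟦X⟧ => ∀ j, Odd j →
    coeff j f = 0) (fun f g hf hg j hj => by
      rw [coeff_mul]
      exact sum_eq_zero fun p hp => by
        rcases Nat.even_or_odd p.1 with h | h
        · rw [hg _ ((Nat.odd_add'.1 (mem_antidiagonal.1 hp ▸ hj :)).2 h), mul_zero]
        · rw [hf _ h, zero_mul]) (fun j hj => by rw [coeff_one, if_neg hj.pos.ne']) fun k _ => ho k
  let P : Polynomial ℝ := ∏ k ∈ Od M, (1 + .X ^ k)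
  have e : ∀ r, (∏ k ∈ Od M, (1 + X ^ k : ℝ⟦X⟧)) ^ r = (P ^ r : Polynomial ℝ) := fun r => by
    simp only [P, ← Polynomial.coeToPowerSeries.ringHom_apply, map_prod, map_pow, map_add, map_one]
    simp
  have nP : ∀ r, NN (P ^ r : Polynomial ℝ) := fun r => by
    simpa [← e] using nn_prod (S := range r) (E := fun _ => ∏ k ∈ Od M, (1 + .X ^ k)) fun _ _ => (gf_sub _).2 ▸ nn_gf _
  have a1 : P.eval 0.5774 ≤ 2.07 ∧ 0 ≤ P.eval 0.5774 := by
    simp only [P, Polynomial.eval_prod, Polynomial.eval_add, Polynomial.eval_one, Polynomial.eval_pow, Polynomial.eval_X]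
    refine ⟨?_, by positivity⟩
    have := tele (F := fun k => if Odd k then 1 + (0.5774 : ℝ) ^ k else 1) (a := 1) (N₀ := 13)
      (b := fun N => 2.07 * (1 - 2.4 * 0.5774 ^ (N + 1))) (by omega) (by
        simp only [prod_Icc_succ_top, Nat.odd_iff, Nat.reduceLeDiff]; norm_num) (fun N h => by
        have : (0 : ℝ) ≤ 0.5774 ^ (N + 1) := by positivity
        rw [pow_succ _ (N + 1)]
        generalize (0.5774 : ℝ) ^ (N + 1) = y at *
        split_ifs <;> exact ⟨by positivity, by nlinarith⟩) hM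
    have : (0 : ℝ) ≤ 0.5774 ^ (M + 1) := by positivity
    rw [prod_filter]; linarith
  have a2 : P.eval (-0.5774) ≤ 0.5 ∧ 0 ≤ P.eval (-0.5774) := by
    simp only [P, Polynomial.eval_prod, Polynomial.eval_add, Polynomial.eval_one, Polynomial.eval_pow, Polynomial.eval_X]
    have : ∀ k ∈ Od M, 0 ≤ 1 + (-0.5774 : ℝ) ^ k ∧ 1 + (-0.5774 : ℝ) ^ k ≤ 1 := fun k hk => by
      rw [(mem_filter.1 hk).2.neg_pow]
      have := pow_le_one₀ (a := (0.5774 : ℝ)) (n := k) (by norm_num) (by norm_num)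
      have : (0 : ℝ) ≤ 0.5774 ^ k := by positivity
      constructor <;> linarith
    refine ⟨?_, prod_nonneg fun k hk => (this k hk).1⟩
    rw [← mul_prod_erase _ _ (a := 1) (by simp; omega)]
    have := prod_le_one (fun k hk => (this k (mem_of_mem_erase (a := 1) hk)).1) fun k hk => (this k (mem_of_mem_erase hk)).2
    norm_num at this ⊢; linarith
  have b1 := fun m => par (w := 0.5774) (by positivity) (by norm_num) (by nlinarith) (by norm_num) h3 (h5 1) (nP 4) m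
  have b2 := par (w := 0.5774) (by positivity) (by norm_num) (by nlinarith) (by norm_num) h4 (h5 2) (nP 2) (2 * n + 1)
  have b3 := b1 (2 * n)
  have b4 := b1 (2 * n + 1)
  have c : 0 ≤ (s ^ 2) ^ n := by positivity
  have := mul_le_mul_of_nonneg_left (pow_le_pow_left₀ a1.2 a1.1 4) c
  have := mul_le_mul_of_nonneg_left (pow_le_pow_left₀ a1.2 a1.1 2) c
  have := mul_le_mul_of_nonneg_left (pow_le_pow_left₀ a2.2 a2.1 4) c
  have := mul_nonneg c (pow_nonneg a2.2 4)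
  have := mul_nonneg c (pow_nonneg a2.2 2)
  simp only [Polynomial.eval_pow, Nat.mul_mod_right, Nat.mul_add_mod, (even_two_mul n).neg_one_pow, (odd_two_mul_add_one n).neg_one_pow,
    show (2 * n + 1) / 2 = n by omega, show 2 * n / 2 = n by omega] at b2 b3 b4
  rw [e, e]
  refine ⟨h3 n, ?_, ?_, ?_⟩ <;> simp only [Nat.one_mod, pow_one, pow_zero] at * <;> linarith

variable {F K : Type*} [Field F] [Field K] [Algebra F K] [Finite F] [Algebra.IsAlgebraic F K] [IsAlgClosed K]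
  (f2 : (2 : F) ≠ 0)

theorem VU.enc {x : Multiset ℕ × Finset ℕ} (h : VU x) : ∃ (ν : Multiset ℕ) (a : Finset ℕ), ν + ν + a.1 + x.2.1 = x.1 ∧
    ∀ i ∈ a, Odd i := by
  obtain ⟨μ, c⟩ := x
  let b := (μ - c.1).toFinset.filter fun i => Odd ((μ - c.1).count i)
  obtain ⟨ν, hν⟩ := (μ - c.1 - b.1).exists_smul_of_dvd_count (k := 2) fun i hi => by
    rw [Multiset.count_sub, Multiset.count_eq_of_nodup b.2]
    split_ifs with h
    · exact even_iff_two_dvd.1 ((mem_filter.1 h).2.tsub_odd odd_one)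
    · simpa [b, Multiset.mem_of_le (Multiset.sub_le_self _ _) hi, even_iff_two_dvd] using h
  refine ⟨ν, b, ?_, fun i hi => by_contra fun H => ?_⟩
  · rw [← two_nsmul, ← hν, tsub_add_cancel_of_le ((val_le_iff.2 (filter_subset _ _)).trans (Multiset.dedup_le _)),
      tsub_add_cancel_of_le ((Multiset.le_iff_subset c.2).2 fun i hi => (h.2.2 i hi).2)]
  · have h1 := (mem_filter.1 hi).2
    rw [Multiset.count_sub, Multiset.count_eq_zero (s := c.1).2 fun e => H (h.2.2 i e).1] at h1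
    exact Nat.not_even_iff_odd.2 h1 (h.2.1 i (Nat.not_odd_iff_even.1 H))

variable (F) in
/-- admissible data with restricted parts -/
def VL (L A B : Finset ℕ) (n : ℕ) (z : Z K) : Prop := VZ F n z ∧ (∀ x ∈ z.1, x.2 ∈ L) ∧ ∀ x ∈ [z.2.1, z.2.2],
  x.2 ⊆ B ∧ (∀ k ∈ x.1, Odd k → k ∈ A) ∧ ∀ k, 2 ≤ x.1.count k → k ∈ L
variable (F K) in
/-- level generating function -/
noncomputable def pE (k : ℕ) : ℝ⟦X⟧ := gf fun E : {E : Multiset K // Pal F E} => k * E.1.card

include f2 in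
theorem card_vl {L A B : Finset ℕ} (hL : 0 ∉ L) (n : ℕ) : Finite {z : Z K // VL F L A B n z} ∧
    (Nat.card {z : Z K // VL F L A B n z} : ℝ) ≤ coeff n ((∏ k ∈ L, pE F K k) * ((∏ k ∈ A, (1 + X ^ k)) ^ 2 *
      (∏ k ∈ B, (1 + X ^ k)) ^ 2)) := by
  classical
  have h3 := gf_lv (c := fun _ => Pal (K := K) F) (by simp [Pal]) Prod.snd L
    fun k hk => by simpa [mul_comm] using (gf_mul gf_pal.1 (show k ≠ 0 from fun e => hL (e ▸ hk))).1
  have h5 := gf_prod (gf_sub A).1 (gf_sub B).1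
  have h6 := gf_prod h5.1 h5.1
  have h8 := gf_prod h3.1 h6.1
  rw [h6.2, h5.2, (gf_sub A).2, (gf_sub B).2, h3.2] at h8
  simp only [Multiset.map_const', Multiset.sum_replicate, smul_eq_mul, mul_comm (Multiset.card _)] at h8
  rw [← mul_pow, pow_two]
  simp only [pE]
  rw [← h8.2, coeff_gf, Nat.cast_le]
  have := h8.1 n
  have k2 : (-1 : K) ≠ 1 := fun e => (_root_.map_ne_zero (algebraMap F K)).2 f2 (by
    rw [map_ofNat]; linear_combination -e)
  choose ν a e ha using fun z : {z : Z K // VL F L A B n z} => z.2.1.2.1.enc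
  choose ν' c e' hc using fun z : {z : Z K // VL F L A B n z} => z.2.1.2.2.1.enc
  have k : ∀ {ν : Multiset ℕ} {a} {x : Multiset ℕ × Finset ℕ}, ν + ν + a.1 + x.2.1 = x.1 → (∀ i ∈ a, Odd i) →
      (x.2 ⊆ B ∧ (∀ k ∈ x.1, Odd k → k ∈ A) ∧ ∀ k, 2 ≤ x.1.count k → k ∈ L) → (a ∈ A.powerset ∧ x.2 ∈ B.powerset) ∧
      ∀ k ∈ ν, k ∈ L := fun e h h' => ⟨⟨mem_powerset.2 fun i hi => h'.2.1 i (by simp [← e, hi]) (h i hi),
        mem_powerset.2 h'.1⟩, fun k hk => h'.2.2 k (by have := Multiset.count_pos.2 hk; simp [← e]; omega)⟩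
  have k1 := fun z => k (e z) (ha z) (z.2.2.2 _ (by simp))
  have k3 := fun z => k (e' z) (hc z) (z.2.2.2 _ (by simp))
  refine and_comm.1 ((fun (⟨f, h⟩ : ∃ f, Injective f) => ⟨Nat.card_le_card_of_injective f h, .of_injective f h⟩) ⟨fun z =>
    ⟨(⟨z.1.1 + (ν z + ν z).map (1, ·) + (ν' z + ν' z).map (-1, ·), fun k => ?_, ?_⟩, (⟨_, (k1 z).1.1⟩, ⟨_, (k1 z).1.2⟩),
    (⟨_, (k3 z).1.1⟩, ⟨_, (k3 z).1.2⟩)), ?_⟩, fun z z' h => ?_⟩)
  · rw [lv_add, lv_add]
    exact ((pal_lv z.2.1.1.1 z.2.1.1.2 k).add (by simpa using pal_two (K := K) (1 : F) (by simp) _ k)).add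
      (by simpa using pal_two (K := K) (-1 : F) (by simp) _ k)
  · simpa [or_imp, forall_and] using ⟨⟨fun _ _ => z.2.2.1 _, (k1 z).2⟩, (k3 z).2⟩
  · have := z.2.1.2.2.2
    rw [← e, ← e'] at this
    change dimD _ + _ = _
    simp only [dimD_add] at *
    simp [dimD] at *; omega
  replace h := congrArg (fun x => (x.1.1.1, x.1.2.1.1.1, x.1.2.1.2.1, x.1.2.2.1.1, x.1.2.2.2.1)) h
  simp only [Prod.mk.injEq] at h
  have g4 : ∀ (z : {z : Z K // VL F L A B n z}) (c : K), c ^ 2 = 1 → z.1.1.filter (·.1 = c) = 0 := fun z c h =>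
    Multiset.filter_eq_nil.2 fun x hx e => z.2.1.1.2 x hx (e ▸ h)
  have b1 := congrArg (fun D => (D.filter (·.1 = 1)).map Prod.snd) h.1
  have b2 := congrArg (fun D => (D.filter (·.1 = -1)).map Prod.snd) h.1
  simp [g4, Multiset.filter_map, k2, k2.symm, -Multiset.map_add] at b1 b2
  exact Subtype.ext (Prod.ext (by simpa [b1, b2, -Multiset.map_add] using h.1) (Prod.ext (Prod.ext (by
    rw [← e, ← e, b1, h.2.1, h.2.2.1]) h.2.2.1) (Prod.ext (by rw [← e', ← e', b2, h.2.2.2.1, h.2.2.2.2]) h.2.2.2.2)))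

theorem VZ.vl {n M : ℕ} {z : Z K} (h : VZ F n z) (hM : n ≤ M) : VL F (Icc 1 M) (Od M) (Od M) n z := by
  have := h.2.2.2
  have k : ∀ x : Multiset ℕ × Finset ℕ, VU x → x.1.sum ≤ M → x.2 ⊆ Od M ∧ (∀ k ∈ x.1, Odd k → k ∈ Od M) ∧
      ∀ k, 2 ≤ x.1.count k → k ∈ Icc 1 M := fun x h e =>
    have : ∀ k ∈ x.1, k ∈ Icc 1 M := fun k hk => mem_Icc.2 ⟨h.1 k hk, (Multiset.single_le_sum (by simp) k hk).trans e⟩
    ⟨fun i hi => mem_filter.2 ⟨this i (h.2.2 i hi).2, (h.2.2 i hi).1⟩, fun k a b => mem_filter.2 ⟨this k a, b⟩,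
      fun k hk => this k (Multiset.count_pos.1 (by omega))⟩
  exact ⟨h, fun x hx => mem_Icc.2 ⟨h.1.1.pos x hx, by have := le_dimD hx; omega⟩, 
    List.forall_mem_cons.2 ⟨k _ h.2.1 (by omega), List.forall_mem_singleton.2 (k _ h.2.2.1 (by omega))⟩⟩

include f2 in
theorem vl_le {M : ℕ} (hM : 13 ≤ M) (n : ℕ) :
    (Nat.card {z : Z K // VL F (Icc 1 M) ∅ ∅ (2 * n) z} : ℝ) ≤ 1.79 * Nat.card F ^ n ∧
    (Nat.card {z : Z K // VL F (Icc 1 M) (Od M) (Od M) (2 * n) z} : ℝ) ≤ 16.5 * Nat.card F ^ n ∧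
    (Nat.card {z : Z K // VL F (Icc 1 M) (Od M) (Od M) (2 * n + 1) z} : ℝ) ≤ 28.5 * Nat.card F ^ n ∧
    (Nat.card {z : Z K // VL F (Icc 2 M) (Od M) ∅ (2 * n + 1) z} : ℝ) ≤ 3.8 * Nat.card F ^ n := by
  have := Fintype.ofFinite F
  obtain ⟨a, b, c, d⟩ := o_le (q := Nat.card F) (E := pE F K) (by
      have := Fintype.one_lt_card (α := F)
      rw [Nat.card_eq_fintype_card]; obtain ⟨k, hk⟩ := odd_card_iff.2 f2; exact_mod_cast (by omega)) (fun k => nn_gf _)
    (fun k j hj => by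
      have : IsEmpty {E : {E : Multiset K // Pal F E} // k * E.1.card = j} :=
        ⟨fun E => Nat.not_even_iff_odd.2 hj (E.2 ▸ E.1.2.2.mul_left k)⟩
      rw [pE, coeff_gf]; simp) (fun k hk => by
      have := congrArg (expand k hk.ne') (gf_pal (F := F) (K := K)).2
      rw [pE, (gf_mul gf_pal.1 hk.ne').2]
      simpa [expand_C, ← pow_mul, mul_comm k] using this) hM n
  exact ⟨(card_vl f2 (by simp) _).2.trans (by simpa using a), (card_vl f2 (by simp) _).2.trans (by rwa [← pow_add]),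
    (card_vl f2 (by simp) _).2.trans (by rwa [← pow_add]), (card_vl f2 (by simp) _).2.trans (by simpa using d)⟩

end H27.CN
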