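import Cfsg.Agent.H27.CN8

/-! Class numbers of even-dimensional orthogonal groups. -/

set_option autoImplicit false
set_option linter.unusedSectionVars false

namespace H27.CN

open Module Finset Function Polynomial H22 H27.Sp H11 H12 H12.CForm

theorem card_cc {G H : Type*} [Group G] [Group H] (e : G ≃* H) : Nat.card (ConjClasses G) = Nat.card (ConjClasses H) :=
  Nat.card_congr (Quotient.congr e.toEquiv fun _ _ => ⟨fun h => e.toMonoidHom.map_isConj h, fun h => show IsConj _ _ by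
    simpa using e.symm.toMonoidHom.map_isConj h⟩)

variable {F K : Type*} [Field F] [Field K] [Algebra F K] [Finite F] [Algebra.IsAlgebraic F K] [IsAlgClosed K]
  {V : Type*} [AddCommGroup V] [Module F V] [FiniteDimensional F V] {Q : QuadraticForm F V} {D : Multiset (K × ℕ)}
  {δ s : ℤˣ} {n : ℕ} {f : F[X]}

/-- palindromic polynomials -/
def PP (n : ℕ) (f : F[X]) : Prop := (f.Monic ∧ f.natDegree = 2 * n) ∧ ∀ i j, i + j = 2 * n → f.coeff i = f.coeff j
theorem card_pp (n : ℕ) : Nat.card {f : F[X] // PP n f} = Nat.card F ^ n := by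
  rw [← card_pal, ← card_monic]
  refine Nat.card_congr (Equiv.subtypeEquivRight fun f => and_congr_right fun h => ?_)
  have h4 := h.2 ▸ h.1.coeff_natDegree
  refine ⟨fun k => ⟨fun i e => (k _ _ (by omega)).trans h4, fun i j => k i j⟩, fun k i j e => ?_⟩
  have h3 : f.coeff 0 = 1 := by
    rcases n with _ | n
    exacts [h4, k.1 ⟨0, by omega⟩ rfl]
  rcases eq_or_ne i 0 with rfl | hi
  · rw [h3, show j = 2 * n by omega, h4]
  rcases eq_or_ne j 0 with rfl | hj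
  · rw [h3, show i = 2 * n by omega, h4]
  exact k.2 ⟨i, by omega⟩ ⟨j, by omega⟩ e

theorem PP.sy (h : PP n f) : Sy (Nat.card F : ℕ) (ssd K f) ∧ dimD (ssd K f) = 2 * n ∧ detD (ssd K f) = 1 := by
  have h0 : f.coeff 0 = 1 := (h.2 _ _ (zero_add _)).trans (h.1.2 ▸ h.1.1.coeff_natDegree)
  obtain ⟨g, hg⟩ := exists_gl_ssd (K := K) h.1.2 (h0.trans_ne one_ne_zero)
  exact ⟨⟨hg.pre ((Group.isUnit g).map glE), (ssd_rev_iff (σ := RingHom.id F) (τ := RingHom.id K) (fun _ => rfl) h.1.1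
    (by simp [h0])).2 ((rev_iff h.1.2 _).2 (by simpa [h0] using h.2))⟩, (dimD_ssd f).trans h.1.2, by
    rw [← hg.det, det_iff.2 (by simp [hg.charpoly_ssd h.1.1, h0]), map_one]⟩

variable (f2 : (2 : F) ≠ 0)
include f2

theorem neg_fix : (-1 : K) ^ ((Nat.card F : ℕ) : ℤ) = -1 := by
  have := Fintype.ofFinite F
  exact Odd.neg_one_zpow (by simpa using odd_card_iff.2 f2)
theorem sgn_inj {x y : ℤˣ} (h : ((x : ℤ) : K) = (y : ℤ)) : x = y := by
  have k2 : (2 : K) ≠ 0 := by rw [← map_ofNat (algebraMap F K)]; exact (_root_.map_ne_zero _).2 f2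
  rcases Int.units_eq_one_or x with rfl | rfl <;> rcases Int.units_eq_one_or y with rfl | rfl <;> try rfl
  all_goals exact absurd (by push_cast at h; first | linear_combination h | linear_combination -h) k2

theorem quad_ss (h : Sy (Nat.card F : ℕ) D) (h1 : ∀ x ∈ D, x.2 = 1) : Rl (quadType F) D := by
  have hi : Injective fun x : K => x ^ ((Nat.card F : ℕ) : ℤ) := fr_eq_zpow (F := F) (K := K) ▸ fr_inj
  obtain ⟨A, E, rfl, h, a, e⟩ := h.split (c := 1) hi (by simp) (by simp)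
  obtain ⟨B, Y, rfl, h, b, y⟩ := h.split (c := -1) hi (neg_fix f2) (by simp)
  rw [Multiset.eq_replicate_card.2 fun x hx => (Prod.ext (a x hx) (h1 x (by simp [hx])) : x = ((1 : K), 1)),
    Multiset.eq_replicate_card.2 fun x hx => (Prod.ext (b x hx) (h1 x (by simp [hx])) : x = ((-1 : K), 1))]
  exact (rl_quad_ones f2 _).add (.add (by simpa using (rl_quad_ones (K := K) f2 _).neg) (h.quad fun x hx => by
    simp [y x hx, e x (by simp [hx])]))

theorem ss_rq {c : K} (h : Sy (Nat.card F : ℕ) D) (h1 : ∀ x ∈ D, x.2 = 1) (hc : c = 1 ∨ c = -1) (δ : ℤˣ) :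
    ∃ s, Rq F ({(c, 1)} + D) δ s := by
  obtain ⟨δ', s, r⟩ := (quad_ss f2 h h1).rq f2
  obtain ⟨s', r'⟩ := Rl.rq_odd (D := {(c, 1)}) f2 (by
    rcases hc with rfl | rfl
    exacts [rl_quad_ones f2 1, by simpa using (rl_quad_ones (K := K) f2 1).neg]) (by simp) (δ * δ')
  exact ⟨_, (r'.add f2 r).cast (by simp [mul_assoc]) rfl⟩

theorem PP.rq (h : PP n f) (h1 : f.eval 1 * f.eval (-1) = 0 ∨ qsign (f.eval 1 * f.eval (-1)) = δ) :
    ∃ s, Rq F (ssd K f) δ s := by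
  obtain ⟨s1, -, s3⟩ := h.sy (K := K)
  by_cases h2 : ∀ x ∈ ssd K f, x.1 ^ 2 ≠ 1
  · have := Fintype.ofFinite F
    obtain ⟨c, hc⟩ := odd_card_iff.2 f2
    rw [← Nat.card_eq_fintype_card] at hc
    have e : ∀ a : F, algebraMap F K (f.eval a) = detD ((ssd K f).map (pm (algebraMap F K a - ·))) := fun a => by
      rw [← eval₂_at_apply, ← eval_map, ← prod_ssd, h.1.1.leadingCoeff]; simp [eval_multiset_prod, detD]; rfl
    have e2 : algebraMap F K (f.eval 1 * f.eval (-1)) = detD ((ssd K f).map (pm fun a => a - a⁻¹)) := by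
      rw [map_mul, e, e, ← mul_one (_ * _), ← s3, ← s1.sym, s1.sym, detD_map_mul]
      conv_lhs => rw [← s1.sym]; enter [1]; rw [s1.sym]
      rw [detD_map_mul]
      exact congrArg detD (Multiset.map_congr rfl fun x hx => Prod.ext (by have := s1.ne x hx; simp; field_simp; ring) rfl)
    have e0 : f.eval 1 * f.eval (-1) ≠ 0 := fun e => (mul_eq_zero.1 e).elim
      (fun e => h2 (1, 1) (mem_ssd.2 ⟨⟨h.1.1.ne_zero, by rw [← map_one (algebraMap F K), aeval_algebraMap_apply]; simp [e]⟩, rfl⟩) (by simp))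
      fun e => h2 (-1, 1) (mem_ssd.2 ⟨⟨h.1.1.ne_zero, by
        rw [← map_one (algebraMap F K), ← map_neg, aeval_algebraMap_apply]; simp [e]⟩, rfl⟩) (by simp)
    obtain ⟨δ', s, r⟩ := (s1.quad h2).rq f2
    exact ⟨s, r.cast (sgn_inj (K := K) f2 (by rw [← r.disc f2 hc h2, Sp.chi, ← e2, qsign_pow_half hc e0, h1.resolve_left e0])) rfl⟩
  push Not at h2
  obtain ⟨⟨c, k⟩, hx, hc⟩ := h2
  obtain rfl : k = 1 := (mem_ssd.1 hx).2
  obtain ⟨D, e⟩ := Multiset.exists_cons_of_mem hx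
  rw [e, ← Multiset.singleton_add] at s1 ⊢
  rw [sq_eq_one_iff] at hc
  exact ss_rq f2 (s1.right (by
    rcases hc with rfl | rfl
    exacts [(rl_quad_ones f2 1).sy', by simpa using (rl_quad_ones (K := K) f2 1).neg.sy']))
    (fun x hx => (mem_ssd.1 (e ▸ Multiset.mem_cons_of_mem hx)).2) hc δ

variable (hQ : QNondeg Q)
include hQ

theorem rq_in (h : Rq F D (dq Q) s) (hd : dimD D = finrank F V) : ∃ g : orth Q, JD (g.1 : End F V) D :=
  let ⟨_, _, g, a, b, e, _⟩ := h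
  let ⟨g', hg⟩ := exists_fsim hQ (quad_iso_of_disc f2 a hQ (b.dim.trans hd) _ _ e) g
  ⟨g', b.of_sim (fsim_sim hg)⟩

local notation "𝕂" => AlgebraicClosure F

theorem o_low (hd : finrank F V = 2 * (n + 2)) : Nat.card F ^ (n + 2) ≤ 2 * Nat.card (ConjClasses (orth Q)) := by
  classical
  have : Finite V := Module.finite_of_finite F
  obtain ⟨c, c0, hc⟩ := exists_nonsquare' f2
  have f4 : (4 : F) ≠ 0 := by rw [show (4 : F) = 2 * 2 by norm_num]; exact mul_ne_zero f2 f2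
  let τ : F[X] → F[X] := fun f => f + C ((c - 1) * f.eval 1 / 4) * (X ^ (n + 1) + C 2 * X ^ (n + 2) + X ^ (n + 3))
  have t1 : ∀ f, (τ f).eval 1 = c * f.eval 1 := fun f => by simp [τ]; field_simp; ring
  have t2 : ∀ f, (τ f).eval (-1) = f.eval (-1) := fun f => by simp [τ, pow_succ]; ring_nf; simp
  have t3 : ∀ f, PP (n + 2) f → PP (n + 2) (τ f) := fun f h => by
    have : (C ((c - 1) * f.eval 1 / 4) * (X ^ (n + 1) + C 2 * X ^ (n + 2) + X ^ (n + 3))).natDegree < f.natDegree :=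
      h.1.2 ▸ lt_of_le_of_lt (by compute_degree) (show n + 3 < _ by omega)
    refine ⟨⟨h.1.1.add_of_left (degree_lt_degree this), (natDegree_add_eq_left_of_natDegree_lt this).trans h.1.2⟩,
      fun i j e => ?_⟩
    simp only [τ, coeff_add, coeff_C_mul, coeff_X_pow, h.2 i j e]
    congr 2; split_ifs <;> first | omega | simp
  choose g hg using fun (f : F[X]) (h : PP (n + 2) f) (h1 : f.eval 1 * f.eval (-1) = 0 ∨
    qsign (f.eval 1 * f.eval (-1)) = dq Q) => (h.rq (K := 𝕂) f2 h1).elim fun _ r => rq_in f2 hQ r (h.sy.2.1.trans hd.symm)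
  have k : ∀ f f' a b a' b', ConjClasses.mk (g f a b) = .mk (g f' a' b') → f = f' := fun f f' a b a' b' e =>
    eq_of_ssd (((hg f a b).of_sim (sim_of_isConj (ConjClasses.mk_eq_mk_iff_isConj.1 e))).unique (hg f' a' b'))
      (a.1.1.trans a'.1.1.symm)
  have t4 : ∀ f : F[X], ¬ (f.eval 1 * f.eval (-1) = 0 ∨ qsign (f.eval 1 * f.eval (-1)) = dq Q) →
      qsign ((τ f).eval 1 * (τ f).eval (-1)) = dq Q := fun f h => by
    push Not at h
    rw [t1, t2, mul_assoc, qsign_mul c0 h.1, qsign_eq_neg_one.2 hc, Int.units_ne_iff_eq_neg.1 h.2]; simp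
  rw [← card_pp]
  refine le_of_le_of_eq (Nat.card_le_card_of_injective (β := ConjClasses (orth Q) × Bool) (fun f => if h : _ then (.mk (g f.1 f.2 h), false) else
    (.mk (g _ (t3 _ f.2) (.inr (t4 _ h))), true)) fun f f' e => Subtype.ext ?_) (by simp [mul_comm])
  dsimp only at e
  split_ifs at e <;> simp only [Prod.mk.injEq, reduceCtorEq, and_false, and_true] at e
  · exact k _ _ _ _ _ _ e
  have := k _ _ _ _ _ _ e
  have e2 := mul_left_cancel₀ c0 ((t1 _).symm.trans ((congrArg _ this).trans (t1 _)))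
  simpa [τ, e2] using this

omit f2 hQ in
theorem exists_fl : ∃ φ : Multiset ℕ × Finset ℕ → Multiset ℕ × Finset ℕ, Injective φ ∧ (∀ x, (φ x).1 = x.1) ∧
    ∀ x, VU x → (∃ i ∈ x.1, Odd i) → VU (φ x) ∧ (-1 : ℤˣ) ^ #(φ x).2 = -(-1) ^ #x.2 := by
  classical
  choose i hi using fun μ : Multiset ℕ => show ∃ i, (∃ i ∈ μ, Odd i) → i ∈ μ ∧ Odd i from
    (em _).elim (fun ⟨i, h⟩ => ⟨i, fun _ => h⟩) fun h => ⟨0, fun h' => absurd h' h⟩
  refine ⟨fun x => (x.1, symmDiff x.2 {i x.1}), Involutive.injective fun x => by simp, fun _ => rfl, fun x h e =>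
    ⟨⟨h.1, h.2.1, fun j hj => ?_⟩, ?_⟩⟩
  · rcases mem_symmDiff.1 hj with hj | hj
    exacts [h.2.2 j hj.1, mem_singleton.1 hj.1 ▸ (hi _ e).symm]
  dsimp only
  by_cases hx : i x.1 ∈ x.2
  · rw [← card_erase_add_one hx, pow_succ, show symmDiff x.2 {i x.1} = x.2.erase (i x.1) by
      ext; simp [mem_symmDiff]; grind]; simp
  · rw [show symmDiff x.2 {i x.1} = insert (i x.1) x.2 by ext; simp [mem_symmDiff]; grind, card_insert_of_notMem hx,
      pow_succ]; simp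

theorem o_up (hd : finrank F V = 2 * n) : 2 * Nat.card (ConjClasses (orth Q)) ≤ 19 * Nat.card F ^ n := by
  classical
  obtain ⟨φ, f1, f3, f4⟩ := exists_fl
  choose z h1 h2 using fun g : ConjClasses (orth Q) => exists_dt (K := 𝕂) f2 hQ g.out
  have k : ∀ g g', z g = z g' → g = g' := fun g g' e =>
    Quotient.out_equiv_out.1 (isConj_of_fsim ((h1 g).fs f2 (e ▸ h1 g') (h2 g)))
  rw [hd] at h2
  let ψ : Z 𝕂 → Z 𝕂 := fun z => if ∃ i ∈ z.2.1.1, Odd i then (z.1, φ z.2.1, z.2.2) else (z.1, z.2.1, φ z.2.2)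
  have p1 : ∀ z, (ψ z).1 = z.1 ∧ (ψ z).2.1.1 = z.2.1.1 ∧ (ψ z).2.2.1 = z.2.2.1 := fun z => by
    simp only [ψ]; split_ifs <;> simp [f3]
  have p2 : Injective ψ := fun z z' e => by
    have := (p1 z).2.1.symm.trans (e ▸ (p1 z').2.1)
    simp only [ψ, this] at e
    split_ifs at e <;> simp only [Prod.mk.injEq, f1.eq_iff] at e <;> exact Prod.ext e.1 (Prod.ext e.2.1 e.2.2)
  have p3 : ∀ z, VZ F (2 * n) z → (¬ ∀ i, i ∈ z.2.1.1 ∨ i ∈ z.2.2.1 → ¬ Odd i) → VZ F (2 * n) (ψ z) ∧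
      (-1 : ℤˣ) ^ #(ψ z).2.1.2 * (-1) ^ #(ψ z).2.2.2 = -((-1) ^ #z.2.1.2 * (-1) ^ #z.2.2.2) := fun z h e => by
    simp only [ψ]; split_ifs with h'
    · exact ⟨⟨h.1, (f4 _ h.2.1 h').1, h.2.2.1, by simpa [f3] using h.2.2.2⟩, by simp [(f4 _ h.2.1 h').2]⟩
    · have := f4 _ h.2.2.1 (by grind)
      exact ⟨⟨h.1, h.2.1, this.1, by simpa [f3] using h.2.2.2⟩, by simp [this.2]⟩
  obtain ⟨a, b, -⟩ := vl_le (K := 𝕂) f2 (M := 2 * n + 13) (by omega) n
  have := (card_vl (K := 𝕂) (L := Icc 1 (2 * n + 13)) (A := ∅) (B := ∅) f2 (by simp) (2 * n)).1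
  have := (card_vl (K := 𝕂) (L := Icc 1 (2 * n + 13)) (A := Od (2 * n + 13)) (B := Od (2 * n + 13)) f2 (by simp) (2 * n)).1
  have := Nat.card_le_card_of_injective (α := ConjClasses (orth Q) × Bool) (β := {z : Z 𝕂 // VL F (Icc 1 (2 * n + 13))
    (Od (2 * n + 13)) (Od (2 * n + 13)) (2 * n) z} ⊕ {z : Z 𝕂 // VL F (Icc 1 (2 * n + 13)) ∅ ∅ (2 * n) z}) (fun g =>
    if g.2 then if h : _ then .inr ⟨z g.1, h2 _, ((h2 _).vl le_self_add).2.1, ?_⟩ else .inl ⟨_, (p3 _ (h2 g.1) h).1.vl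
      le_self_add⟩ else .inl ⟨_, (h2 g.1).vl le_self_add⟩) ?_
  rotate_right
  · rw [Nat.card_prod, Nat.card_sum, Nat.card_eq_fintype_card (α := Bool), Fintype.card_bool, ← Nat.cast_le (α := ℝ)] at this
    have : (0 : ℝ) ≤ Nat.card F ^ n := by positivity
    push_cast at *
    exact_mod_cast (show (2 * Nat.card _ : ℝ) ≤ 19 * Nat.card F ^ n by linarith)
  · have := ((h2 g.1).vl (M := 2 * n + 13) le_self_add).2.2
    simp only [List.forall_mem_cons, List.not_mem_nil, IsEmpty.forall_iff, implies_true, and_true] at this ⊢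
    exact ⟨⟨fun i hi => (h i (.inl ((h2 _).2.1.2.2 i hi).2) ((h2 _).2.1.2.2 i hi).1).elim, fun i a b => (h i (.inl a) b).elim,
      this.1.2.2⟩, fun i hi => (h i (.inr ((h2 _).2.2.1.2.2 i hi).2) ((h2 _).2.2.1.2.2 i hi).1).elim,
      fun i a b => (h i (.inr a) b).elim, this.2.2.2⟩
  have k2 : ∀ g g', (¬ ∀ i, i ∈ (z g).2.1.1 ∨ i ∈ (z g).2.2.1 → ¬ Odd i) → ψ (z g) ≠ z g' := fun g g' h e => by
    have := (h1 g).dq f2 (h1 g') (h2 g) (h2 g') (e ▸ (p1 _).1.symm) (e ▸ (p1 _).2.1.symm) (e ▸ (p1 _).2.2.symm)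
    rw [← e, (p3 _ (h2 g) h).2, mul_right_inj] at this
    exact absurd this (by generalize (_ * _ : ℤˣ) = u; rcases Int.units_eq_one_or u with rfl | rfl <;> decide)
  rintro ⟨g, _ | _⟩ ⟨g', _ | _⟩ e <;> simp only [Bool.false_eq_true, if_false, if_true] at e <;> try split_ifs at e
  all_goals simp only [Sum.inl.injEq, Sum.inr.injEq, Subtype.mk.injEq, reduceCtorEq, p2.eq_iff] at e
  all_goals first | exact Prod.ext (k _ _ e) rfl | exact Prod.ext (k _ _ (congrArg Subtype.val e)) rfl | exact absurd e (k2 _ _ ‹_›) | exact absurd e.symm (k2 _ _ ‹_›)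

theorem o_bound {G : Type*} [Group G] (R : IsoRep (ofQuad Q) G) (hn : 2 ≤ n) (hd : finrank F V = 2 * n) :
    Nat.card F ^ n ≤ 2 * Nat.card (ConjClasses G) ∧ 2 * Nat.card (ConjClasses G) ≤ 19 * Nat.card F ^ n := by
  obtain ⟨n, rfl⟩ := Nat.exists_eq_add_of_le' hn
  rw [card_cc R.e]
  exact ⟨o_low f2 hQ hd, o_up f2 hQ hd⟩

end H27.CN
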