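/-
S5161, exceptional groups in odd characteristic: root data and torus data, basic lemmas.
-/
import Cfsg.Agent.H27.FX0

set_option autoImplicit false
set_option linter.unusedSectionVars false

namespace H27.FX
open H14 H14.RootSys Equiv H27.FK Subgroup H25
open Matrix hiding zpow_add zpow_mul zpow_neg

variable {ι κ : Type*} [Fintype κ] [DecidableEq κ] [Fintype ι] [DecidableEq ι] {R : RootSys ι κ} {τ v w : Perm ι} {s t u : κ → ℤ} {x y r : ι}

variable (R) in
/-- the action on coweights -/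
def act (w : Perm ι) (u : κ → ℤ) : κ → ℤ := fun j => ev R u (w (R.simple j))

@[simp] theorem ev_simple (u : κ → ℤ) (j : κ) : ev R u (R.simple j) = u j := by simp [ev, cf_simple]
@[simp] theorem ev_add (s u : κ → ℤ) (r : ι) : ev R (s + u) r = ev R s r + ev R u r := add_dotProduct ..
@[simp] theorem ev_sub (s u : κ → ℤ) (r : ι) : ev R (s - u) r = ev R s r - ev R u r := sub_dotProduct ..
@[simp] theorem ev_neg (u : κ → ℤ) (r : ι) : ev R (-u) r = -ev R u r := neg_dotProduct ..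
@[simp] theorem ev_smul (c : ℤ) (u : κ → ℤ) (r : ι) : ev R (c • u) r = c * ev R u r := smul_dotProduct ..
@[simp] theorem ev_negr (u : κ → ℤ) (r : ι) : ev R u (R.neg r) = -ev R u r := by simp [ev, cf_neg]
@[simp] theorem act_add (s u : κ → ℤ) : act R w (s + u) = act R w s + act R w u := funext fun _ => ev_add ..
@[simp] theorem act_sub (s u : κ → ℤ) : act R w (s - u) = act R w s - act R w u := funext fun _ => ev_sub ..
@[simp] theorem act_neg (u : κ → ℤ) : act R w (-u) = -act R w u := funext fun _ => ev_neg ..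
@[simp] theorem act_smul (c : ℤ) (u : κ → ℤ) : act R w (c • u) = c • act R w u := funext fun _ => ev_smul ..
@[simp] theorem act_one (u : κ → ℤ) : act R 1 u = u := funext fun _ => ev_simple ..

theorem ev_act (h : w ∈ R.Aut) (u : κ → ℤ) (r : ι) : ev R (act R w u) r = ev R u (w r) := by
  rw [ev, ev, Aut.cf_lin h, lin, dotProduct_sum]
  exact Finset.sum_congr rfl fun j _ => by rw [dotProduct_smul, smul_eq_mul, mul_comm]; rfl

theorem act_mul (h : v ∈ R.Aut) (w : Perm ι) (u : κ → ℤ) : act R (v * w) u = act R w (act R v u) :=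
  funext fun _ => (ev_act h ..).symm

theorem Ev.ev (h : Ev u) (r : ι) : Even (ev R u r) := Finset.even_sum _ fun j _ => (h j).mul_right _
theorem Ev.act (h : Ev u) (w : Perm ι) : Ev (act R w u) := fun _ => h.ev _
theorem Ev.add (h : Ev s) (k : Ev u) : Ev (s + u) := fun j => (h j).add (k j)
theorem Ev.sub (h : Ev s) (k : Ev u) : Ev (s - u) := fun j => (h j).sub (k j)
theorem Sg.symm (h : Sg s u) : Sg u s := h.imp Eq.symm fun e => by simp [e]
theorem Sg.trans (h : Sg s t) (k : Sg t u) : Sg s u := by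
  rcases h with rfl | rfl <;> rcases k with rfl | rfl <;> simp [Sg]
theorem Sg.act (h : Sg s u) (w : Perm ι) : Sg (act R w s) (act R w u) := by rcases h with rfl | rfl <;> simp [Sg]
theorem Sg.ev (h : Sg s u) : Ev (s - u) := fun j => by
  rcases h with rfl | rfl
  · simp
  · exact ⟨-u j, by simp [sub_eq_add_neg]⟩
theorem Sg.zero (h : Sg s u) (r : ι) : FX.ev R s r = 0 ↔ FX.ev R u r = 0 := by rcases h with rfl | rfl <;> simp

namespace RD
variable (X : RD R τ)

@[simp] theorem ev_pw (x r : ι) : ev R (X.pw x) r = R.pair x r := by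
  rw [← pq_cf]
  conv_rhs => rw [← sum_cf_single (R.cf r)]
  simp only [pq, mulVec_sum, dotProduct_sum, mulVec_smul, dotProduct_smul]
  exact Finset.sum_congr rfl fun j _ => by rw [X.hpw, ← cf_simple, mul_comm]; rfl

theorem act_pw (h : w ∈ R.Aut) (x : ι) : act R w (X.pw (w x)) = X.pw x :=
  funext fun j => by rw [act, ev_pw, Aut.pair_eq h, X.hpw]

theorem pw_act (h : w ∈ R.Aut) (x : ι) : X.pw (w x) = act R w⁻¹ (X.pw x) := by
  simpa using (X.act_pw (inv_mem h) (w x)).symm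

theorem act_refl (c : ι) (u : κ → ℤ) : act R (R.refl c) u = u - ev R u c • X.pw c := funext fun j => by
  rw [act, ev, cf_refl, dotProduct_sub, dotProduct_smul, ← X.hpw, smul_eq_mul, mul_comm]
  exact congrArg (· - _) (ev_simple ..)

theorem act_refl2 {c d : ι} (h : R.pair c d = 0) (u : κ → ℤ) :
    act R (R.refl c * R.refl d) u = u - ev R u c • X.pw c - ev R u d • X.pw d := by
  rw [act_mul (R.refl_mem_Aut c), X.act_refl, X.act_refl, ev_sub, ev_smul, ev_pw, h, mul_zero, sub_zero]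

variable {X}

theorem map (h : w ∈ R.Aut) (c : ∀ r, w (τ r) = τ (w r)) (p : X.P x) : X.P (w x) := by
  rw [X.hP] at p ⊢
  exact ⟨by rw [← c, p.1], by rw [Aut.d_eq h, p.2]⟩

theorem sym (p : X.P x) (q : X.P y) : R.pair x y = R.pair y x :=
  mul_left_cancel₀ (R.d_ne x) (by rw [R.d_pair, ((X.hP _).1 p).2, ((X.hP _).1 q).2])

theorem nb (p : X.P x) : ∃ y, X.P y ∧ Odd (R.pair x y) := let ⟨y, a, _, b⟩ := X.h2 x p; ⟨y, a, by simpa [sym a p] using b⟩

theorem conn {Q : ι → Prop} (h : ∀ x y, X.P x → X.P y → Odd (R.pair x y) → Q x → Q y) (p : X.P x) (q : X.P y) (k : Q x) : Q y := by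
  obtain ⟨a, a1, a2, a3⟩ := X.h2 x p
  obtain ⟨b, b1, b2, b3⟩ := X.h2 y q
  have c := (X.g 0).1
  rw [ev_pw] at a2 a3 b2 b3
  exact h _ _ b1 q b3 (h _ _ c b1 b2 (h _ _ a1 c (sym c a1 ▸ a2) (h _ _ p a1 (sym a1 p ▸ a3) k)))

theorem eq_one (h : w ∈ R.W) (h1 : ∀ i, act R w (X.f i) = X.f i) (h2 : X.cs = 0 ∨ w X.al = X.al) : w = 1 := by
  obtain ⟨a, -, -, b⟩ := X.h3
  refine R.eq_one_of_pos_simple h fun j => (R.pos_iff_ht_pos _).2 ((mul_pos_iff_of_pos_left a).1 ?_)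
  have e : X.M * R.ht (w (R.simple j)) = ∑ i, X.c i * act R w (X.f i) j + X.cs * act R w (X.pw X.al) j := by
    simp only [ht, act, ev, dotProduct, Finset.mul_sum]
    rw [Finset.sum_comm, ← Finset.sum_add_distrib]
    exact Finset.sum_congr rfl fun k _ => by rw [b k]; simp only [add_mul, Finset.sum_mul, mul_assoc]
  have e' : X.cs * act R w (X.pw X.al) j = X.cs * X.pw X.al j := h2.elim (fun c => by simp [c]) fun c => by
    conv_lhs => rw [← c, X.act_pw (R.W_le_Aut h)]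
  simp only [h1, e', ← b] at e
  rwa [e]

theorem eq_one' (h : w ∈ R.W) (h1 : ∀ x, X.P x → w x = x) : w = 1 :=
  have k : ∀ x, X.P x → act R w (X.pw x) = X.pw x := fun x p => by conv_lhs => rw [← h1 x p, X.act_pw (R.W_le_Aut h)]
  eq_one h (fun i => by rw [X.hf, act_add, k _ (X.g i).1, k _ (X.g i).2.1]) (.inr (h1 _ X.h3.2.1))

/-- quadratic action -/
theorem quad (h : w ∈ R.W) (c : ∀ r, w (τ r) = τ (w r))
    (k : ∀ x, X.P x → ∀ r, 4 ∣ R.pair (w x) r - 2 * R.pair x r + R.pair (w⁻¹ x) r) : w = 1 ∨ ∀ x, X.P x → w x = R.neg x := by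
  have hA := R.W_le_Aut h
  have s : ∀ x, X.P x → w x = x ∨ w x = R.neg x := fun x p => by
    have p1 := map hA c p
    rcases X.h1 _ _ p1 (map (inv_mem hA) (fun r => by rw [Perm.inv_eq_iff_eq, c]; simp) p) (fun j => by
      have := k x p (R.simple j)
      simp only [Pi.sub_apply, X.hpw, Int.even_iff]; omega) with e | e
    · exact X.h1 _ _ p p1 fun j => by
        have := k x p (R.simple j)
        simp only [Pi.sub_apply, X.hpw, Int.even_iff, e] at this ⊢; omega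
    · obtain ⟨y, -, o⟩ := nb p
      have := k x p y
      rw [e, pair_neg_left] at this
      rw [Int.odd_iff] at o; omega
  have n : ∀ {x y}, Odd (R.pair x y) → R.pair x y ≠ -R.pair x y := fun o => by rw [Int.odd_iff] at o; omega
  have p0 := (X.g 0).1
  refine (s _ p0).imp (fun e => eq_one' h fun y q => conn (Q := fun x => w x = x) (fun x y p q o e => (s y q).resolve_right
    fun e' => n o ?_) p0 q e) fun e y q => conn (Q := fun x => w x = R.neg x) (fun x y p q o e => (s y q).resolve_left fun e' => n o ?_) p0 q e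
  · rw [← pair_neg_right, ← e', ← Aut.pair_eq hA x y, e]
  · rw [← pair_neg_left, ← e, ← Aut.pair_eq hA x y, e']

variable (X) in
/-- `w` maps the coordinate `i` to the coordinate `k` -/
def Tq (w : Perm ι) (i k : Fin (X.n + 1)) : Prop := Sg (act R w (X.f k)) (X.f i)

theorem Tq.uniq (h : w ∈ R.Aut) {i k l : Fin (X.n + 1)} (a : X.Tq w i k) (b : X.Tq w i l) : k = l := by
  by_contra n
  obtain ⟨r, c, d⟩ := X.f2 k l n
  have := ((a.trans b.symm).zero (R := R) (w⁻¹ r)).1 (by simpa [ev_act h] using c)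
  exact d (by simpa [ev_act h] using this)

theorem Tq.mul (h : v ∈ R.Aut) {i k l : Fin (X.n + 1)} (a : X.Tq w i k) (b : X.Tq v k l) : X.Tq (v * w) i l := by
  rw [Tq, act_mul h]; exact (Sg.act b w).trans a

theorem exists_tq (h : w ∈ R.Aut) (c : ∀ r, w (τ r) = τ (w r)) (e : Ev (act R w⁻¹ (X.f 0) - X.f 0)) (i : Fin (X.n + 1)) :
    ∃ k, X.Tq w i k := by
  obtain ⟨a, b, d, g⟩ := X.g i
  have k : X.pw (w (X.a i)) + X.pw (w (X.b i)) = act R w⁻¹ (X.f i) := by rw [X.pw_act h, X.pw_act h, X.hf, act_add]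
  obtain ⟨l, m⟩ := X.f1 _ _ (map h c a) (map h c b) (by simpa [k] using (g.act (R := R) w⁻¹).add e) (by
    rw [← d, ev_pw, ev_pw, Aut.pair_eq h])
  exact ⟨l, by simpa [Tq, k, ← act_mul (inv_mem h)] using (m.act (R := R) w).symm⟩

end RD

theorem zpow_sum {M α : Type*} [CommGroup M] (x : M) (s : Finset α) (f : α → ℤ) : x ^ ∑ j ∈ s, f j = ∏ j ∈ s, x ^ f j :=
  map_prod (zpowersHom M x) (fun j => Multiplicative.ofAdd (f j)) s

namespace TD
variable {Γ M : Type*} [Group Γ] [CommGroup M] (T : TD R τ Γ M) {d e g : Γ}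

/-- `d` is the value of the coweight `u` at `i` -/
def Ch (d : Γ) (u : κ → ℤ) : Prop := d ∈ T.D ∧ ∀ r, T.χ d r = T.i ^ ev R u r

theorem aut (n : T.N) : T.π n ∈ R.Aut := R.W_le_Aut (T.mW n)

theorem ieq {a b : ℤ} : T.i ^ a = T.i ^ b ↔ 4 ∣ a - b := by
  rw [zpow_eq_zpow_iff_modEq, T.hi, Int.modEq_comm, Int.modEq_iff_dvd]; rfl

theorem ieq2 {a : ℤ} : T.i ^ a = T.i ^ 2 ↔ 4 ∣ a - 2 := by rw [← T.ieq, zpow_ofNat]

theorem ieq1 {a : ℤ} : T.i ^ a = 1 ↔ 4 ∣ a := by rw [← zpow_zero T.i, T.ieq, sub_zero]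

theorem χ_one (r : ι) : T.χ 1 r = 1 := by simpa using T.mul 1 (one_mem _) 1 (one_mem _) r

variable {T}

theorem χ_inv (h : d ∈ T.D) (r : ι) : T.χ d⁻¹ r = (T.χ d r)⁻¹ :=
  eq_inv_of_mul_eq_one_left (by rw [← T.mul _ (inv_mem h) _ h, inv_mul_cancel, χ_one])

theorem χ_pow (h : d ∈ T.D) (r : ι) (n : ℕ) : T.χ (d ^ n) r = T.χ d r ^ n := by
  induction n with
  | zero => simp [χ_one]
  | succ n ih => rw [pow_succ, T.mul _ (pow_mem h n) _ h, ih, pow_succ]

theorem χ_neg (h : d ∈ T.D) (r : ι) : T.χ d (R.neg r) = (T.χ d r)⁻¹ := by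
  rw [T.lin d h, T.lin d h r]; simp [cf_neg]

theorem ext' (h : d ∈ T.D) (k : e ∈ T.D) (c : ∀ r, T.χ d r = T.χ e r) : d = e :=
  mul_inv_eq_one.1 (T.inj _ (mul_mem h (inv_mem k)) fun r => by rw [T.mul _ h _ (inv_mem k), χ_inv k, c, mul_inv_cancel])

theorem comm (h : d ∈ T.D) (k : e ∈ T.D) : Commute d e :=
  ext' (mul_mem h k) (mul_mem k h) fun r => by rw [T.mul _ h _ k, T.mul _ k _ h, mul_comm]

theorem cj_mem (h : d ∈ T.D) (k : g ∈ T.N) : g * d * g⁻¹ ∈ T.D :=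
  (T.ker (⟨g, k⟩ * ⟨d, T.le h⟩ * ⟨g, k⟩⁻¹)).1 (by rw [map_mul, map_mul, (T.ker ⟨d, T.le h⟩).2 h]; simp)

theorem fix (h : d ∈ T.D) {n : T.N} (c : Commute n.1 d) (r : ι) : T.χ d (T.π n r) = T.χ d r := by
  rw [← T.cj d h n r, c.eq]; simp

theorem Ch.mul (a : T.Ch d s) (b : T.Ch e u) : T.Ch (d * e) (s + u) :=
  ⟨mul_mem a.1 b.1, fun r => by rw [T.mul _ a.1 _ b.1, a.2, b.2, ev_add, zpow_add]⟩

theorem Ch.inv (a : T.Ch d s) : T.Ch d⁻¹ (-s) := ⟨inv_mem a.1, fun r => by rw [χ_inv a.1, a.2, ev_neg, zpow_neg]⟩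

theorem Ch.cj (a : T.Ch d s) (n : T.N) : T.Ch (n * d * n⁻¹) (act R (T.π n)⁻¹ s) :=
  ⟨cj_mem a.1 n.2, fun r => by simpa [ev_act (inv_mem (T.aut n)), a.2] using T.cj d a.1 n ((T.π n)⁻¹ r)⟩

theorem Ch.eq (a : T.Ch d s) (b : T.Ch e u) (c : ∀ j, 4 ∣ s j - u j) : d = e := ext' a.1 b.1 fun r => by
  rw [a.2, b.2, ieq, ← ev_sub]; exact Finset.dvd_sum fun j _ => (c j).mul_right _

theorem Ch.fix (a : T.Ch d s) {n : T.N} (c : Commute n.1 d) (r : ι) : 4 ∣ ev R s (T.π n r) - ev R s r := by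
  rw [← T.ieq, ← a.2, ← a.2, TD.fix a.1 c]

theorem Ch.four (a : T.Ch d s) : d ^ 4 = 1 := T.inj _ (pow_mem a.1 4) fun r => by
  rw [χ_pow a.1, a.2, ← zpow_natCast, ← zpow_mul, ieq1]; simp

theorem cha (X : RD R τ) (p : τ x = x) : T.Ch (T.a x) (X.pw x) := ⟨(T.ha x p).1, fun r => by rw [(T.ha x p).2, X.ev_pw]⟩

theorem exists_bv (h : d ∈ T.D) (k : d * d = 1) : ∃ m, Iv R τ (bv m) ∧ T.Ch d (2 • bv m) := by
  classical
  have a : T.Ch d (2 • bv fun j => T.χ d (R.simple j) ≠ 1) := ⟨h, fun r => by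
    rw [T.lin d h, ev, dotProduct, zpow_sum]
    refine Finset.prod_congr rfl fun j _ => ?_
    by_cases c : T.χ d (R.simple j) = 1
    · simp [bv, c]
    · rw [(T.sq _ (by rw [← T.mul _ h _ h, k, χ_one])).resolve_left c, ← zpow_natCast, ← zpow_mul]
      simp [bv, c]⟩
  refine ⟨_, fun j => ?_, a⟩
  obtain ⟨u, c⟩ := T.tw
  have := c d h (R.simple j)
  rw [a.2, a.2, ← zpow_mul, ieq, ev_simple, two_smul, ev_add, Pi.add_apply] at this
  generalize bv _ j = z at this ⊢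
  obtain ⟨c, e⟩ := this
  exact ⟨c + 2 * z * u, by linarith⟩

end TD

end H27.FX
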