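/-
S5161, exceptional groups in odd characteristic: root data and torus data give a simple fusion system.
-/
import Cfsg.Agent.H27.FX1

set_option autoImplicit false
set_option linter.unusedSectionVars false

namespace H27.FX
open H14 H14.RootSys Equiv H27.FK Subgroup H25 Function
open scoped commutatorElement

theorem two_of {M : Type*} [CommGroup M] {x : M} {u : ℤ} {n : ℕ} (h : x ^ (4 * u + 1) = x⁻¹) (k : x ^ 2 ^ n = 1) : x * x = 1 := by
  obtain ⟨a, b, e⟩ := (Int.isCoprime_two_right.2 (⟨u, rfl⟩ : Odd (2 * u + 1))).pow_right (n := n)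
  have h1 : (x * x) ^ (2 * u + 1) = 1 := by
    rw [← sq, ← zpow_natCast, ← zpow_mul, show ((2 : ℕ) : ℤ) * (2 * u + 1) = 4 * u + 1 + 1 by push_cast; ring, zpow_add_one, h, inv_mul_cancel]
  have h2 : (x * x) ^ (2 ^ n : ℤ) = 1 := by exact_mod_cast (by rw [mul_pow, k, one_mul] : (x * x) ^ 2 ^ n = 1)
  rw [← zpow_one (x * x), ← e, zpow_add, mul_comm a, mul_comm b, zpow_mul, zpow_mul, h1, h2]; simp

namespace TD
variable {ι κ : Type*} [Fintype κ] [DecidableEq κ] [Fintype ι] [DecidableEq ι] {R : RootSys ι κ} {τ : Perm ι} {u : κ → ℤ} {x y r : ι}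
  {Γ M : Type*} [Group Γ] [Finite Γ] [CommGroup M] {T : TD R τ Γ M} {X : RD R τ} {d e g : Γ} {Y : Subgroup Γ} {S : Sylow 2 Γ}

theorem chb (p : X.P x) : T.Ch (T.a x) (X.pw x) := cha X ((X.hP x).1 p).1

theorem Ch.sq_ne (a : T.Ch d u) (o : Odd (ev R u r)) : d * d ≠ 1 := fun e => by
  have := (a.mul a).2 r
  rw [e, χ_one, eq_comm, ieq1, ev_add] at this
  rw [Int.odd_iff] at o; omega

/-- the normalizer of a 2-subgroup of `N` containing the `a x` -/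
theorem nq (hY : IsPGroup 2 Y) (hN : Y ≤ T.N) (ha : ∀ x, X.P x → T.a x ∈ Y) : nz Y ≤ T.N := fun g hg => by
  have c1 : ∀ {y}, y ∈ Y → g * y * g⁻¹ ∈ T.N := fun h => hN (conj_mem_of_mem_nz hg h)
  have cm : ∀ {b c}, b ∈ T.D → c ∈ T.D → Commute (g * b * g⁻¹) (g * c * g⁻¹) := fun h k => (comm h k).map (MulAut.conj g)
  have k1 : ∀ b (h : b ∈ Y), b ∈ T.D → T.π ⟨_, c1 h⟩ = 1 ∨ ∀ x, X.P x → T.π ⟨_, c1 h⟩ x = R.neg x := fun b h hb =>
    RD.quad (T.mW _) (T.cτ _) fun x p r => by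
      have := (((chb p).cj ⟨_, c1 h⟩).mul (chb p).inv).fix (n := ⟨_, c1 h⟩) (by
        convert cm hb (mul_mem hb (cj_mem (inv_mem hb) (hN (conj_mem_of_mem_nz' hg (ha x p))))) using 1
        simp only [InvMemClass.coe_inv]; group) r
      have a := T.aut ⟨_, c1 h⟩
      generalize T.π _ = w at this a ⊢
      rw [← X.pw_act a] at this
      simp only [ev_add, ev_neg, X.ev_pw, Aut.pair_eq a] at this
      rw [← Aut.pair_eq a (w⁻¹ x), show w (w⁻¹ x) = x by simp]; omega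
  by_cases bad : ∃ b, ∃ h : b ∈ Y, b ∈ T.D ∧ ∀ x, X.P x → T.π ⟨_, c1 h⟩ x = R.neg x
  swap
  · refine T.br g {d | ∃ x, X.P x ∧ d = T.a x} ?_ fun r => ?_
    · rintro _ ⟨x, p, rfl⟩
      exact ⟨(chb p).1, (T.ker ⟨_, c1 (ha x p)⟩).1 ((k1 _ (ha x p) (chb p).1).resolve_right fun k => bad ⟨_, ha x p, (chb p).1, k⟩)⟩
    obtain ⟨x, p, o⟩ := X.h5 r
    exact ⟨_, ⟨x, p, rfl⟩, by rw [(chb p).2, Ne, ieq1]; rw [Int.odd_iff] at o; omega⟩
  obtain ⟨b, h, hb, k⟩ := bad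
  have k2 : ∀ c (h : c ∈ Y), c ∈ T.D → T.π ⟨_, c1 h⟩ = 1 → c * c = 1 := fun c hc a a' => by
    replace a' := (T.ker _).1 a'
    obtain ⟨n, e⟩ := hY ⟨c, hc⟩
    obtain ⟨u, t⟩ := T.tw
    suffices g * c * g⁻¹ * (g * c * g⁻¹) = 1 by rwa [conj_mul, conj_eq_one_iff] at this
    refine T.inj _ (mul_mem a' a') fun r => ?_
    have f := fix a' (n := ⟨_, c1 h⟩) (cm hb a) r
    have e' : T.χ (g * c * g⁻¹) r ^ 2 ^ n = 1 := by
      rw [← χ_pow a', conj_pow, show c ^ 2 ^ n = 1 from congrArg Subtype.val e]; simp [χ_one]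
    rw [← inv_inj, ← χ_neg a'] at f
    rw [T.mul _ a' _ a']
    rcases X.h4 r (R.neg (T.π ⟨_, c1 h⟩ r)) (fun x p => by
      rw [X.ev_pw, X.ev_pw, ← Aut.pair_eq (T.aut ⟨_, c1 h⟩), k x p, pair_neg_left, pair_neg_right]) with s | s | s <;> rw [s] at f
    · exact two_of (u := 0) (by simpa using f) e'
    · exact two_of (t _ a' r ▸ f) e'
    · exact two_of (u := 4 * u * u + 2 * u) (by rw [← f, t _ a', t _ a', ← zpow_mul]; congr 1; ring) e'
  have p := (X.g 0).1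
  obtain ⟨y, q, o⟩ := RD.nb p
  have o' : Odd (R.pair y (X.a 0)) := RD.sym p q ▸ o
  rcases k1 _ (ha _ p) (chb p).1 with s | s
  · exact ((chb p).sq_ne (by rwa [X.ev_pw]) (k2 _ (ha _ p) (chb p).1 s)).elim
  rcases k1 _ (ha _ q) (chb q).1 with s' | s'
  · exact ((chb q).sq_ne (by rwa [X.ev_pw]) (k2 _ (ha _ q) (chb q).1 s')).elim
  refine (((chb p).mul (chb q)).sq_ne (r := X.a 0) (by simpa [pair_self] using even_two.add_odd o')
    (k2 _ (mul_mem (ha _ p) (ha _ q)) ((chb p).mul (chb q)).1 (RD.eq_one' (X := X) (T.mW _) fun x t => ?_))).elim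
  rw [show (⟨_, c1 (mul_mem (ha _ p) (ha _ q))⟩ : T.N) = ⟨_, c1 (ha _ p)⟩ * ⟨_, c1 (ha _ q)⟩ from Subtype.ext (by simp), map_mul,
    Perm.mul_apply, s' x t, Aut.neg (T.aut _), s x t, R.neg_neg]

variable (T) in
/-- the elements of the torus of order dividing four -/
def B : Subgroup Γ where
  carrier := {d | d ∈ T.D ∧ d ^ 4 = 1}
  one_mem' := ⟨one_mem _, one_pow _⟩
  mul_mem' a b := ⟨mul_mem a.1 b.1, by rw [(comm a.1 b.1).mul_pow, a.2, b.2, one_mul]⟩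
  inv_mem' a := ⟨inv_mem a.1, by rw [inv_pow, a.2, inv_one]⟩

theorem B_pg : IsPGroup 2 T.B := fun x => ⟨2, Subtype.ext x.2.2⟩
theorem B_nz : T.N ≤ nz T.B := fun _ h => mem_nz_of_conj_mem fun _ k => ⟨cj_mem k.1 h, by rw [conj_pow, k.2]; simp⟩
theorem Ch.B (a : T.Ch d u) : d ∈ T.B := ⟨a.1, a.four⟩

section
variable (h : SCl S Y) (hB : T.B ≤ S)
include h hB

theorem c1 {n : T.N} (a : n.1 ∈ Cl Y) (p : X.P x) : ∃ d ∈ Y, T.Ch d (X.pw (T.π n x) - X.pw x) :=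
  have k := ((chb p).cj n).mul (chb (T := T) p).inv
  ⟨_, cl_mem h (cl_nz h B_pg (B_nz n.2) (chb p).B a).1 (hB k.B), by rwa [X.pw_act (T.aut n), sub_eq_add_neg]⟩

theorem c2 (a : d ∈ Y) (b : d ∈ T.D) (p : X.P x) (c : T.χ d x = T.i ^ 2) : T.a x ∈ Y := by
  obtain ⟨g, k, e⟩ := T.s1 x ((X.hP x).1 p).1 d b c
  obtain ⟨y, q, o⟩ := RD.nb p
  obtain ⟨f, f1, f2⟩ := c1 h hB (n := ⟨_, k⟩) (cl_conj (cl_of a) g) q
  rw [e, X.pw_act (R.refl_mem_Aut x), refl_inv, X.act_refl, X.ev_pw, ← RD.sym p q, sub_sub_cancel_left] at f2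
  have := R.pair_le_three x y
  have := R.neg_three_le_pair x y
  rw [Int.odd_iff] at o
  rcases (by omega : 4 ∣ R.pair x y - 1 ∨ 4 ∣ R.pair x y + 1) with ⟨c, s⟩ | ⟨c, s⟩
  · rw [(chb p).eq f2.inv fun j => ⟨-c * X.pw x j, by simp only [_root_.neg_neg, Pi.smul_apply, smul_eq_mul]; linear_combination -X.pw x j * s⟩]
    exact inv_mem f1
  · rwa [(chb p).eq f2 fun j => ⟨c * X.pw x j, by simp only [Pi.neg_apply, Pi.smul_apply, smul_eq_mul]; linear_combination X.pw x j * s⟩]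

theorem c3 (a : d ∈ Y) (b : T.Ch d u) (p : X.P x) (c : ¬ 4 ∣ ev R u x) : T.a x ∈ Y := by
  by_cases k : 4 ∣ ev R u x - 2
  · exact c2 h hB a b.1 p (by rwa [b.2, ieq2])
  · exact c2 h hB (mul_mem a a) (b.mul b).1 p (by rw [(b.mul b).2, ieq2, ev_add]; omega)

theorem c4 {n : T.N} (a : n.1 ∈ Cl Y) (b : T.π n ≠ 1) (p : X.P x) : T.a x ∈ Y := by
  obtain ⟨y, q, c⟩ : ∃ y, X.P y ∧ T.π n y ≠ y := by
    by_contra! k
    exact b (RD.eq_one' (T.mW n) k)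
  obtain ⟨z, s, t⟩ : ∃ z, X.P z ∧ T.a z ∈ Y := by
    obtain ⟨f, f1, f2⟩ := c1 h hB a q
    by_cases e : T.π n y = R.neg y
    · obtain ⟨z, s, o⟩ := RD.nb q
      exact ⟨z, s, c3 h hB f1 f2 s (by rw [e, ev_sub, X.ev_pw, X.ev_pw, pair_neg_left]; rw [Int.odd_iff] at o; omega)⟩
    have k := R.pair_mul_pair_lt c e
    rw [RD.sym q (RD.map (T.aut n) (T.cτ n) q)] at k
    refine ⟨y, q, c3 h hB f1 f2 q ?_⟩
    rw [ev_sub, X.ev_pw, X.ev_pw, pair_self]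
    generalize R.pair (T.π n y) y = m at k
    have : m < 2 := by nlinarith
    have : -2 < m := by nlinarith
    omega
  exact RD.conn (Q := fun x => T.a x ∈ Y) (fun x y p q o k => c3 h hB k (chb p) q (by rw [X.ev_pw]; rw [Int.odd_iff] at o; omega)) s p t

theorem c5 (hS : S.1 ≤ T.N) (h0 : Y ≠ ⊥) (p : X.P x) : T.a x ∈ Y := by
  obtain ⟨⟨t, a⟩, b⟩ := ne_bot_iff_exists_ne_one.1 h0
  by_cases c : T.π ⟨t, hS (h.1 a)⟩ = 1
  swap
  · exact c4 h hB (cl_of a) c p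
  obtain ⟨⟨s, s1⟩, s2⟩ := exists_prime_orderOf_dvd_card' (G := zpowers t) 2 (((pg_zp (cl_pel h (cl_of a)).choose_spec).card_eq_or_dvd).resolve_left
    fun e => b (Subtype.ext (by simpa using e)))
  have s3 := zpowers_le.2 ((T.ker _).1 c) s1
  have s4 := zpowers_le.2 a s1
  replace s2 : orderOf s = 2 := (orderOf_coe _).trans s2
  obtain ⟨m, m1, m2⟩ := exists_bv s3 (by rw [← pow_two, ← s2, pow_orderOf_eq_one])
  obtain ⟨y, q, o⟩ := (X.f6 m m1).resolve_left fun e => by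
    rw [T.inj _ s3 fun r => by simp [m2.2, e, ev]] at s2; simp at s2
  have k : T.χ s y = T.i ^ 2 := by rw [m2.2, ieq2, two_smul, ev_add]; rw [Int.odd_iff] at o; omega
  rcases q with q | q
  · obtain ⟨g, k, e⟩ := T.s1 y q s s3 k
    exact c4 h hB (n := ⟨_, k⟩) (cl_conj (cl_of s4) g) (fun f => R.neg_ne y (by simpa [f] using (DFunLike.congr_fun e y).symm)) p
  · obtain ⟨g, k, e⟩ := T.s2 y q s s3 k
    exact c4 h hB (n := ⟨_, k⟩) (cl_conj (cl_of s4) g) (fun f => R.neg_ne y (by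
      simpa [f, R.refl_eq_self_of_pair ((R.pair_eq_zero_iff ..).1 q.2.1)] using (DFunLike.congr_fun e y).symm)) p

end

variable (T X)

/-- the involution which is central in a Sylow subgroup -/
def z : Γ := T.a (X.a 0) * T.a (X.b 0) * (T.a (X.a 0) * T.a (X.b 0))
/-- its centralizer in `N` -/
def N1 : Subgroup Γ := T.N ⊓ centralizer {T.z X}
/-- the action on the roots -/
def π1 : T.N1 X →* Perm ι := T.π.comp (inclusion inf_le_left)

theorem chz : T.Ch (T.z X) (2 • X.f 0) :=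
  have k := (chb (T := T) (X.g 0).1).mul (chb (X.g 0).2.1)
  two_smul ℕ (X.f 0) ▸ X.hf 0 ▸ k.mul k

theorem z_sq : T.z X * T.z X = 1 := T.inj _ ((T.chz X).mul (T.chz X)).1 fun r => by
  rw [((T.chz X).mul (T.chz X)).2, ieq1, two_smul, ev_add, ev_add]; omega

variable {T X}

theorem mem_N1 (n : T.N) (h : Ev (act R (T.π n) (X.f 0) - X.f 0)) : n.1 ∈ T.N1 X :=
  ⟨n.2, mem_centralizer_singleton_iff.2 (by
    have := ((T.chz X).cj n⁻¹).eq (T.chz X) fun j => by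
      have := h j
      simp only [two_smul, act_add, map_inv, inv_inv, Pi.add_apply, Pi.sub_apply, Int.even_iff] at this ⊢; omega
    conv_lhs => rw [← this]
    simp [mul_assoc])⟩

theorem ev_N1 (n : T.N1 X) (h : Ev (u - X.f 0)) : Ev (act R (T.π1 X n) u - X.f 0) := by
  have : Ev (act R (T.π1 X n) (X.f 0) - X.f 0) := fun j => by
    have := (T.chz X).fix (n := ⟨n, n.2.1⟩) (mem_centralizer_singleton_iff.1 n.2.2) (R.simple j)
    simp only [two_smul, ev_add, ev_simple, Pi.add_apply] at this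
    change Even (ev R _ (T.π ⟨n, n.2.1⟩ _) - _)
    rw [Int.even_iff]; omega
  simpa using (h.act (R := R) (T.π1 X n)).add this

theorem exists_θ : ∃ θ : T.N1 X →* Perm (Fin (X.n + 1)), ∀ n i k, θ n i = k ↔ X.Tq (T.π1 X n) i k := by
  choose f hf using fun n : T.N1 X => RD.exists_tq (X := X) (w := T.π1 X n) (T.aut _) (T.cτ _) (by
    simpa using ev_N1 n⁻¹ (u := X.f 0) fun j => by simp)
  let _ : MulAction (T.N1 X) (Fin (X.n + 1)) :=
    { smul := f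
      one_smul := fun i => (hf 1 i).uniq (T.aut _) (by simp [RD.Tq, Sg])
      mul_smul := fun a b i => (hf _ i).uniq (T.aut _) (map_mul (T.π1 X) a b ▸ (hf b i).mul (T.aut _) (hf a _)) }
  exact ⟨MulAction.toPermHom _ _, fun n i k => ⟨fun e => e ▸ hf n i, (hf n i).uniq (T.aut _)⟩⟩

theorem sq1 (n : T.N1 X) (h : ∀ i, X.Tq (T.π1 X n) i i) : T.π1 X n * T.π1 X n = 1 := by
  have a : T.π1 X n ∈ R.Aut := T.aut _
  refine RD.eq_one (X := X) (mul_mem (T.mW _) (T.mW _)) (fun i => ?_) (X.h3.2.2.1.imp_right fun e => ?_)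
  · rw [act_mul a]
    rcases h i with e | e <;> simp [e]
  rcases X.h1 _ _ X.h3.2.1 (RD.map a (T.cτ _) X.h3.2.1) (by simpa [X.pw_act a] using e.sub (ev_N1 n⁻¹ e)) with e | e <;>
    simp [e, Aut.neg a]

theorem tsq (X : RD R τ) (r : ι) : ∃ t ∈ T.D, T.χ t r = T.i ^ 2 :=
  let ⟨x, p, o⟩ := X.h5 r
  have k := (chb (T := T) p).mul (chb p)
  ⟨_, k.1, by rw [k.2, ieq2, ev_add]; rw [Int.odd_iff] at o; omega⟩

theorem lift1 (X : RD R τ) (h : τ x = x) : R.refl x ∈ T.π.range :=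
  let ⟨t, a, b⟩ := tsq (T := T) X x; let ⟨_, k, e⟩ := T.s1 x h t a b; ⟨_, e⟩

theorem lift2 (X : RD R τ) (h : τ x = x ∧ τ y = y ∨ y = τ x ∧ S2 R τ x) : R.refl x * R.refl y ∈ T.π.range :=
  h.elim (fun h => mul_mem (lift1 X h.1) (lift1 X h.2)) fun h =>
    let ⟨t, a, b⟩ := tsq (T := T) X x; let ⟨_, k, e⟩ := T.s2 x h.2 t a b; ⟨_, h.1 ▸ e⟩

theorem exists_S : ∃ S : Sylow 2 Γ, T.B ≤ S ∧ S.1 ≤ T.N1 X ∧ nz S.1 ≤ T.N1 X := by
  obtain ⟨θ, hθ⟩ := exists_θ (T := T) (X := X)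
  have hE : IsPGroup 2 (θ.ker.map (T.π1 X)) := by
    rintro ⟨_, n, a, rfl⟩
    exact ⟨1, Subtype.ext ((pow_two _).trans (sq1 n fun i => (hθ n i i).1 (by rw [a]; rfl)))⟩
  obtain ⟨P, a, b⟩ := exists_syl (p := 2) (((θ.ker.map (T.π1 X)).comap (T.π1 X)).map (T.N1 X).subtype)
  have c := le_map_syl hE (map_le_range _ _) b
  have d : T.B ≤ P := b.le_of_normal B_pg (fun d h => ⟨⟨d, T.le h.1, mem_centralizer_singleton_iff.2 (comm h.1 (T.chz X).1)⟩,
    mem_comap.2 (((T.ker ⟨d, T.le h.1⟩).2 h.1 : T.π1 X ⟨d, _⟩ = 1) ▸ one_mem _), rfl⟩) ((map_subtype_le _).trans (inf_le_left.trans B_nz))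
  obtain ⟨S, e⟩ := syl' a (b.le.trans (map_subtype_le _)) fun Y u v w g hg => by
    have k := nq (X := X) u (w.trans inf_le_left) (fun x p => v (d (chb p).B)) hg
    refine ⟨k, mem_centralizer_singleton_iff.2 (mul_inv_eq_iff_eq_mul.1 ?_)⟩
    obtain ⟨m, m1, m2⟩ := exists_bv (cj_mem (T.chz X).1 k) (by rw [conj_mul, z_sq]; simp)
    have f : ∀ s ∈ T.π.range, (∀ l, X.Tq s l l) → Ev (bv m - act R s (bv m)) := by
      rintro _ ⟨n, rfl⟩ t j
      obtain ⟨y, y1, y2⟩ := c ⟨⟨n, mem_N1 n (t 0).ev⟩, Equiv.ext fun l => (hθ _ l l).2 (t l), rfl⟩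
      have := m2.fix (n := ⟨y, y.2.1⟩) (by
        simpa [mul_assoc] using Commute.map (mem_centralizer_singleton_iff.1 (w (conj_mem_of_mem_nz' hg (v y1))).2) (MulAut.conj g))
        (R.simple j)
      rw [show T.π ⟨y, y.2.1⟩ = T.π n from y2] at this
      simp only [two_smul, ev_add, ev_simple, Pi.add_apply] at this
      change Even (_ - ev R _ _)
      rw [Int.even_iff]; omega
    have f1 : ∀ x ∈ X.L1, Ev (ev R (bv m) x • X.pw x) := fun x hx => by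
      simpa only [X.act_refl, sub_sub_cancel] using f _ (lift1 X (X.k1 x hx).1) fun l => by
        simpa only [RD.Tq, X.act_refl] using (X.k1 x hx).2 l
    have f2 : ∀ x ∈ X.L2, Ev (ev R (bv m) x.1 • X.pw x.1 + ev R (bv m) x.2 • X.pw x.2) := fun x hx => by
      have t := X.ev_pw _ _ ▸ (X.k2 x hx).1
      simpa only [X.act_refl2 t, sub_sub, sub_sub_cancel] using f _ (lift2 X (X.k2 x hx).2.1) fun l => by
        simpa only [RD.Tq, X.act_refl2 t] using (X.k2 x hx).2.2 l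
    rcases X.f5 m m1 f1 f2 with s | s
    · rw [conj_eq_one_iff.1 (T.inj _ m2.1 fun r => by simp [m2.2, s, ev])]; simp
    · exact m2.eq (T.chz X) fun j => by
        have := s j
        simp only [two_smul, Pi.add_apply, Pi.sub_apply, Int.even_iff] at this ⊢; omega
  exact ⟨S, d.trans e.1, e.2⟩

theorem sf (T : TD R τ Γ M) (X : RD R τ) (hp : commutator Γ = ⊤) (hz : center Γ = ⊥) : SF Γ := by
  obtain ⟨θ, hθ⟩ := exists_θ (T := T) (X := X)
  obtain ⟨S, a, b, c⟩ := exists_S (T := T) (X := X)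
  have b' := b.trans inf_le_left
  have sw : ∀ Y, SCl S.1 Y → Y ≠ ⊥ → ∀ i j, i ≠ j → ∃ y : T.N1 X, y.1 ∈ Cl Y ∧ θ y = Equiv.swap i j := fun Y h h0 i j n => by
    obtain ⟨x, p, e1, e2, e3⟩ := X.f3 i j n
    obtain ⟨g, k, e⟩ := T.s1 x ((X.hP x).1 p).1 _ (chb p).1 (by rw [(chb p).2, X.ev_pw, pair_self, zpow_ofNat])
    have m := mem_N1 (X := X) ⟨_, k⟩ fun l => by simpa [e, X.act_refl] using e1.mul_right _
    have t : ∀ l s, X.Tq (R.refl x) l s → θ ⟨_, m⟩ l = s := fun l s u => (hθ _ l s).2 (e ▸ u :)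
    have t1 : X.Tq (R.refl x) i j := by simpa only [RD.Tq, X.act_refl] using e2
    refine ⟨⟨_, m⟩, cl_conj (cl_of (c5 h a b' h0 p)) g, Equiv.ext fun l => ?_⟩
    rw [swap_apply_def]
    split_ifs with u v
    · exact u ▸ t i j t1
    · exact v ▸ t j i (by simpa [RD.Tq, ← act_mul (R.refl_mem_Aut x)] using (Sg.act (R := R) t1 (R.refl x)).symm)
    · exact t l l (by simp [RD.Tq, X.act_refl, e3 l u v, Sg])
  have d : S.1 ≠ ⊥ := fun e => let ⟨_, _, o⟩ := RD.nb (X.g 0).1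
    (chb (T := T) (X.g 0).1).sq_ne (by rwa [X.ev_pw]) (by rw [mem_bot.1 (e.le (a (chb (X.g 0).1).B)), one_mul])
  have hθ' := surj_of_swap fun i j e => (sw S (scl_self _) d i j e).imp fun _ k => k.2
  have q : ∀ n, θ n = 1 → T.π1 X n * T.π1 X n = 1 := fun n e => sq1 n fun i => (hθ n i i).1 (by rw [e]; rfl)
  have e : ∀ x ∈ nz S.1, Odd (orderOf x) → x ∈ cz S.1 := fun x u v => mem_cz'.2 fun s hs => by
    have k : x ∈ T.D := (T.ker ⟨x, (c u).1⟩).1 ((pow_eq_one_iff_of_coprime (Nat.coprime_two_right.2 v)).1 ⟨by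
      rw [← map_pow, show (⟨x, (c u).1⟩ : T.N) ^ orderOf x = 1 from Subtype.ext (pow_orderOf_eq_one x), map_one],
      (pow_two _).trans (q ⟨x, c u⟩ (sn' b hθ' _ u v))⟩)
    obtain ⟨n, f⟩ := S.isPGroup' ⟨s * (x * s⁻¹ * x⁻¹), mul_mem hs (conj_mem_of_mem_nz u (inv_mem hs))⟩
    have := (pow_eq_one_iff_of_coprime (a := s * (x * s⁻¹ * x⁻¹)) ((Nat.coprime_two_right.2 v).pow_right n)).1 ⟨(by
      rw [← mul_assoc, ← mul_assoc, (comm (cj_mem k (b' hs)) (inv_mem k)).mul_pow, conj_pow, inv_pow, pow_orderOf_eq_one]; simp),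
      congrArg Subtype.val f⟩
    rwa [← mul_assoc, ← mul_assoc, mul_inv_eq_one, mul_inv_eq_iff_eq_mul] at this
  refine core' (.id Γ) S surjective_id (by rw [hz, MonoidHom.ker_id]) (by rwa [hz, le_bot_iff]) (fun Y hY n => ?_)
    fun x u v => gd_cz le_rfl (e x u v)
  rw [hz, le_bot_iff] at n
  refine le_of_steps (D := T.D) hp hY ((nq (X := X) (S.isPGroup'.to_le hY.1) (hY.1.trans b') fun x p => c5 hY a b' n p).trans
    fun g k => mem_nz_of_conj_mem fun _ l => cj_mem l k)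
    (der_le_sup (K := θ.ker.map (T.N1 X).subtype) hY (fun s hs => ?_) (commutator_le.2 ?_))
    (commutator_le.2 fun x u y v => commutatorElement_eq_one_iff_commute.2 (comm u.2 v.2) ▸ one_mem _) e
  · obtain ⟨t, u, v⟩ := wey' b hY (sw Y hY n) ⟨s, b hs⟩ hs
    simpa using mul_mem (mem_sup_left u) (mem_sup_right (show t.1⁻¹ * s ∈ S.1 ⊓ θ.ker.map (T.N1 X).subtype from
      ⟨S.1.mul_mem (S.1.inv_mem (hY.1 u)) hs, t⁻¹ * ⟨s, b hs⟩, by simp [MonoidHom.mem_ker, v], rfl⟩))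
  · rintro _ ⟨u1, x, u2, rfl⟩ _ ⟨v1, y, v2, rfl⟩
    refine mem_sup_right ⟨S.1.mul_mem (S.1.mul_mem (S.1.mul_mem u1 v1) (S.1.inv_mem u1)) (S.1.inv_mem v1),
      (T.ker ⟨_, (⁅x, y⁆).2.1⟩).1 (show T.π1 X ⁅x, y⁆ = 1 from ?_)⟩
    rw [map_commutatorElement, commutatorElement_def, inv_eq_of_mul_eq_one_right (q x u2), inv_eq_of_mul_eq_one_right (q y v2),
      mul_assoc, ← map_mul, q _ (mul_mem u2 v2)]

end TD

theorem mt : MT := fun _ _ _ _ _ _ _ _ _ _ _ _ _ X T => T.sf X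

end H27.FX
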