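/-
S5161, exceptional groups in odd characteristic: the glue.
-/
import Cfsg.Agent.H27.FX2
import Cfsg.Agent.H27.FX3
import Cfsg.Agent.H14.FX2
import Cfsg.Agent.S1054
import Cfsg.Agent.S1055
import Cfsg.Agent.S1070
import Cfsg.Agent.S1071

set_option autoImplicit false
set_option maxRecDepth 100000

namespace H27.FX
open H14 H14.RootSys H14.St H14.PreSt Equiv Cfsg Cfsg.Lie H11 H11.AS H27.FK H27.ID

theorem sf_em {D : ChevalleyDatum} (X : Good D) {K Γ : Type} [Field K] [IsAlgClosed K] [Group Γ] [Finite Γ] {Φ : (X.SG K).Fr}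
    {p q : ℕ} [Fact p.Prime] [CharP K p] {e : Γ →* _} (h : Em p Φ e) (hq : ∀ r, Φ.p ^ Φ.e r = q) (h1 : 1 < q) (ho : Odd q)
    {τ τ' : Perm _} (A : RD X.R τ) (B : RD X.R τ') (hρ : Φ.ρ = τ) (L : List _) (hL : ∀ r, L.foldr X.R.sref (τ r) = X.R.neg (τ' r))
    (hs : IsSimpleGroup Γ ∧ ¬ IsMulCommutative Γ) : SF Γ := by
  have := X.nonempty_roots
  have := hs.1
  have a1 : Subgroup.center Γ = ⊥ := (Subgroup.Normal.eq_bot_or_eq_top inferInstance).resolve_right fun c =>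
    hs.2 ⟨⟨fun x y => (Subgroup.mem_center_iff.1 (c ▸ Subgroup.mem_top y) x)⟩⟩
  have a2 : commutator Γ = ⊤ := (Subgroup.Normal.eq_bot_or_eq_top inferInstance).resolve_left fun c =>
    hs.2 ⟨⟨fun x y => commutatorElement_eq_one_iff_mul_comm.1 (Subgroup.mem_bot.1 (c.le
      (Subgroup.commutator_mem_commutator (Subgroup.mem_top x) (Subgroup.mem_top y))))⟩⟩
  rcases Nat.odd_mod_four_iff.1 (Nat.odd_iff.1 ho) with c | c
  · obtain ⟨T⟩ := H14.FX.lt _ _ _ _ _ _ τ _ _ Φ p q e h (X.center_eq_bot _) hq (.inl ⟨c, fun _ => hρ ▸ rfl⟩) h1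
    exact T.sf A a2 a1
  · obtain ⟨e', h'⟩ := h.tw (nprod_mem_NW L)
    obtain ⟨T⟩ := H14.FX.lt _ _ _ _ _ _ τ' _ _ _ p q e' h' (X.center_eq_bot _) hq (.inr ⟨c, fun r => by
      rw [← hL, ← hρ, ← wprod_apply]; rfl⟩) h1
    exact T.sf B a2 a1

def wE6 : List ℕ := [0, 1, 2, 0, 3, 1, 2, 0, 3, 2, 4, 3, 1, 2, 0, 3, 2, 4, 3, 1, 5, 4, 3, 1, 2, 0, 3, 2, 4, 3, 1, 5, 4, 3, 2, 0]
def wE7 : List ℕ := wE6 ++ [6, 5, 4, 3, 1, 2, 0, 3, 2, 4, 3, 1, 5, 4, 3, 2, 0, 6, 5, 4, 3, 1, 2, 3, 4, 5, 6]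
def wE8 : List ℕ := wE7 ++ [7, 6, 5, 4, 3, 1, 2, 0, 3, 2, 4, 3, 1, 5, 4, 3, 2, 0, 6, 5, 4, 3, 1, 2, 3, 4, 5, 6, 7, 6, 5, 4, 3, 1, 2, 0,
  3, 2, 4, 3, 1, 5, 4, 3, 2, 0, 6, 5, 4, 3, 1, 2, 3, 4, 5, 6, 7]

theorem exo : EXo := fun F _ _ ho => by
  obtain ⟨p, _⟩ := CharP.exists F
  have := Fact.mk (CharP.char_is_prime F p)
  have h0 : p ≠ 2 := by
    rintro rfl
    exact Nat.not_even_iff_odd.2 ho (even_card_of_two_eq_zero (CharP.cast_eq_zero F 2))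
  have k : ∀ {D} (X : Good D) {τ} (_ : RD X.R 1) (_ : RD X.R τ) (L : List _), (∀ r, L.foldr X.R.sref r = X.R.neg (τ r)) →
      IsSimpleGroup (D.group F) ∧ ¬ IsMulCommutative (D.group F) → SF (D.group F) := fun X _ A B L hL hs => by
    obtain ⟨Φ, b1, b2, b3⟩ := exists_em₁ (alg_good X) (cok_good X) h0 (X.mapG_inj (algebraMap F _)) (X.mapG_x _) (X.SG_sep F)
      (X.SG_top F)
    exact sf_em X b3 b2.hq b2.lt ho A B b1 L hL hs
  refine ⟨⟨k _ rdG2 rdG2 [0, 1, 0, 1, 0, 1] (by decide +kernel) (Agent.S1055.result ⟨-1, by simp, fun e => h0 ?_⟩),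
    k _ rdF4 rdF4 [0, 1, 2, 3, 0, 1, 2, 3, 0, 1, 2, 3, 0, 1, 2, 3, 0, 1, 2, 3, 0, 1, 2, 3] (by decide +kernel)
      (Agent.S1054.result _ (by simp)),
    k _ rdE6 rdE6t (wE6.map (Fin.ofNat 6)) (by decide +kernel) (Agent.S1054.result _ (by simp)),
    k _ rdE7 rdE7 (wE7.map (Fin.ofNat 7)) (by decide +kernel) (Agent.S1054.result _ (by simp)),
    k _ rdE8 rdE8 (wE8.map (Fin.ofNat 8)) (by decide +kernel) (Agent.S1054.result _ (by simp))⟩, fun q hq => ⟨fun hK => ?_, fun hK => ?_⟩⟩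
  · exact (Nat.prime_dvd_prime_iff_eq this.1 Nat.prime_two).1 ((CharP.cast_eq_zero_iff F p 2).1 (by
      linear_combination -e))
  · obtain ⟨φ, a1, hφ⟩ := E6.exists_hom hq hK
    have hT := E6.isTw (h2 := a1) hφ
    obtain ⟨Φ, b1, b2, b3⟩ := exists_em (alg_good goodE6) (cok_good _) h0 (goodE6.mapG_inj (algebraMap F _))
      (goodE6.mapG_x _) hK two_ne_zero _ (fun f => goodE6.tw okgrE6 (GrD.fits_zero rfl rfl _)
        (iterateFrobenius _ p f) fun x => IsAlgClosed.exists_pow_nat_eq x (pow_pos this.1.pos f)) (fun _ => rfl)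
      (fun s t => hφ t ▸ goodE6.tw_f' okgrE6 rfl rfl _ _ s t) (fun f => goodE6.tw_f' okgrE6 rfl rfl _ _) (fun f s t => by
        have := (by decide +kernel : ∀ s, okgrE6.rho (okgrE6.rho s) = s ∧ grE6.gam (okgrE6.rho s) * (grE6.gam s * 1) = 1) s
        exact (Tw.iter _ (goodE6.tw_f' okgrE6 rfl rfl _ _) 2 s t).trans (congrArg₂ _ this.1
          ((congrArg (fun z : ℤ => (z : AlgebraicClosure F) * _) this.2).trans (by simp [iterateFrobenius_def]))))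
      (.inr (by decide +kernel)) hT.emb.inj hT.emb.mem fun g hg _ _ => hT.emb.lift hg
    exact sf_em _ b3 b2.hq b2.lt ((Nat.odd_pow_iff two_ne_zero).1 (hK ▸ ho)) rdE6t rdE6 b1 (wE6.map (Fin.ofNat 6)) (by decide +kernel)
      (Agent.S1070.result hq hK)
  · obtain ⟨Φ, ε, a1, a2, a3, a4⟩ := D4.exists_fr F hq hK
    exact sf_em (p := p) _ ⟨a1, fun g => a2.le ⟨g, rfl⟩, fun g hg _ _ => a2.ge hg⟩ a4 hq.one_lt
      ((Nat.odd_pow_iff three_ne_zero).1 (hK ▸ ho)) rdD4t rdD4t a3 [0, 1, 0, 2, 1, 0, 3, 1, 0, 2, 1, 3] (by decide +kernel)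
      (Agent.S1071.result hq hK)

end H27.FX
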