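import Cfsg.Agent.H27.KD
import Cfsg.Agent.H14.TwE6

/-! Doubly transitive actions of groups of Lie type: the types `E₆`, `E₇`, `E₈` and `²E₆`. -/

set_option autoImplicit false
set_option linter.unusedSectionVars false
set_option maxRecDepth 100000

namespace H27.K

open Finset H8 H14 H14.RootSys H14.St H14.PreSt H14.St.Tw H11.Mn MulAction Cfsg.Lie H14.Good

section

variable {ι κ : Type*} [Fintype κ] [DecidableEq κ] [Fintype ι] [DecidableEq ι] {R : RootSys ι κ} {α β γ δ r s : ι}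
  {C : Chev R} {K G : Type*} [Field K] [Group G] {S : St C K G} {Γ : Type*} [Group Γ] {T : S.Tw} {e : Γ →* G}
  {F : Type*} [Field F] [DecidableEq F]

variable (R) in
/-- the root data needed in the simply laced case -/
def SL (ρ : Equiv.Perm ι) (J : κ → Bool) (a : ℕ) : Prop := ∃ α, (∀ j, 0 ≤ R.wt α j) ∧ (∀ γ, (∀ j, 0 ≤ R.wt γ j) → γ = α) ∧
  ce R α = a ∧ (∀ j, R.wt α j = 0 ↔ J j) ∧ (∃ β, R.pair α β = 0 ∧ ρ β = β ∧ 0 < R.ht β ∧ 1 ≤ ce R β) ∧
    ∃ γ, R.pair α γ = 1 ∧ ρ γ = γ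

instance (ρ : Equiv.Perm ι) (J : κ → Bool) (a : ℕ) : Decidable (SL R ρ J a) := by unfold SL; infer_instance

namespace RD

variable (D : RD T e F) [Finite K] [Finite Γ] [Fintype F] (p : ℕ) [Fact p.Prime] [CharP K p]
  {Ω : Type*} [MulAction Γ Ω] [Fintype Ω]
include p

theorem hl' (h : Hi R α) (hA : Act Γ Ω) (hf : (D.lr (D.hi h) h.dom).Fpf Ω)
    (hN : ∀ β γ δ, R.cf β = R.cf γ + R.cf δ → (R.down γ δ + 1 : K) ≠ 0) (hβ : Lg R T.ρ β) (hp : R.pos β)
    (h0 : R.pair α β = 0) (hb : 1 ≤ ce R β) {q a c k : ℕ} {u v : ℤ} (hq : Fintype.card F = q) (ha : ce R α = a) (hk : k ≠ 0)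
    (hc : (D.lr (D.hi h) h.dom).P.index = c) (hi : (c : ℤ) * (q - 1) = u * (q ^ k * q ^ (a + 1) - 1)) (hv : 0 ≤ v)
    (h2 : (u + v) * (q ^ k - 1) = q ^ (a + 1) - 1) : False := by
  have q1 : 1 < q := hq ▸ Fintype.one_lt_card
  have k1 := Nat.one_lt_pow hk q1
  have a1 := Nat.one_le_pow (a + 1) q (by omega)
  have a2 : q ^ (a + 1) * 2 ≤ q ^ (a + (ce R β + 1)) := le_trans (Nat.mul_le_mul_left _ q1) (by
    rw [← pow_succ]; exact Nat.pow_le_pow_right q1.le (by omega))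
  have c0 : 0 < c := hc ▸ Nat.pos_of_ne_zero Subgroup.index_ne_zero_of_finite
  have a3 : 1 < q ^ k * q ^ (a + 1) := by nlinarith
  have u0 : 0 < u := (pos_iff_pos_of_mul_pos (hi ▸ mul_pos (by omega) (by omega))).2 (by zify at a3; omega)
  lift u to ℕ using u0.le
  have h3 : u * (q ^ k - 1) ≤ q ^ (a + 1) - 1 := by zify [k1.le, a1] at k1 ⊢; nlinarith
  have h4 : u * 1 ≤ u * (q ^ k - 1) := Nat.mul_le_mul_left _ (by omega)
  have h5 := Nat.mul_sub_one u (q ^ k)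
  refine D.hl p h hA hf hN hβ hp h0 (u := u) (k := k) hq ha rfl (by rw [hc]; zify [q1.le, a3.le]; exact hi) (by omega)
    (by omega) h3 (by rw [mul_comm]; omega) fun _ => by omega

/-- the simply laced types with many roots -/
theorem sl_end [Finite G] {X : Type*} [Group X] [MulAction X Ω] {f : Γ →* X} (hf : Su Ω f) (hc : R.Conn) {i j : κ} (hj : j ∉ T.orb i)
    (hG : Gen (D.tw.sb p)) (hd : ∀ r, R.d r = 1) {J : κ → Bool} {q a c : ℕ} (h : SL R T.ρ J a) {u v : ℤ} (hq : Nat.card F = q)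
    (hP : R.poin T.ρ Set.univ q = c * R.poin T.ρ {j | J j} q) (hi : (c : ℤ) * (q - 1) = u * (q ^ 1 * q ^ (a + 1) - 1)) (hv : 0 ≤ v)
    (h2 : (u + v) * (q ^ 1 - 1) = q ^ (a + 1) - 1) : D1 X (Fintype.card Ω) := by
  obtain ⟨α, h1, h3, h4, h5, ⟨β, b1, b2, b3, b4⟩, γ, c1, c2⟩ := h
  have h : Hi R α := ⟨by simp [hd], h1, fun γ _ => h3 γ⟩
  subst hq
  exact (D.dich p hf hc hj hG).resolve_right fun t => D.hl' p h hf.act (D.fpf_line p h ⟨c2, by simp [hd]⟩ c1 hf.act t)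
    (fun _ => N_ne_of_d hd) ⟨b2, by simp [hd]⟩ ((R.pos_iff_ht_pos _).2 b3) b1 b4 Nat.card_eq_fintype_card.symm h4 one_ne_zero
    (D.index_of _ _ (Set.ext h5) hP) hi hv h2

end RD

end

theorem step {T : Tab} {D : ChevalleyDatum} (h : T.Ok D) {m m' r dT : ℕ} {c : List ℕ} (hm : ∀ j : Fin D.rank, m.testBit j)
    (hc : T.okStep D (fun _ => true) m m' r dT c = true) (q : ℕ) :
    h.rootSys.poin 1 Set.univ q = polyN c q * h.rootSys.poin 1 (msk _ m') q :=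
  msk_univ hm ▸ h.poin_step_one hc q

theorem en_of {D : ChevalleyDatum} (X : Good D) (g : GEN1) (F : Type) [Field F] [Fintype F] (hd : ∀ r, X.R.d r = 1) {m a c : ℕ}
    (h : SL X.R 1 (fun j => m.testBit j) a) {u v : ℤ} {q : ℕ} (hq : Nat.card F = q)
    (hP : X.R.poin 1 Set.univ q = c * X.R.poin 1 (msk _ m) q) (hi : (c : ℤ) * (q - 1) = u * (q ^ 1 * q ^ (a + 1) - 1)) (hv : 0 ≤ v)
    (h2 : (u + v) * (q ^ 1 - 1) = q ^ (a + 1) - 1) : Fam (D.group F) := fun Ω _ _ _ hs h2t => by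
  classical
  obtain ⟨p, _⟩ := CharP.exists F
  haveI := Fact.mk (CharP.char_is_prime F p)
  let E := rdId (X.SG_sep F) (X.SG_top F) (X.SG_hmul F)
  have := X.two_le
  exact .inl (E.sl_end p (su_id hs h2t) X.conn (i := ⟨0, by omega⟩) (j := ⟨1, by omega⟩)
    (by change ¬ Equiv.Perm.SameCycle 1 _ _; simp) (g p E hd) hd h hq hP hi hv h2)

theorem en : EN := fun g F _ _ => by
  obtain ⟨q, hq⟩ : ∃ q, Nat.card F = q := ⟨_, rfl⟩
  refine ⟨en_of goodE6 g F (fun r => (goodE6.hd r).elim id id) (m := 61) (a := 10) (by decide +kernel) hq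
      (u := polyN [1, 0, 0, 1, 1, 0, 1, 1, 0, 0, 1] q) (v := polyN [0, 1, 1, 0, 0, 1, 0, 0, 1, 1, 0] q)
      (step okE6 (m := 63) (r := 71)
        (c := [1, 1, 1, 2, 3, 3, 4, 5, 5, 5, 6, 6, 5, 5, 5, 4, 3, 3, 2, 1, 1, 1])
        (dT := 0x1020304050405060607080708090a0b05060707080908090a0b08090a0b090a0b0a0b0b0c0c0d0c0d0e0c0d0e0f0c0d0e0f0e0f101011120c0d0e0f100f10111112131213141516)
        (by decide) (by decide +kernel) q) ?_ (Int.natCast_nonneg _) ?_,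
    en_of goodE7 g F (fun r => (goodE7.hd r).elim id id) (m := 126) (a := 16) (by decide +kernel) hq
      (u := polyN [1, 0, 0, 0, 1, 0, 1, 0, 1, 0, 1, 0, 1, 0, 0, 0, 1] q)
      (v := polyN [0, 1, 1, 1, 0, 1, 0, 1, 0, 1, 0, 1, 0, 1, 1, 1, 0] q)
      (step okE7 (m := 127) (r := 125)
        (c := [1, 1, 1, 1, 2, 2, 3, 3, 4, 4, 5, 5, 6, 6, 6, 6, 7, 7, 6, 6, 6, 6, 5, 5, 4, 4, 3, 3, 2, 2, 1, 1, 1, 1])
        (dT := 0x102030405060705060708070809090a0b08090a0a0b0c0b0c0d0e0c0d0e0f1011090a0b0b0c0d0c0d0e0f0d0e0f10110d0e0f10110e0f10110f101110111112121312131412131415121314151612131415161415161716171818191a12131415161715161718171819191a1b18191a1a1b1c1b1c1d1e1c1d1e1f202122)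
        (by decide) (by decide +kernel) q) ?_ (Int.natCast_nonneg _) ?_,
    en_of goodE8 g F (fun r => (goodE8.hd r).elim id id) (m := 127) (a := 28) (by decide +kernel) hq
      (u := polyN [1, 0, 0, 0, 0, 0, 1, 0, 0, 0, 1, 0, 1, 0, 0, 0, 1, 0, 1, 0, 0, 0, 1, 0, 0, 0, 0, 0, 1] q)
      (v := polyN [0, 1, 1, 1, 1, 1, 0, 1, 1, 1, 0, 1, 0, 1, 1, 1, 0, 1, 0, 1, 1, 1, 0, 1, 1, 1, 1, 1, 0] q)
      (step okE8 (m := 255) (r := 239)
        (c := [1, 1, 1, 1, 1, 1, 2, 2, 2, 2, 3, 3, 4, 4, 4, 4, 5, 5, 6, 6, 6, 6, 7, 7, 7, 7, 7, 7, 8, 8, 7, 7, 7, 7, 7, 7,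
          6, 6, 6, 6, 5, 5, 4, 4, 4, 4, 3, 3, 2, 2, 2, 2, 1, 1, 1, 1, 1, 1])
        (dT := 0x10203040506070708090a0b0c0d08090a0b0c0d0e0b0c0d0e0f0d0e0f100f10111112130e0f10111011121213141112131314151415161712131414151615161718161718191a1718191a1b1c1d131415151617161718191718191a1b18191a1b1c1d18191a1b1c1d191a1b1c1d1a1b1c1d1b1c1d1c1d1d1e1e1f1e1f201e1f20211e1f2021221e1f202122231e1f202122232021222324222324252425262627281e1f20212223242122232425232425262526272728292425262726272828292a272829292a2b2a2b2c2d28292a2a2b2c2b2c2d2e2c2d2e2f302d2e2f303132332e2f30313233343435363738393a)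
        (by decide) (by decide +kernel) q) ?_ (Int.natCast_nonneg _) ?_⟩
  all_goals simp only [polyN, List.foldr]; push_cast; ring

theorem te6 : TE6 := fun g K _ _ q hq hK Ω _ _ _ hs h2t => by
  classical
  obtain ⟨φ, h2, hφ⟩ := E6.exists_hom hq hK
  obtain ⟨p, _⟩ := CharP.exists K
  haveI := Fact.mk (CharP.char_is_prime K p)
  haveI : Fintype (φ.eqLocusField (.id K)) := .ofFinite _
  have hK' := Nat.card_eq_fintype_card.trans hK
  have hF := card_fixF hq.one_lt hφ hK'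
  have hd : ∀ r, goodE6.R.d r = 1 := fun r => (goodE6.hd r).elim id id
  let E := rdTab (E6.isTw (h2 := h2) hφ) rfl (.inl rfl) ⟨by decide +kernel, by decide +kernel, by decide +kernel⟩
    (by decide +kernel) h2 (exists_φ_ne hq.one_lt hφ hK one_lt_two) hF (E6.card_Up (h2 := h2) hφ hq.one_lt hK')
  refine .inl (E.sl_end p (su_id hs h2t) goodE6.conn (i := 0) (j := 1)
    (by change ¬ okgrE6.pi.SameCycle _ _; decide +kernel) (g p E hd) hd (J := fun j => (61 : ℕ).testBit j) (a := 10)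
    (by change SL _ okgrE6.rho _ _; decide +kernel) hF (u := q ^ 10 - q ^ 7 + q ^ 6 + q ^ 4 - q ^ 3 + 1)
    (v := polyN [0, 1, 1, 2, 0, 1, 0, 2, 1, 1, 0] q)
    (msk_univ (l := chevE6.rank) (m := 63) (by decide) ▸ okE6.poin_step (fx := fun s => Nat.beq (dig 8 grE6.ρ s) s) (m := 63) (m' := 61) (r := 71)
      (c := [1, 1, 1, 0, 1, 1, 2, 1, 1, 1, 2, 2, 1, 1, 1, 2, 1, 1, 0, 1, 1, 1])
      (dT := 0x1020304050405060607080708090a0b05060707080908090a0b08090a0b090a0b0a0b0b0c0c0d0c0d0e0c0d0e0f0c0d0e0f0e0f101011120c0d0e0f100f10111112131213141516)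
      (fun _ => (E6.T φ h2).conj_mem_WJ (by change ∀ j ∈ _, okgrE6.pi j ∈ _; unfold msk; decide +kernel)) (E6.T φ h2).pos_ρ
      (fun s => by simp [Fin.ext_iff]; rfl) (by decide +kernel) q) ?_ (Int.natCast_nonneg _) ?_)
  all_goals simp only [polyN, List.foldr]; push_cast; ring

end H27.K
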