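import Cfsg.Agent.S0810
import Cfsg.Agent.H15.M.Tits
import Cfsg.Statements.S3114
import Cfsg.Statements.S3115
import Cfsg.Statements.S3051

/-! S5899, interface part 0: the list of groups and the chunks killing its members. -/

set_option autoImplicit false
set_option linter.unusedVariables false

namespace H27.MS
open Cfsg Subgroup
open scoped MatrixGroups

universe u

/-- `G` has a proper insoluble subgroup (the same as `H18.NC.NM`) -/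
def NM (G : Type*) [Group G] : Prop := ∃ H : Subgroup G, H ≠ ⊤ ∧ ¬ Group.IsSolvable H

/-- a chain `K₁ < K₂ < G` of insoluble subgroups -/
def Ch (G : Type*) [Group G] : Prop :=
  ∃ K₁ K₂ : Subgroup G, K₁ < K₂ ∧ K₂ ≠ ⊤ ∧ ¬ Group.IsSolvable K₁

theorem Ch.congr {G H : Type*} [Group G] [Group H] (e : G ≃* H) (h : Ch H) : Ch G := by
  obtain ⟨A, B, a, b, c⟩ := h
  have i := map_injective (f := e.symm.toMonoidHom) e.symm.injective
  refine ⟨A.map e.symm.toMonoidHom, B.map e.symm.toMonoidHom, lt_of_le_of_ne (map_mono a.le) fun k => a.ne (i k),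
    fun k => b (i (k.trans (map_top_of_surjective _ e.symm.surjective).symm)), fun k => c ?_⟩
  exact Cfsg.Agent.S0810.solv_congr (A.equivMapOfInjective e.symm.toMonoidHom e.symm.injective) k

theorem nm_congr {G H : Type*} [Group G] [Group H] (e : G ≃* H) (h : NM H) : NM G := by
  obtain ⟨A, b, c⟩ := h
  have i := map_injective (f := e.symm.toMonoidHom) e.symm.injective
  exact ⟨A.map e.symm.toMonoidHom, fun k => b (i (k.trans (map_top_of_surjective _ e.symm.surjective).symm)),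
    fun k => c (Cfsg.Agent.S0810.solv_congr (A.equivMapOfInjective e.symm.toMonoidHom e.symm.injective) k)⟩

/-- the conclusion of S5899 -/
def Go (G : Type*) [Group G] : Prop :=
    (∃ (F : Type) (_ : Field F) (_ : Fintype F) (r s : ℕ), r.Prime ∧ s.Prime ∧ Fintype.card F = 2 ^ (r * s) ∧
      Nonempty (G ≃* Matrix.ProjectiveSpecialLinearGroup (Fin 2) F)) ∨
    (∃ (F : Type) (_ : Field F) (_ : Fintype F) (r s : ℕ), r.Prime ∧ s.Prime ∧ Odd r ∧ Odd s ∧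
      Fintype.card F = 3 ^ (r * s) ∧ Nonempty (G ≃* Matrix.ProjectiveSpecialLinearGroup (Fin 2) F)) ∨
    (∃ (F : Type) (_ : Field F) (_ : Fintype F) (p : ℕ), p.Prime ∧ (p % 5 = 1 ∨ p % 5 = 4) ∧ Fintype.card F = p ∧
      Nonempty (G ≃* Matrix.ProjectiveSpecialLinearGroup (Fin 2) F)) ∨
    (∃ (F : Type) (_ : Field F) (_ : Fintype F) (p r : ℕ), p.Prime ∧ r.Prime ∧ Odd r ∧ (p = 5 ∨ p % 5 = 2 ∨ p % 5 = 3) ∧
      Fintype.card F = p ^ r ∧ Nonempty (G ≃* Matrix.ProjectiveSpecialLinearGroup (Fin 2) F)) ∨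
    (∃ (F : Type) (_ : Field F) (_ : Fintype F), Fintype.card F = 9 ∧ Nonempty (G ≃* Matrix.ProjectiveSpecialLinearGroup (Fin 2) F)) ∨
    (∃ (F : Type) (_ : Field F) (_ : Fintype F), Fintype.card F = 9 ∧ Nonempty (G ≃* Cfsg.PSU 3 F 3)) ∨
    (∃ (F : Type) (_ : Field F) (_ : Fintype F) (r s : ℕ), r.Prime ∧ s.Prime ∧ Odd r ∧ Odd s ∧
      Fintype.card F = 2 ^ (r * s) ∧ Nonempty (G ≃* Cfsg.Lie.Sz F (2 ^ ((r * s + 1) / 2))))

/-- every group in one of the lists S0482, S3051, S3114, S3115, `H18.NC.s2_list`, Bender -/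
def Kn (G : Type*) [Group G] : Prop :=
  (∃ (F : Type) (_ : Field F) (_ : Fintype F), 4 ≤ Fintype.card F ∧ Nonempty (G ≃* PSL(2, F))) ∨
  Lie.IsoSuzuki G ∨
  (∃ (F : Type) (_ : Field F) (_ : Fintype F), 3 ≤ Fintype.card F ∧ Nonempty (G ≃* PSL(3, F))) ∨
  (∃ (F : Type) (_ : Field F) (_ : Fintype F) (q : ℕ), Fintype.card F = q ^ 2 ∧ 3 ≤ q ∧ Nonempty (G ≃* PSU 3 F q)) ∨
  (∃ n : ℕ, 7 ≤ n ∧ Nonempty (G ≃* alternatingGroup (Fin n))) ∨
  (Spor.IsoM11 G ∨ Spor.IsoM22 G ∨ Spor.IsoM23 G) ∨ (Spor.IsoJ2 G ∨ Spor.IsoJ3 G) ∨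
  Nonempty (G ≃* H16.gen H15.Tits.g 6) ∨
  (∃ (F : Type) (_ : Field F) (_ : Fintype F), Fintype.card F = 9 ∧ Nonempty (G ≃* PSU 4 F 3)) ∨
  (∃ (F : Type) (_ : Field F) (_ : Fintype F), Fintype.card F = 3 ∧ Nonempty (G ≃* PSL(4, F))) ∨
  (∃ (F : Type) (_ : Field F) (_ : Fintype F), 3 ≤ Fintype.card F ∧ Nonempty (G ≃* PSp 2 F)) ∨
  (∃ (F : Type) (_ : Field F) (_ : Fintype F), Fintype.card F = 3 ∧ Nonempty (G ≃* Lie.chevG2.group F))

def KL2 : Prop := ∀ (F : Type) [Field F] [Fintype F], 4 ≤ Fintype.card F → NM PSL(2, F) → ¬ Ch PSL(2, F) →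
  Go PSL(2, F)
def KSz : Prop := ∀ (G : Type u) [Group G], Lie.IsoSuzuki G → NM G → ¬ Ch G → Go G
def KL3 : Prop := ∀ (F : Type) [Field F] [Fintype F], 4 ≤ Fintype.card F → Ch PSL(3, F)
def KL33 : Prop := ∀ (F : Type) [Field F] [Fintype F], Fintype.card F = 3 → ¬ NM PSL(3, F)
def KU3 : Prop := ∀ (F : Type) [Field F] [Fintype F] (q : ℕ), Fintype.card F = q ^ 2 → 4 ≤ q → Ch (PSU 3 F q)
def KA : Prop := ∀ n : ℕ, 7 ≤ n → Ch (alternatingGroup (Fin n))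
def KM : Prop := ∀ (G : Type u) [Group G], Spor.IsoM11 G ∨ Spor.IsoM22 G ∨ Spor.IsoM23 G → Ch G
def KJ : Prop := ∀ (G : Type u) [Group G], Spor.IsoJ2 G ∨ Spor.IsoJ3 G → Ch G
def KT : Prop := Ch (H16.gen H15.Tits.g 6)
def KU4 : Prop := ∀ (F : Type) [Field F] [Fintype F], Fintype.card F = 9 → Ch (PSU 4 F 3)
def KL4 : Prop := ∀ (F : Type) [Field F] [Fintype F], Fintype.card F = 3 → Ch PSL(4, F)
def KSp : Prop := ∀ (F : Type) [Field F] [Fintype F], 3 ≤ Fintype.card F → Ch (PSp 2 F)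
def KG : Prop := ∀ (F : Type) [Field F] [Fintype F], Fintype.card F = 3 → Ch (Lie.chevG2.group F)

theorem Go.congr {G H : Type*} [Group G] [Group H] (e : G ≃* H) (h : Go H) : Go G := by
  rcases h with ⟨F, _, _, r, s, a, b, c, ⟨f⟩⟩ | ⟨F, _, _, r, s, a, b, c, d, d', ⟨f⟩⟩ | ⟨F, _, _, r, a, b, c, ⟨f⟩⟩ |
    ⟨F, _, _, r, s, a, b, c, d, d', ⟨f⟩⟩ | ⟨F, _, _, a, ⟨f⟩⟩ | ⟨F, _, _, a, ⟨f⟩⟩ | ⟨F, _, _, r, s, a, b, c, d, d', ⟨f⟩⟩
  exacts [.inl ⟨F, _, _, r, s, a, b, c, ⟨e.trans f⟩⟩, .inr (.inl ⟨F, _, _, r, s, a, b, c, d, d', ⟨e.trans f⟩⟩),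
    .inr (.inr (.inl ⟨F, _, _, r, a, b, c, ⟨e.trans f⟩⟩)),
    .inr (.inr (.inr (.inl ⟨F, _, _, r, s, a, b, c, d, d', ⟨e.trans f⟩⟩))),
    .inr (.inr (.inr (.inr (.inl ⟨F, _, _, a, ⟨e.trans f⟩⟩)))),
    .inr (.inr (.inr (.inr (.inr (.inl ⟨F, _, _, a, ⟨e.trans f⟩⟩))))),
    .inr (.inr (.inr (.inr (.inr (.inr ⟨F, _, _, r, s, a, b, c, d, d', ⟨e.trans f⟩⟩)))))]

theorem go_of_kn (l2 : KL2) (sz : KSz.{u}) (l3 : KL3) (l33 : KL33) (u3 : KU3) (a : KA) (m : KM.{u}) (j : KJ.{u})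
    (t : KT) (u4 : KU4) (l4 : KL4) (sp : KSp) (g : KG) {G : Type u} [Group G] (n : NM G) (c : ¬ Ch G)
    (k : Kn G) : Go G := by
  rcases k with ⟨F, _, _, h, ⟨e⟩⟩ | h | ⟨F, _, _, h, ⟨e⟩⟩ | ⟨F, _, _, q, h, h', ⟨e⟩⟩ | ⟨n, h, ⟨e⟩⟩ | h | h | ⟨⟨e⟩⟩ |
    ⟨F, _, _, h, ⟨e⟩⟩ | ⟨F, _, _, h, ⟨e⟩⟩ | ⟨F, _, _, h, ⟨e⟩⟩ | ⟨F, _, _, h, ⟨e⟩⟩
  · exact (l2 F h (nm_congr e.symm n) fun k => c (k.congr e)).congr e
  · exact sz G h n c
  · rcases h.eq_or_lt with h | h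
    · exact absurd (nm_congr e.symm n) (l33 F h.symm)
    · exact absurd ((l3 F h).congr e) c
  · rcases h'.eq_or_lt with rfl | h'
    · exact .inr (.inr (.inr (.inr (.inr (.inl ⟨F, _, _, h, ⟨e⟩⟩)))))
    · exact absurd ((u3 F q h h').congr e) c
  · exact absurd ((a n h).congr e) c
  · exact absurd (m G h) c
  · exact absurd (j G h) c
  · exact absurd (t.congr e) c
  · exact absurd ((u4 F h).congr e) c
  · exact absurd ((l4 F h).congr e) c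
  · exact absurd ((sp F h).congr e) c
  · exact absurd ((g F h).congr e) c

end H27.MS
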