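import Cfsg.Agent.H27.MS0
import Cfsg.Agent.H28.NH7

/-! S5899, interface part 1: minimal insoluble groups with normal `2`-subgroup (local tools).
Proof sketches: `notes/MS5899.md`. -/

set_option autoImplicit false
set_option linter.unusedVariables false

namespace H27.MS
open Cfsg Subgroup H18 H17.GS H28.S H2.GW
open H19 hiding eq_bot_mono
open H28.NG hiding Hyp Uniq Ch
open H29.PU (bm)
open H9 (JJ MaxAb)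
open scoped MatrixGroups

universe u
variable {G : Type u} [Group G]

/-- `N` is minimal insoluble, `Q = Φ(N)` is a `2`-group, `N/Q` is simple, `T` is Sylow in `N` -/
structure Fr (N Q T : Subgroup G) : Prop where
  pg : H19.PG 2 Q
  nq : Q ⊴ N
  syl : Syl 2 T N
  ns : ¬ Sol N
  sol : ∀ X, X < N → Sol X
  smp : ∀ X, X ⊴ N → X ≤ Q ∨ X = N

/-- an involution modulo `Q` -/
def Iv (N Q : Subgroup G) (a : G) : Prop := a ∈ N ∧ a ∉ Q ∧ a * a ∈ Q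

/-- `N/Q ≅ X` -/
def Iso (N Q : Subgroup G) (X : Type) [Group X] : Prop :=
  ∃ π : N →* X, Function.Surjective π ∧ ∀ g : N, π g = 1 ↔ (g : G) ∈ Q

abbrev L7 (N Q : Subgroup G) : Prop := Iso N Q SL(3, ZMod 2)
abbrev L9 (N Q : Subgroup G) : Prop := Iso N Q SL(3, ZMod 3)
def Pe (N Q : Subgroup G) : Prop := ∃ (F : Type) (_ : Field F) (_ : Fintype F) (p : ℕ), p.Prime ∧ p ≠ 2 ∧
  Fintype.card F = 2 ^ p ∧ Iso N Q PSL(2, F)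
def Ps (N Q : Subgroup G) : Prop := ∃ (F : Type) (_ : Field F) (_ : Fintype F) (m : ℕ), 1 ≤ m ∧
  Fintype.card F = 2 ^ (2 * m + 1) ∧ Iso N Q (Lie.Sz F (2 ^ (m + 1)))
def Po (N Q : Subgroup G) : Prop := ∃ (F : Type) (_ : Field F) (_ : Fintype F) (q : ℕ), Fintype.card F = q ∧
  ((∃ r : ℕ, r.Prime ∧ r ≠ 2 ∧ q = 3 ^ r) ∨ (q.Prime ∧ 5 < q ∧ (q % 5 = 2 ∨ q % 5 = 3)) ∨ q = 5) ∧ Iso N Q PSL(2, F)

/-- `V/V₀` is an elementary abelian section of `N`, centralized by `Q` and not by `N` -/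
structure Sec (N Q V₀ V : Subgroup G) : Prop where
  ea : EA V₀ V
  nV : N ≤ N(V)
  n0 : N ≤ N(V₀)
  cq : Q ≤ Cm V₀ V
  nc : ¬ N ≤ Cm V₀ V

/-- `|V : C_{V/V₀}(a)| ≤ 2 ^ e` -/
def Eb (V₀ V : Subgroup G) (a : G) (e : ℕ) : Prop := #V ≤ 2 ^ e * #(V ⊓ Cm V₀ (zpowers a))

/-- one class of involutions in `N/Q` -/
def One (N Q : Subgroup G) : Prop := ∀ a b, Iv N Q a → Iv N Q b → ∃ g ∈ N, g * a * g⁻¹ * b⁻¹ ∈ Q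

/-- Bender type (`L₂(2^p)`, `p` odd, and `Sz(2^p)`); `E/Q = Ω₁(T/Q)` -/
structure Be (N Q T E : Subgroup G) : Prop where
  mem : ∀ a, a ∈ E ↔ a ∈ T ∧ a * a ∈ Q
  cen : T ≤ Cm Q E
  dim : ∃ p, Odd p ∧ 3 ≤ p ∧ #E = 2 ^ p * #Q ∧ (T = E ∨ #T = 2 ^ p * #E)
  sqE : ∀ t ∈ T, t * t ∈ E
  sq : T = E ∨ ∀ x ∈ T, ∀ y ∈ T, x * x * (y * y)⁻¹ ∈ Q → x * y⁻¹ ∈ E
  tr : ∀ a b, Iv T Q a → Iv T Q b → ∃ h ∈ N ⊓ N(T), h * a * h⁻¹ * b⁻¹ ∈ Q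
  se : ∀ g ∈ N, ∀ a, Iv T Q a → g * a * g⁻¹ ∈ N(T) → g ∈ N(T)
  gen : ∀ X a b c, Iv T Q a → Iv T Q b → a * b ∉ Q → Iv N Q c → c ∉ T → a ∈ X → b ∈ X → c ∈ X → N ≤ X ⊔ Q
  idx : #N * #Q = (#T + #Q) * #(N ⊓ N(T))
  lb : ∀ V₀ V, Sec N Q V₀ V → #T ^ 2 * #V₀ ≤ #V * #Q ^ 2

/-- Klein four Sylow subgroups -/
structure Kl (N Q T : Subgroup G) : Prop where
  po : Po N Q
  card : #T = 4 * #Q
  sq : ∀ t ∈ T, t * t ∈ Q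
  tr : ∀ a b, Iv T Q a → Iv T Q b → ∃ h ∈ N ⊓ N(T), h * a * h⁻¹ * b⁻¹ ∈ Q

/-- dihedral Sylow subgroups of order `2 ^ (n + 1) ≥ 8` -/
structure Di (N Q T : Subgroup G) (n : ℕ) : Prop where
  po : Po N Q
  two : 2 ≤ n
  card : #T = 2 ^ (n + 1) * #Q
  ex : ∃ a b, Iv T Q a ∧ Iv T Q b ∧ T = Q ⊔ zpowers a ⊔ zpowers b ∧ (a * b) ^ 2 ^ n ∈ Q

/-! ### types -/
def TY : Prop := ∀ {G : Type u} [Group G] [Finite G] {N Q T : Subgroup G}, Fr N Q T →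
  Pe N Q ∨ Ps N Q ∨ Po N Q ∨ L9 N Q
def TYe : Prop := ∀ {G : Type u} [Group G] [Finite G] {N Q T : Subgroup G}, Fr N Q T → Pe N Q → ∃ E, Be N Q T E
def TYs : Prop := ∀ {G : Type u} [Group G] [Finite G] {N Q T : Subgroup G}, Fr N Q T → Ps N Q → ∃ E, Be N Q T E
def TYo : Prop := ∀ {G : Type u} [Group G] [Finite G] {N Q T : Subgroup G}, Fr N Q T → Po N Q →
  One N Q ∧ (Kl N Q T ∨ ∃ n, Di N Q T n)
/-- the four types (from `TY TYe TYs TYo` and `One` for `Be`, `L9`) -/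
def Ty : Prop := ∀ {G : Type u} [Group G] [Finite G] {N Q T : Subgroup G}, Fr N Q T →
  One N Q ∧ ((∃ E, Be N Q T E) ∨ Kl N Q T ∨ (∃ n, Di N Q T n) ∨ L9 N Q)
def ONE : Prop := TY.{u} → TYe.{u} → TYs.{u} → TYo.{u} → Ty.{u}

/-! ### splitting lemmas -/
/-- Gaschütz -/
def LF : Prop := ∀ {G : Type u} [Group G] [Finite G] {N Q T Q₀ X : Subgroup G}, Fr N Q T → Q₀ ⊴ N → Q₀ < Q →
  T ≤ X ⊔ Q → X ≤ T → ¬ X ⊓ Q ≤ Q₀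
/-- no elementary abelian supplement -/
def F1 : Prop := ∀ {G : Type u} [Group G] [Finite G] {N Q T A : Subgroup G}, Fr N Q T → Q ≠ ⊥ → Abelem 2 A →
  A ≤ T → ¬ T ≤ A ⊔ Q
/-- the `E`-lemma for `L₃(2)` -/
def EL : Prop := ∀ {G : Type u} [Group G] [Finite G] {N Q T Q₀ E : Subgroup G} {a : G} {n : ℕ}, Fr N Q T →
  L7 N Q ∨ Di N Q T n → One N Q → Q₀ ⊴ N → Q₀ < Q → E ⊴ T → ⁅E, E⁆ ≤ Q₀ → (∀ e ∈ E, e * e ∈ Q₀) →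
  #(E ⊔ Q) = 4 * #Q → a ∈ N → a ∉ Q → a * a ∈ Q₀ → False
def FU : Prop := ∀ {G : Type u} [Group G] [Finite G] {N Q T Z U : Subgroup G}, Fr N Q T → Abelem 2 U → Z ≤ U →
  U ≤ Q → N ≤ N(U) → N ≤ C(Z) → (∀ X, Z ≤ X → X ≤ U → N ≤ N(X) → X = Z ∨ X = U) → ¬ N ≤ C(U) → Q ≤ C(U)
/-- an extension by a free module of rank one splits -/
def FR : Prop := ∀ {G : Type u} [Group G] [Finite G] {T W Q₀ : Subgroup G} {w : G} (R : List G), H19.PG 2 T → W ⊴ T →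
  Q₀ ⊴ T → EA Q₀ W → w ∈ W → W ≤ Kc (zpowers w) T ⊔ Q₀ → (∀ r ∈ R, r ∈ T) → R.length * #W = #T →
  (∀ t ∈ T, ∃ r ∈ R, r⁻¹ * t ∈ W) → (R.map fun r => r * w * r⁻¹).prod ∉ Q₀ →
  ∃ X, X ≤ T ∧ T ≤ X ⊔ W ∧ X ⊓ W ≤ Q₀

/-! ### module bounds -/
def MBK : Prop := ∀ {G : Type u} [Group G] [Finite G] {N Q T V₀ V : Subgroup G} {a : G}, Fr N Q T → Kl N Q T →
  Sec N Q V₀ V → Iv N Q a → ¬ Eb V₀ V a 1 ∧ (Eb V₀ V a 4 → #N = 60 * #Q)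
def MBD : Prop := ∀ {G : Type u} [Group G] [Finite G] {N Q T V₀ V : Subgroup G} {a : G} {n : ℕ}, Fr N Q T →
  Di N Q T n → Sec N Q V₀ V → Iv N Q a → (Eb V₀ V a 3 ∨ (Eb V₀ V a 4 ∧ n = 2)) → L7 N Q
def MBS : Prop := ∀ {G : Type u} [Group G] [Finite G] {N Q T V₀ V : Subgroup G} {a : G}, Fr N Q T → L9 N Q →
  Sec N Q V₀ V → Iv N Q a → ¬ Eb V₀ V a 3
/-- transvections -/
def MB1 : Prop := ∀ {G : Type u} [Group G] [Finite G] {N Q T V₀ V : Subgroup G} {a : G}, Fr N Q T →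
  Sec N Q V₀ V → a ∈ N → a ∉ Q → Eb V₀ V a 1 →
  L7 N Q ∧ Sec N Q V₀ (⁅V, N⁆ ⊔ V₀) ∧ #(⁅V, N⁆ ⊔ V₀) = 8 * #V₀
/-- offenders -/
def NF : Prop := ∀ {G : Type u} [Group G] [Finite G] {N Q T V₀ V A : Subgroup G}, Fr N Q T → Q ≠ ⊥ →
  Sec N Q V₀ V → Abelem 2 A → A ≤ N → ¬ A ≤ Q → #V * #(A ⊓ Q) ≤ #A * #(V ⊓ Cm V₀ A) → L7 N Q

/-! ### `L₃(2)` -/
/-- chief sections have order `8`, or are free over `T/Q` -/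
def IR : Prop := ∀ {G : Type u} [Group G] [Finite G] {N Q T V₀ V : Subgroup G}, Fr N Q T → L7 N Q →
  Sec N Q V₀ V → (∀ X, V₀ ≤ X → X ≤ V → N ≤ N(X) → X = V₀ ∨ X = V) → #V = 8 * #V₀ ∨ (#V = 256 * #V₀ ∧
    ∃ w ∈ V, ∃ R : List G, V ≤ Kc (zpowers w) T ⊔ V₀ ∧ (∀ r ∈ R, r ∈ T) ∧ R.length = 8 ∧
      (∀ t ∈ T, ∃ r ∈ R, r⁻¹ * t ∈ Q) ∧ (R.map fun r => r * w * r⁻¹).prod ∉ V₀)
/-- the heads of `Q` if an involution lifts -/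
def HD : Prop := ∀ {G : Type u} [Group G] [Finite G] {N Q T Q₀ : Subgroup G} {a : G}, Fr N Q T → L7 N Q →
  Q₀ ⊴ N → Q₀ < Q → (∀ X, X ⊴ N → Q₀ ≤ X → X ≤ Q → X = Q₀ ∨ X = Q) → a ∈ N → a ∉ Q → a * a ∈ Q₀ →
  Sec N Q Q₀ Q ∧ #Q = 8 * #Q₀
/-- not both four-groups lift -/
def NL : Prop := ∀ {G : Type u} [Group G] [Finite G] {N Q T A B : Subgroup G}, Fr N Q T → L7 N Q → Q ≠ ⊥ →
  Abelem 2 A → Abelem 2 B → A ≤ T → B ≤ T → #(A ⊔ Q) = 4 * #Q → #(B ⊔ Q) = 4 * #Q → A ⊔ Q = B ⊔ Q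
def FF : Prop := ∀ {G : Type u} [Group G] [Finite G] {N Q T V A : Subgroup G}, Fr N Q T → L7 N Q →
  Sec N Q ⊥ V → V ≤ Kc (V ⊓ C(T)) N → Abelem 2 A → A ≤ N → ¬ A ≤ Q → #V * #(A ⊓ Q) ≤ #A * #(V ⊓ C(A)) →
  ∃ W ≤ V, #W = 8 ∧ Sec N Q ⊥ W

end H27.MS
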