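import Cfsg.Agent.H27.MS1

/-! S5899, interface part 2: the global argument. Proof sketches: `notes/MS5899.md`. -/

set_option autoImplicit false
set_option linter.unusedVariables false

namespace H27.MS
open Cfsg Subgroup H18 H17.GS H28.S H2.GW
open H19 hiding eq_bot_mono
open H28.NG hiding Hyp Uniq Ch
open H29.PU (bm)
open H9 (JJ MaxAb)

universe u
variable {G : Type u} [Group G]

/-- `Ω₁(Z(S))` -/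
abbrev Zs (S : Subgroup G) : Subgroup G := Ohm1 2 Z(S)

structure Hy (G : Type u) [Group G] : Prop where
  simple : IsSimpleGroup G
  nab : ¬ IsMulCommutative G
  nch : ¬ Ch G
  chr : ∀ Q : Subgroup G, Q ≠ ⊥ → H19.PG 2 Q → N(Q) ⊓ C(Oc {2} N(Q)) ≤ Oc {2} N(Q)
  cs : ∀ S M : Subgroup G, Syl 2 S ⊤ → C(Zs S) ≤ M →
    (∀ R, R ≠ ⊥ → R ≤ bm 2 S → N(bm 2 S) ≤ N(R) → N(R) ≤ M) → M = ⊤
  r5 : ∀ S A : Subgroup G, Syl 2 S ⊤ → A ≤ S → Abelem 2 A → #A = 8 → ¬ S ⊓ C(A) ≤ A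
  rk : ∀ S : Subgroup G, Syl 2 S ⊤ → ∃ E ≤ S, Abelem 2 E ∧ 8 ≤ #E
  gs : ∀ S A : Subgroup G, Syl 2 S ⊤ → A ≤ S → A ≠ ⊥ → Ab A → ¬ ∀ g, ∀ a ∈ A, g * a * g⁻¹ ∈ S → g * a * g⁻¹ ∈ A
  ex : ∃ Q : Subgroup G, Q ≠ ⊥ ∧ H19.PG 2 Q ∧ ¬ Sol N(Q)

/-- an insoluble `2`-local subgroup -/
structure Lc (N Q T : Subgroup G) : Prop extends Fr N Q T where
  hy : Hy G
  q0 : Q ≠ ⊥
  chr : C(Q) ≤ Q
  eQ : Oc {2} N = Q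
  mx : ∀ X, N ≤ X → X = N ∨ X = ⊤
  nrm : ∀ X, X ≠ ⊥ → X ⊴ N → N(X) = N

def I3 (G : Type u) [Group G] : Prop := ∀ U : Subgroup G, Abelem 2 U → #U = 8 → N(U) ≤ C(U) ∨ Sol N(U)

structure Hz (G : Type u) [Group G] : Prop extends Hy G where
  i3 : I3 G

def CT : Prop := ∀ {G : Type u} [Group G] [Finite G] [IsSimpleGroup G], ¬ IsMulCommutative G → ¬ Ch G →
  ¬ PRankLE 2 2 G → IsComponentType G → Kn G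
def TOP : Prop := ∀ {G : Type u} [Group G] [Finite G] [IsSimpleGroup G], NM G → ¬ Ch G → ¬ Kn G → Hy G
def LC : Prop := ∀ {G : Type u} [Group G] [Finite G] {L R T : Subgroup G}, Hy G → R ≠ ⊥ → H19.PG 2 R → L ≤ N(R) →
  ¬ Sol L → Syl 2 T L → Lc L (Oc {2} L) T ∧ L = N(R)

/-- the exceptional `L₃(2)` configuration -/
structure Tc (N Q T : Subgroup G) : Prop where
  l7 : L7 N Q
  cen : N ≤ C(Zs T)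
  idx : #N = 7 * #(N ⊓ N(bm 2 T))
  four : ∃ A, MaxAb 2 T A ∧ #(A ⊔ Q) = 4 * #Q ∧ bm 2 T ≤ A ⊔ Q ∧ N ⊓ N(A ⊔ Q) = N ⊓ N(bm 2 T)

/-- no transvections -/
def NT : Prop := ∀ {G : Type u} [Group G] [Finite G] {N Q T V : Subgroup G} {a : G}, Hz G → Lc N Q T →
  Sec N Q ⊥ V → a ∈ N → a ∉ Q → #(V ⊓ C[a]) * 2 < #V
/-- no offenders -/
def NO : Prop := ∀ {G : Type u} [Group G] [Finite G] {N Q T V A : Subgroup G}, Hz G → Lc N Q T → Sec N Q ⊥ V →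
  V ≤ Kc (V ⊓ C(T)) N → Abelem 2 A → A ≤ N → ¬ A ≤ Q → #A * #(V ⊓ C(A)) < #V * #(A ⊓ Q)
def TR : Prop := ∀ {G : Type u} [Group G] [Finite G] {N Q T : Subgroup G}, Hz G → Lc N Q T → ¬ N ≤ C(Zs Q) →
  bm 2 T ≤ Q ∨ Tc N Q T
def CM : Prop := ∀ {G : Type u} [Group G] [Finite G] {N Q T : Subgroup G}, Hz G → Lc N Q T → Syl 2 T ⊤ ∧
  (N = C(Zs T) ∨ (N = N(bm 2 T) ∧ bm 2 T ≤ Q ∧ ¬ N ≤ C(Zs T)))
/-- step 0 -/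
def S0 : Prop := ∀ {G : Type u} [Group G] [Finite G] {S : Subgroup G}, Hz G → Syl 2 S ⊤ → ∃ R : Subgroup G,
  R ≠ ⊥ ∧ H19.PG 2 R ∧ (∀ Q, Q ≠ ⊥ → H19.PG 2 Q → N(R) ≤ N(Q) → N(Q) ≤ N(R)) ∧ N(bm 2 S) ≤ N(R) ∧
    ∀ L T, bm 2 S ≤ T → Syl 2 T L → H28.NG.Ch L → L ≤ L ⊓ C(Kc (Zs T) L) ⊔ L ⊓ N(R)

/-- the main configuration, `M = N(Y)`, `B = bm 2 S` -/
structure Mn (S Y : Subgroup G) : Prop where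
  hz : Hz G
  syl : Syl 2 S ⊤
  ab : Abelem 2 Y
  eY : Y = Kc (Zs S) N(Y)
  YQ : Y ≤ Zs (Oc {2} N(Y))
  YB : Y ≤ bm 2 S
  NB : N(bm 2 S) ≤ N(Y)
  max : ∀ R, R ≠ ⊥ → H19.PG 2 R → N(Y) ≤ N(R) → N(R) ≤ N(Y)
  star : ∀ L T, bm 2 S ≤ T → Syl 2 T L → H28.NG.Ch L → L ≤ L ⊓ C(Kc (Zs T) L) ⊔ L ⊓ N(Y)
  nz : ¬ C(Zs S) ≤ N(Y)

structure Gn (S Y : Subgroup G) : Prop extends Mn S Y where
  b1 : ∀ v ∈ Y, ∃ m ∈ N(Y), cj m (bm 2 S) ≤ C[v]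
  rk : ∀ A, A ≤ N(Y) → Abelem 2 A → #A * #(Y ⊓ C(A)) ≤ #Y * #(A ⊓ C(Y))
  tvC : ∀ t u, Tv Y t → u ∈ H2.GW.cm Y t → u ≠ 1 → C[u] ≤ N(Y)
  hypC : ∀ X ≤ Y, #Y ≤ #X * 2 → C(X) ≤ N(Y)
  comm : ∀ g, cj g Y ≤ N(Y) → Y ≤ N(cj g Y) → cj g Y ≤ C(Y)

def M0 : Prop := ∀ {G : Type u} [Group G] [Finite G], Hz G → ∃ S Y : Subgroup G, Mn S Y
def GS : Prop := ∀ {G : Type u} [Group G] [Finite G] {S Y : Subgroup G}, Mn S Y → Sol N(Y) → #Y ≠ 4 →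
  Gn S Y ∧ ∃ F, Mo Y F
/-- `M` insoluble -/
def GI : Prop := ∀ {G : Type u} [Group G] [Finite G] {S Y : Subgroup G}, Mn S Y → ¬ Sol N(Y) →
  Gn S Y ∧ Lc N(Y) C(Y) S ∧ Sec N(Y) C(Y) ⊥ Y ∧ N(Y) = N(bm 2 S) ∧ #Y ≠ 4

/-! ### the short case -/
def Sh (Y : Subgroup G) : Prop := ∀ v ∈ Y, v ≠ 1 → Y ≤ Oc {2} C[v]
def Dl (S Y : Subgroup G) : Prop := ∃ P, P ≤ C(Zs S) ∧ C(Zs S) ⊓ N(Y) ≤ P ∧ ¬ P ≤ N(Y) ∧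
  ∀ A, A ≤ C(Y) → Abelem 2 A → (∃ p ∈ P, ¬ A ≤ N(cj p Y)) → ∃ x ∈ P, H17.GS.Hyp (A ⊓ N(cj x Y)) A
def SH : Prop := ∀ {G : Type u} [Group G] [Finite G] {S Y : Subgroup G}, Gn S Y → Sh Y →
  Abelem 2 (Kc Y C(Zs S)) ∧ ¬ Dl S Y
def DS : Prop := ∀ {G : Type u} [Group G] [Finite G] {S Y : Subgroup G}, Mn S Y → Sol C(Zs S) → Dl S Y
def SC : Prop := ∀ {G : Type u} [Group G] [Finite G] {S Y Q : Subgroup G}, Mn S Y → Lc C(Zs S) Q S → Y ≤ Q →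
  Abelem 2 (Kc Y C(Zs S)) → Tc C(Zs S) Q S
def D7 : Prop := ∀ {G : Type u} [Group G] [Finite G] {S Y Q : Subgroup G}, Mn S Y → Lc C(Zs S) Q S →
  Tc C(Zs S) Q S → Dl S Y

/-! ### the tall case -/
def TS : Prop := ∀ {G : Type u} [Group G] [Finite G] {S Y : Subgroup G} {v : G}, Mn S Y → Sol N(Y) → #Y ≠ 4 →
  v ∈ Y → v ≠ 1 → ¬ Y ≤ Oc {2} C[v] → ¬ Sol C[v]
def TI : Prop := ∀ {G : Type u} [Group G] [Finite G] {S Y : Subgroup G} {v : G}, Gn S Y → Lc N(Y) C(Y) S →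
  Sec N(Y) C(Y) ⊥ Y → v ∈ Y → v ≠ 1 → ¬ Y ≤ Oc {2} C[v] → ¬ Sol C[v]
structure Tl (S Y Q : Subgroup G) : Prop extends Gn S Y where
  lc : Lc C(Zs S) Q S
  nq : ¬ Y ≤ Q
def T0 : Prop := ∀ {G : Type u} [Group G] [Finite G] {S Y : Subgroup G} {v : G}, Gn S Y →
  v ∈ Y → v ≠ 1 → ¬ Y ≤ Oc {2} C[v] → ¬ Sol C[v] → ∃ m ∈ N(Y), ∃ Q, Tl (cj m S) Y Q
def TK : Prop := ∀ {G : Type u} [Group G] [Finite G] {S Y Q : Subgroup G}, Tl S Y Q → ¬ Kl C(Zs S) Q S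
def TD : Prop := ∀ {G : Type u} [Group G] [Finite G] {S Y Q : Subgroup G} {n : ℕ}, Tl S Y Q → One C(Zs S) Q →
  ¬ Di C(Zs S) Q S n
def T9 : Prop := ∀ {G : Type u} [Group G] [Finite G] {S Y Q : Subgroup G}, Tl S Y Q → ¬ L9 C(Zs S) Q
structure Tz (S Y A D : Subgroup G) : Prop where
  lt : A < Y
  ab : Abelem 2 D
  le : D ≤ S
  zA : Zs S ≤ A
  zD : Zs S ≤ D
  c1 : ⁅Y, D⁆ ≤ A
  c2 : ⁅A, D⁆ ≤ Zs S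
  nd : ∀ y ∈ Y, y ∉ A → ∀ b ∈ D, b ∉ Zs S → y * b * y⁻¹ * b⁻¹ ∉ Zs S
  card : #A = #D
  big : 8 * #(Zs S) ≤ #A
  rad : A ⊓ C(D) ≤ Zs S ∨ 4 * #(Zs S) ≤ #(D ⊓ C(A))
  ns : N(S) ≤ C(Zs S)
def TZ0 : Prop := ∀ {G : Type u} [Group G] [Finite G] {S Y Q E : Subgroup G}, Tl S Y Q → Be C(Zs S) Q S E →
  ∃ A D, Tz S Y A D
def TZ1 : Prop := ∀ {G : Type u} [Group G] [Finite G] {S Y A D F : Subgroup G}, Mn S Y → Mo Y F → ¬ Tz S Y A D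
def TZ2 : Prop := ∀ {G : Type u} [Group G] [Finite G] {S Y A D : Subgroup G}, Mn S Y → Lc N(Y) C(Y) S →
  Sec N(Y) C(Y) ⊥ Y → ¬ Tz S Y A D

/-! ### `|Y| = 4` -/
structure En (S Y Q : Subgroup G) (z y : G) : Prop extends Mn S Y where
  lc : Lc C[z] Q S
  k4 : K4 z y
  eV : Y = V4 z y
  eZ : Zs S = zpowers z
  sw : ∃ s ∈ N(Y), s * z * s⁻¹ = y ∧ s * y * s⁻¹ = z
  ny : ¬ S ≤ C[y]
  yq : Y ≤ Q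
def E0 : Prop := ∀ {G : Type u} [Group G] [Finite G] {S Y : Subgroup G}, Mn S Y → #Y = 4 → ∃ Q z y, En S Y Q z y
structure Er (S Y Q U R R₀ : Subgroup G) (z y : G) : Prop extends En S Y Q z y where
  eU : U = Kc Y C[z]
  UQ : U ≤ Q
  sec : Sec C[z] Q (zpowers z) U
  RS : R ≤ S
  RQ : R ⊓ Q ≤ U
  nq : ¬ R ≤ Q
  ea : EA Y R
  nR : C[z] ⊓ N(Y) ≤ N(R ⊔ Q)
  c1 : ⁅U, R⁆ ≤ R₀
  c2 : ⁅R₀, R⁆ ≤ R ⊓ Q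
  c3 : ⁅R ⊓ Q, R⁆ ≤ zpowers y
  c4 : R ≤ C(Y)
  eb : ∀ r ∈ R, #U * #(R ⊓ Q) ≤ 4 * #R * #(U ⊓ Cm (zpowers z) (zpowers r))
def E1 : Prop := ∀ {G : Type u} [Group G] [Finite G] {S Y Q : Subgroup G} {z y : G}, En S Y Q z y →
  Abelem 2 (Kc Y C[z]) ∨ ∃ U R R₀, Er S Y Q U R R₀ z y
def EB : Prop := ∀ {G : Type u} [Group G] [Finite G] {S Y Q U R R₀ E : Subgroup G} {z y : G},
  Er S Y Q U R R₀ z y → Be C[z] Q S E → #S = 8 * #Q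
def ES' : Prop := ∀ {G : Type u} [Group G] [Finite G] {S Y Q U R R₀ E : Subgroup G} {z y : G},
  Er S Y Q U R R₀ z y → ¬ (Kl C[z] Q S ∨ (Be C[z] Q S E ∧ #S = 8 * #Q))
def ED : Prop := ∀ {G : Type u} [Group G] [Finite G] {S Y Q U R R₀ : Subgroup G} {z y : G},
  Er S Y Q U R R₀ z y → (∃ n, Di C[z] Q S n) ∨ L9 C[z] Q → L7 C[z] Q
def E3a : Prop := ∀ {G : Type u} [Group G] [Finite G] {S Y Q : Subgroup G} {z y : G}, En S Y Q z y →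
  L7 C[z] Q → Q ≤ C(Y)
def E3b : Prop := ∀ {G : Type u} [Group G] [Finite G] {S Y Q : Subgroup G} {z y : G}, En S Y Q z y →
  L7 C[z] Q → ¬ Q ≤ C(Y)

end H27.MS
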