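import Cfsg.Agent.H27.O7a
import Cfsg.Agent.H24.O7a
import Cfsg.Agent.H25.O7B
import Cfsg.Agent.H11.O7a

/-! S5815: the piece `L2S`. -/

set_option autoImplicit false
set_option linter.unusedSectionVars false

open Module QuadraticMap H12 Cfsg MatrixGroups H26.O7
namespace H27.O7
universe u v
local notation "up" => H26.O7.up

section
variable {K : Type u} [Field K]

theorem ex_ann {s : S K} (h : Nm K s = 0) : LinearMap.ker (L.flip s : V K →ₗ[K] S K) ≠ ⊥ := fun e => by
  have a := LinearMap.finrank_range_add_finrank_ker (L.flip s : V K →ₗ[K] S K)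
  have b := CForm.Nondeg.finrank_add_finrank_perp (C := CForm.ofQuad (Nm K)) Nm_nd (LinearMap.range (L.flip s : V K →ₗ[K] S K))
  have c := Submodule.finrank_mono (show LinearMap.range (L.flip s : V K →ₗ[K] S K) ≤ (CForm.ofQuad (Nm K)).perp
      (LinearMap.range (L.flip s : V K →ₗ[K] S K)) by
    rintro _ ⟨x, rfl⟩ _ ⟨y, rfl⟩
    exact (polar_LL y x s).trans (by rw [h, mul_zero]))
  rw [e, finrank_bot, finrank_V] at a
  rw [finrank_S] at b
  omega

theorem L_inj' (h2 : (2 : K) ≠ 0) {s : S K} (h : Nm K s ≠ 0) {x : V K} (e : L x s = 0) : x = 0 := Q_nd h2 x fun y => by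
  have := polar_LL x y s
  rw [e, polar_zero_left, eq_comm, mul_eq_zero, neg_eq_zero] at this
  exact this.resolve_right h

theorem dec (h2 : (2 : K) ≠ 0) {s : S K} (h : Nm K s ≠ 0) (t : S K) : ∃ (c : K) (x : V K), c • s + L x s = t := by
  let f : (K × V K) →ₗ[K] S K := (LinearMap.toSpanSingleton K _ s).coprod (L.flip s)
  obtain ⟨y, hy⟩ := (LinearMap.injective_iff_surjective_of_finrank_eq_finrank (f := f) (by simp)).1
    ((injective_iff_map_eq_zero _).2 fun y (e : y.1 • s + L y.2 s = 0) => by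
      have := congrArg (polar (Nm K) · s) e
      simp only [polar_add_left, polar_L_self, polar_smul_left, polar_self', polar_zero_left, add_zero, smul_eq_mul,
        mul_eq_zero, h2, h, or_false] at this
      rw [this, zero_smul, zero_add] at e
      exact Prod.ext this (L_inj' h2 h e)) t
  exact ⟨y.1, y.2, hy⟩
end

theorem l2s (hz : HZ.{u, v}) : L2S.{u, v} := by
  intro K _ _ p hp _ G _ _ R F _ _ _ φ x hs h1 hI hN p7 ⟨x0, qx, κ0, xu, fx, xd⟩
  have po := hp.out.odd_of_ne_two (by omega)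
  have nz : ∀ (L : Type u) [Field L] [CharP L p], (60 : L) ≠ 0 := fun L _ _ e => by
    have := (CharP.cast_eq_zero_iff L p 60).1 e
    have := Nat.le_of_dvd (by norm_num) this
    have := hp.out
    interval_cases p <;> first | omega | norm_num at this
  have n6 : (60 : F) ≠ 0 := fun e => by
    have := (CharP.cast_eq_zero_iff F p 60).1 e
    exact nz K ((CharP.cast_eq_zero_iff K p 60).2 this)
  have f2 : (2 : F) ≠ 0 := fun e => n6 (by linear_combination 30 * e)
  have f3 : (3 : F) ≠ 0 := fun e => n6 (by linear_combination 20 * e)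
  have o : Odd (Fintype.card F) := by
    obtain ⟨n, -, e⟩ := FiniteField.card F p
    exact e ▸ po.pow
  have pw : ∀ t, φ (up t) ^ p = 1 := fun t => by rw [← map_pow, up_pow, CharP.cast_eq_zero, zero_mul, up_zero, map_one]
  have inv : ∀ m : ℕ, (m : F) ≠ 0 → ∃ k : ℕ, (k : F) * m = 1 := fun m h => ⟨m ^ (Fintype.card F - 2), by
    rw [Nat.cast_pow, ← pow_succ, ← FiniteField.pow_card_sub_one_eq_one _ h]
    have := Fintype.one_lt_card (α := F)
    congr 1; omega⟩
  let ψ : PSL(2, F) →* G := QuotientGroup.lift _ φ fun g hg => by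
    obtain ⟨a, b, c⟩ := H24.O7.π_one.1 ((QuotientGroup.eq_one_iff g).2 hg)
    have d := H24.O7.det2 g
    rw [a, ← c, zero_mul, sub_zero, mul_self_eq_one_iff] at d
    rcases d with d | d
    · rw [MonoidHom.mem_ker, show g = 1 by ext i j; fin_cases i <;> fin_cases j <;> simp [a, b, ← c, d], map_one]
    · rw [MonoidHom.mem_ker, show g = -1 by ext i j; fin_cases i <;> fin_cases j <;> simp [a, b, ← c, d], h1]
  have hψ : ∀ g, ψ (H24.O7.π F g) = φ g := fun _ => rfl
  have XY : φ (wy F) * φ (H24.O7.yy 1) = φ (up 1) := by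
    rw [← hψ, ← hψ, ← map_mul, H24.O7.wy_yy, dg_one, map_one, one_mul, hψ]; simp
  have XX : φ (wy F) * φ (wy F) = 1 := by rw [← map_mul, wy_wy, h1]
  have Y3 : φ (H24.O7.yy 1) ^ 3 = 1 := by rw [← hψ, ← map_pow, H24.O7.yy3, map_one]
  obtain ⟨t, t0, ht⟩ := H24.O7.ex_a4' o f3
  have tr : φ t * (φ (H24.O7.yy 1) * φ t * (φ (H24.O7.yy 1))⁻¹) = (φ (H24.O7.yy 1))⁻¹ * φ t * φ (H24.O7.yy 1) := by
    simpa only [map_mul, map_inv, hψ] using congrArg ψ ht.rel
  have tc : IsConj (φ (wy F)) (φ t) := by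
    have := φ.map_isConj (H24.O7.conj_tr o t (by rw [t0]; exact fun e => mul_ne_zero f2 f2 (by linear_combination -e)))
    rwa [t0, show H24.O7.cm 0 = -1 * wy F by ext i j; fin_cases i <;> fin_cases j <;> simp [H24.O7.cm_val, wy_val],
      map_mul, h1, one_mul] at this
  generalize φ (H24.O7.yy 1) = Y at *
  have nx : R.ρ (φ (wy F)) x ≠ x := fun e => κ0 (by rw [e, polar_self', qx, mul_zero])
  have X1 : φ (wy F) ≠ 1 := fun e => nx (by rw [e, map_one]; rfl)
  have rX : R.r (φ (wy F)) = 4 := by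
    rcases (e2 K G R).1 _ XX X1 with h | h | h
    · obtain ⟨y, y0, a, b, c⟩ := fx3 (R.ρ (φ (wy F))) (R.ρ (Y * φ (wy F) * Y⁻¹)) (R.ρ (Y⁻¹ * φ (wy F) * Y⁻¹⁻¹)) (by
        have := R.r_conj Y (φ (wy F))
        have := R.r_conj Y⁻¹ (φ (wy F))
        simp only [Rp.r] at *
        rw [finrank_V]; omega)
      obtain ⟨k, hk⟩ := inv 3 f3
      have : φ (up 1) ∈ R.St y := by
        rw [← hk, ← up_pow, map_pow, ← mul_one ((3 : ℕ) : F), ← up_pow, map_pow, ← XY, show (φ (wy F) * Y) ^ 3 =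
          φ (wy F) * (Y * φ (wy F) * Y⁻¹) * Y ^ 3 * (Y⁻¹ * φ (wy F) * Y⁻¹⁻¹) by simp only [pow_three]; group, Y3, mul_one]
        exact pow_mem (mul_mem (mul_mem a b) c) k
      obtain ⟨c, rfl⟩ := fx y this
      rw [map_smul] at a
      exact (nx (smul_right_injective _ (fun e => y0 (by rw [e, zero_smul])) a)).elim
    · exact h
    · exact (hN _ XX h).elim
  have rY := (H25.O7.ak K G R).1 (φ t) Y ⟨Y3, by simpa only [map_mul, map_one, hψ] using congrArg ψ ht.tt,
    fun e => X1 (isConj_one_left.1 (e ▸ tc)), tr⟩ (R.r_isConj tc ▸ rX)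
  obtain ⟨s, s0, sX, sY⟩ := (hz K p G R _ Y XX Y3 (.inl ⟨1, by rw [XY, pow_one, pw]⟩)).1 rX (.inl rY.1)
  have s1 : φ (up 1) ∈ R.Fx s := XY ▸ mul_mem sX sY
  have sm : ∀ m : ℕ, φ (up m) ∈ R.Fx s := fun m => by rw [← mul_one (m : F), ← up_pow, map_pow]; exact pow_mem s1 m
  have ns : Nm K s ≠ 0 := fun e => by
    have iv : ∀ g ∈ R.Fx s, ∀ y, L y s = 0 → L (R.ρ g y) s = 0 := fun g ⟨b, hb, hs⟩ y hy => by
      rw [← hs, ← hb.1, hy, map_zero]
    obtain ⟨y, hy, y0, yu⟩ := H17.exists_fixed_vec (p := p) (LinearEquiv.automorphismGroup.toLinearMapMonoidHom.comp R.ρ)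
      (Subgroup.zpowers (φ (up 1))) (fun ⟨_, k, rfl⟩ => ⟨1, Subtype.ext (by
        change (φ (up 1) ^ k) ^ p ^ 1 = 1
        rw [pow_one, ← zpow_natCast, ← zpow_mul, mul_comm, zpow_mul, zpow_natCast, pw, one_zpow])⟩) _ (fun g hg => iv g (Subgroup.zpowers_le.2 s1 hg)) (ex_ann e)
    obtain ⟨c, rfl⟩ := fx y (yu _ (Subgroup.mem_zpowers _))
    have a : L x s = 0 := (smul_eq_zero.1 (by rw [← LinearMap.smul_apply, ← map_smul]; exact hy)).resolve_left
      fun (e : c = 0) => y0 (by rw [e, zero_smul])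
    have b := L_anti x (R.ρ (φ (wy F)) x) s
    rw [iv _ sX _ a, a, map_zero, map_zero, add_zero, eq_comm, smul_eq_zero] at b
    exact b.elim κ0 s0
  have xs : L x s ≠ 0 := fun e => x0 (L_inj' R.two ns e)
  have un := fun t => ((H11.O7.lf K R.two).2.2.2.2 inferInstance _ (R.iso (φ (up t))) (R.det _)).2 p po (by
    rw [← map_pow, pw, map_one])
  choose b hb ub using un
  have b1 : b 1 s = s := by
    obtain ⟨c, hc, e⟩ := s1
    rcases H11.O7.lift_uniq R.two (hb 1).1 hc with rfl | rfl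
    · exact e
    · have k : ∀ n : ℕ, (b 1 ^ n) s = (-1 : K) ^ n • s := fun n => by
        induction n with
        | zero => simp
        | succ n ih => rw [pow_succ', LinearEquiv.mul_apply, ih, map_smul, show b 1 s = -s from neg_eq_iff_eq_neg.1 e,
            pow_succ, mul_smul, neg_one_smul]
      have := k p
      rw [(hb 1).2, po.neg_one_pow, neg_one_smul] at this
      exact (s0 (eq_zero_of_neg R.two this)).elim
  have cj : ∀ g c t t', Lift (R.ρ g) c → g * φ (up t) * g⁻¹ = φ (up t') → c * b t * c⁻¹ = b t' := fun g c t t' hc e =>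
    ub t' _ ⟨by rw [← e, map_mul, map_mul, map_inv]; exact (hc.mul (hb t).1).mul hc.inv, by
      rw [conj_pow, (hb t).2, mul_one, mul_inv_cancel]⟩
  obtain ⟨k, hk⟩ := inv 2 f2
  obtain ⟨d, hd, ds⟩ : φ (dg (.mk0 2 f2)) ∈ R.Fx s := by
    rw [eq_mul_inv_of_mul_eq (dg_wy (.mk0 2 f2)), Units.val_inv_eq_inv_val, Units.val_mk0,
      show (2 : F)⁻¹ = k from (eq_inv_of_mul_eq_one_left hk).symm]
    simp only [map_mul, map_inv]
    exact mul_mem (mul_mem (mul_mem (sm 2) (mul_mem (mul_mem sX (sm k)) (inv_mem sX))) (sm 2)) (inv_mem sX)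
  refine ⟨s, s0, fun g => ?_⟩
  obtain ⟨g, rfl⟩ := hs g
  refine (eq_top (H := (R.Fx s).comap φ) (fun t => ⟨b t, (hb t).1, ?_⟩) sX).ge (Subgroup.mem_top g)
  obtain ⟨c, y, e⟩ := dec R.two ns (b t s)
  have e1 : b 1 (b t s) = b t s := by
    have := cj _ _ 1 1 (hb t).1 (by rw [mul_inv_eq_iff_eq_mul, ← map_mul, ← map_mul, ← up_add, ← up_add, add_comm])
    rw [← LinearEquiv.mul_apply, ← this, inv_mul_cancel_right, LinearEquiv.mul_apply, b1]
  rw [← e, map_add, map_smul, (hb 1).1.1, b1, add_right_inj, ← sub_eq_zero, ← LinearMap.sub_apply, ← map_sub] at e1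
  obtain ⟨β, rfl⟩ := fx y (sub_eq_zero.1 (L_inj' R.two ns e1))
  rw [map_smul, LinearMap.smul_apply] at e
  have e2 : b t (L x s) = c • L x s := by rw [(hb t).1.1, xu, ← e, map_add, map_smul, map_smul, L_L, qx]; simp
  have c1 : c = 1 := by
    have k : ∀ n : ℕ, (b t ^ n) (L x s) = c ^ n • L x s := fun n => by
      induction n with
      | zero => simp
      | succ n ih => rw [pow_succ', LinearEquiv.mul_apply, ih, map_smul, e2, smul_smul, pow_succ]
    have := k p
    rw [(hb t).2, LinearEquiv.coe_one, id, eq_comm, ← sub_eq_zero, ← one_smul K (L x s), smul_smul, ← sub_smul,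
      smul_eq_zero, mul_one, ← one_pow p, ← sub_pow_char] at this
    exact sub_eq_zero.1 (pow_eq_zero_iff hp.out.ne_zero |>.1 (this.resolve_right xs))
  rw [c1, one_smul] at e e2
  have e3 : d * b t * d⁻¹ = b t ^ 4 := (cj _ _ t _ hd (by
    rw [← map_inv, ← map_mul, ← map_mul, dg_up, mul_inv_cancel_right])).trans (ub _ _ ⟨by
      rw [show (Units.mk0 2 f2 : F) * Units.mk0 2 f2 * t = (4 : ℕ) * t by rw [Units.val_mk0]; push_cast; ring, ← up_pow, map_pow, map_pow]
      exact (hb t).1.pow 4, by rw [← pow_mul, mul_comm, pow_mul, (hb t).2, one_pow]⟩).symm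
  have e4 := congrArg (· s) (mul_inv_eq_iff_eq_mul.1 e3)
  simp only [LinearEquiv.mul_apply, pow_succ, pow_zero, one_mul, ds] at e4
  simp only [← e, map_add, map_smul, e2] at e4
  rw [ds, hd.1, ds, xd _ 2 (by simp), map_smul, LinearMap.smul_apply] at e4
  have : (60 * β) • L x s = 0 := by linear_combination (norm := module) e4
  rw [← e, (mul_eq_zero.1 ((smul_eq_zero.1 this).resolve_right xs)).resolve_left (nz K), zero_smul, add_zero]

end H27.O7
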