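/-
The 12-dimensional module of `SU₃(4)` in characteristic 5.
-/
import Cfsg.Agent.H27.PG1
import Cfsg.Agent.H27.Spec6

set_option autoImplicit false
set_option linter.unusedSectionVars false

namespace H27.Iso
open H5 Subgroup Matrix Cfsg F16

theorem u34_ord {F : Type*} [Field F] [Fintype F] (hF : Fintype.card F = 4 ^ 2) (n : ℕ) :
    Ord (PSU 3 F 4) n ↔ n ∣ 13 ∨ n ∣ 15 ∨ n ∣ 10 ∨ n ∣ 4 := by
  haveI : CharP F 2 := charP_of_card_eq_prime_pow (p := 2) (f := 4) hF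
  have h := Sp.spec_three (p := 2) (Sp.qp_neg hF) (Sp.psu_spec F (AlgebraicClosure F) hF (n := 3) (by omega))
  refine (Set.ext_iff.1 h n).trans ?_
  norm_num
  refine ⟨?_, by tauto⟩
  rintro (h | h | h | h | h)
  exacts [.inl h, .inr (.inl h), .inr (.inr (.inl (h.trans (by norm_num)))), .inr (.inr (.inl h)), .inr (.inr (.inr h))]

namespace U34

/-- vectors -/
abbrev V3 := Fin 3 → F16
/-- the form -/
def hf (u v : V3) : F16 := u 0 * v 0 ^ 4 + u 1 * v 1 ^ 4 + u 2 * v 2 ^ 4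
theorem hf_eq (u v : V3) : hermForm 3 F16 4 u v = hf u v := Fin.sum_univ_three _
/-- the group -/
abbrev G := SU 3 F16 4
theorem hf_g (g : G) (u v : V3) : hf (g.1.1 *ᵥ u) (g.1.1 *ᵥ v) = hf u v :=
  (hf_eq ..).symm.trans ((g.2 u v).trans (hf_eq ..))

/-- isotropic vectors -/
def X : Type := {v : V3 // v ≠ 0 ∧ hf v v = 0}
instance : Finite X := inferInstanceAs (Finite {v : V3 // v ≠ 0 ∧ hf v v = 0})
theorem mv_mul (g h : G) (v : V3) : (g * h).1.1 *ᵥ v = g.1.1 *ᵥ h.1.1 *ᵥ v := (mulVec_mulVec ..).symm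
instance : MulAction G X where
  smul g v := ⟨g.1.1 *ᵥ v.1, fun e => v.2.1 (by
    have := mv_mul g⁻¹ g v.1
    rwa [e, mulVec_zero, inv_mul_cancel, show (1 : G).1.1 = 1 from rfl, one_mulVec] at this), (hf_g ..).trans v.2.2⟩
  one_smul v := Subtype.ext (one_mulVec v.1)
  mul_smul g h v := Subtype.ext (mv_mul ..)
theorem smul_val (g : G) (x : X) : (g • x).1 = g.1.1 *ᵥ x.1 := rfl

/-- the dual code of the unital -/
def Cd (φ : V3 → ZMod 5) : Prop := (∀ (c : F16) v, c ≠ 0 → v ≠ 0 → hf v v = 0 → φ (c • v) = φ v) ∧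
  ∀ a b, hf a a = 0 → hf b b = 0 → hf a b = 1 → φ b + φ a + φ (a + b) + φ (a + e 6 • b) + φ (a + e 7 • b) = 0

/-- the module -/
def W : AddSubgroup (Fn (X × X) (ZMod 5)) where
  carrier := {f | ∃ φ, Cd φ ∧ ∀ x y : X, f (x, y) = φ x.1 - φ y.1}
  zero_mem' := ⟨0, ⟨by simp, by simp⟩, fun _ _ => (sub_self _).symm⟩
  add_mem' := by
    rintro f g ⟨φ, a, b⟩ ⟨ψ, c, d⟩
    refine ⟨φ + ψ, ⟨fun t v h1 h2 h3 => by simp [a.1 t v h1 h2 h3, c.1 t v h1 h2 h3], fun u v h1 h2 h3 => ?_⟩,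
      fun x y => ?_⟩
    · simp only [Pi.add_apply]; linear_combination a.2 u v h1 h2 h3 + c.2 u v h1 h2 h3
    · change f _ + g _ = _
      rw [b, d]; simp only [Pi.add_apply]; ring
  neg_mem' := by
    rintro f ⟨φ, a, b⟩
    refine ⟨-φ, ⟨fun t v h1 h2 h3 => by simp [a.1 t v h1 h2 h3], fun u v h1 h2 h3 => ?_⟩, fun x y => ?_⟩
    · simp only [Pi.neg_apply]; linear_combination -a.2 u v h1 h2 h3
    · change -f _ = _
      rw [b]; simp only [Pi.neg_apply]; ring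

theorem Cd.g {φ : V3 → ZMod 5} (h : Cd φ) (g : G) : Cd fun v => φ (g.1.1 *ᵥ v) :=
  ⟨fun c v h1 h2 h3 => by
    beta_reduce; rw [mulVec_smul]; exact h.1 c _ h1 (HSMul.hSMul (β := X) g ⟨v, h2, h3⟩).2.1 ((hf_g ..).trans h3),
    fun a b h1 h2 h3 => by
      simpa only [mulVec_add, mulVec_smul] using h.2 _ _ ((hf_g g ..).trans h1) ((hf_g g ..).trans h2)
        ((hf_g g ..).trans h3)⟩

theorem W_inv : ∀ k ∈ (⊤ : Subgroup G), ∀ w ∈ W, k • w ∈ W := by
  rintro k - f ⟨φ, a, b⟩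
  exact ⟨_, a.g k⁻¹, fun x y => b _ _⟩

/-- discrete logarithm mod 5 -/
def lg (a : F16) : ZMod 5 := (Nat.shiftRight 0x2131244300324100 (4 * a.1) % 16 : ℕ)
/-- the modified logarithm -/
def Ga (m n : F16) : ZMod 5 := if m = 0 then lg n else lg m

theorem ga_mul : ∀ c m n : F16, c ≠ 0 → (m = 0 → n ≠ 0) → Ga (c * m) (c * n) = lg c + Ga m n := by decide +kernel
theorem ga_eq : ∀ m n y : F16, (m = 0 → y * n ^ 4 = 1) → Ga m n = Ga m y := by decide +kernel
theorem ga_sum : ∀ x y : F16, (y = 0 → x ≠ 0) →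
    Ga y x + Ga x y + Ga (x + y) y + Ga (x + e 6 * y) y + Ga (x + e 7 * y) y = 0 := by decide +kernel
theorem iso0 : ∀ a b c : F16, a * a ^ 4 + b * b ^ 4 + c * c ^ 4 = 0 → a + b = 0 → b = a ∧ c = 0 := by decide +kernel

theorem hf_sym (u v : V3) : hf v u = hf u v ^ 4 := by
  have : ∀ a : F16, (a ^ 4) ^ 4 = a := by decide +kernel
  simp only [hf, add4, mul_pow, this]; ring

theorem line {a b : V3} (h1 : hf a a = 0) (h2 : hf b b = 0) (h3 : hf a b = 1) (φ : V3 → ZMod 5)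
    (hφ : ∀ v, φ v = Ga (v 0 + v 1) (v 0)) : φ b + φ a + φ (a + b) + φ (a + e 6 • b) + φ (a + e 7 • b) = 0 := by
  have k : ∀ u v : V3, hf u u = 0 → hf v u = 1 → u 0 + u 1 = 0 → (v 0 + v 1) * u 0 ^ 4 = 1 := fun u v i1 i2 i3 => by
    obtain ⟨e1, e2⟩ := iso0 _ _ _ i1 i3
    rw [hf, e1, e2] at i2; linear_combination i2
  have h4 : hf b a = 1 := by rw [hf_sym, h3, one_pow]
  have k2 : ∀ t : F16, t ^ 4 = t → φ (a + t • b) = Ga (a 0 + a 1 + t * (b 0 + b 1)) (b 0 + b 1) := fun t ht => by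
    have i1 : hf (a + t • b) (a + t • b) = 0 := by
      simp only [hf, Pi.add_apply, Pi.smul_apply, smul_eq_mul, add4, mul_pow, ht] at h1 h2 h3 h4 ⊢
      linear_combination h1 + t * t * h2 + t * h3 + t * h4 + two t
    have i2 : hf b (a + t • b) = 1 := by
      simp only [hf, Pi.add_apply, Pi.smul_apply, smul_eq_mul, add4, mul_pow, ht] at h2 h4 ⊢
      linear_combination t * h2 + h4
    rw [hφ, ga_eq _ _ _ (k _ _ i1 i2)]
    congr 1; simp only [Pi.add_apply, Pi.smul_apply, smul_eq_mul]; ring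
  have := ga_sum (a 0 + a 1) (b 0 + b 1) fun h0 h => by simpa [h] using k b a h2 h3 h0
  rw [k2 _ (by decide +kernel), k2 _ (by decide +kernel), ← one_smul F16 b, k2 1 (one_pow _), one_smul, one_mul,
    hφ a, hφ b, ga_eq _ _ _ (k _ _ h1 h4), ga_eq _ _ _ (k _ _ h2 h3)]
  exact this

/-- a nonconstant code word -/
def φ0 (v : V3) : ZMod 5 := Ga (v 0 + v 1) (v 0) - Ga (v 1 + v 2) (v 1)

theorem cd0 : Cd φ0 := by
  refine ⟨fun c v h1 h2 h3 => ?_, fun a b h1 h2 h3 => ?_⟩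
  · simp only [φ0, Pi.smul_apply, smul_eq_mul, ← mul_add]
    rw [ga_mul _ _ _ h1, ga_mul _ _ _ h1]
    · ring
    · intro e1 e2
      obtain ⟨e3, e4⟩ := iso0 (v 1) (v 2) (v 0) (by rw [hf] at h3; linear_combination h3) e1
      exact h2 (funext fun i => by fin_cases i <;> simp [e3, e4, e2])
    · intro e1 e2
      obtain ⟨e3, e4⟩ := iso0 _ _ _ h3 e1
      exact h2 (funext fun i => by fin_cases i <;> simp [e3, e4, e2])
  · have i1 := line h1 h2 h3 _ fun _ => rfl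
    have r : ∀ u v : V3, hf ![u 1, u 2, u 0] ![v 1, v 2, v 0] = hf u v := fun u v => by simp [hf]; ring
    have i2 := line ((r ..).trans h1) ((r ..).trans h2) ((r ..).trans h3) _ fun _ => rfl
    simp only [φ0, Pi.add_apply, Pi.smul_apply, cons_val_zero, cons_val_one] at i1 i2 ⊢
    linear_combination i1 - i2

theorem W_ne : W ≠ ⊥ := fun h => by
  have : (fun x : X × X => φ0 x.1.1 - φ0 x.2.1 : Fn (X × X) (ZMod 5)) ∈ W := ⟨φ0, cd0, fun _ _ => rfl⟩
  rw [h] at this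
  exact absurd (congrFun this (⟨![0, 1, 1], by decide +kernel⟩, ⟨![0, 1, e 8], by decide +kernel⟩)) (by decide +kernel)

/-- an element of order 13 -/
def A0 : Matrix (Fin 3) (Fin 3) F16 := !![e 9, 0, e 7; e 13, 0, e 9; 0, e 15, 0]
theorem A0_mv (v : V3) : A0 *ᵥ v = ![e 9 * v 0 + e 7 * v 2, e 13 * v 0 + e 9 * v 2, e 15 * v 1] := by
  ext i; fin_cases i <;> simp [A0, mulVec, dotProduct, Fin.sum_univ_three]
/-- an element of order 13 -/
def u0 : G := ⟨⟨A0, by rw [det_fin_three]; decide +kernel⟩, fun u v => by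
  change hermForm 3 F16 4 (A0 *ᵥ u) (A0 *ᵥ v) = _
  simp only [hf_eq, hf, A0_mv, cons_val, add4, mul_pow]
  linear_combination u 0 * v 0 ^ 4 * (by decide +kernel : e 9 * e 9 ^ 4 + e 13 * e 13 ^ 4 = 1) +
    u 0 * v 2 ^ 4 * (by decide +kernel : e 9 * e 7 ^ 4 + e 13 * e 9 ^ 4 = 0) +
    u 2 * v 0 ^ 4 * (by decide +kernel : e 7 * e 9 ^ 4 + e 9 * e 13 ^ 4 = 0) +
    u 2 * v 2 ^ 4 * (by decide +kernel : e 7 * e 7 ^ 4 + e 9 * e 9 ^ 4 = 1) +
    u 1 * v 1 ^ 4 * (by decide +kernel : e 15 * e 15 ^ 4 = 1)⟩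

theorem u0_ord : orderOf u0 = 13 := by
  haveI : Fact (Nat.Prime 13) := ⟨by norm_num⟩
  refine orderOf_eq_prime (Subtype.ext (Subtype.ext ?_)) fun h => absurd (congrArg (·.1.1 0 0) h) (by decide +kernel)
  have h2 : A0 * A0 = !![e 13, e 11, e 10; e 15, e 14, e 5; e 7, 0, e 14] := by decide +kernel
  have h4 : A0 ^ 4 = !![e 14, e 14, e 12; e 10, e 8, e 12; e 9, e 4, e 8] := by
    rw [show A0 ^ 4 = (A0 * A0) * (A0 * A0) by noncomm_ring, h2]; decide +kernel
  change A0 ^ 13 = 1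
  rw [show A0 ^ 13 = A0 ^ 4 * A0 ^ 4 * A0 ^ 4 * A0 by noncomm_ring, h4]; decide +kernel

/-- position in the orbits of `u0` -/
def tb (a b c : F16) : ℕ := Nat.shiftRight 0x2c00002400340000001b0000000529000000160000000022000019232a000000000000000000000000000000000000000b003700000000150000250c1a0000000000000000000000000000000000000021000013001c00000027000000062e0000000000000000000000000000000000330030000000003600000e121f00000000000035000d0000001e0000000739000000003b00140000002800000009200000000017000f0000002f000000080a0000003f000000003d0000403e3c000000000032000000002b00002d3a1100000000000000000000000000000000000000183800001d00260031000000000000100004000003000200010000000000000000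
  (8 * if a = 0 then (c * b⁻¹).1 else 16 + 16 * (b * a⁻¹).1 + (c * a⁻¹).1) % 256
/-- orbit representatives -/
def rp (j : ℕ) : F16 := e (Nat.shiftRight 0xfca81 (4 * j))

theorem tb_ok : ∀ a b c : F16, a * a ^ 4 + b * b ^ 4 + c * c ^ 4 = 0 →
    if tb a b c < 5 then a = 0 ∧ c = b * rp (tb a b c) else
      tb (e 9 * a + e 7 * c) (e 13 * a + e 9 * c) (e 15 * b) + 5 = tb a b c := by decide +kernel

theorem Cd.const {φ : V3 → ZMod 5} (h : Cd φ) (hu : ∀ x : X, φ (u0 • x).1 = φ x.1) (x : X) :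
    φ x.1 = φ ![0, 1, 1] := by
  have k : ∀ n, ∀ x : X, tb (x.1 0) (x.1 1) (x.1 2) = n → φ x.1 = φ ![0, 1, rp (n % 5)] := fun n => by
    induction n using Nat.strong_induction_on with
    | _ n ih =>
      rintro x rfl
      have := tb_ok _ _ _ x.2.2
      split_ifs at this with hlt
      · have hr : ∀ j < 5, (![0, 1, rp j] : V3) ≠ 0 ∧ hf ![0, 1, rp j] ![0, 1, rp j] = 0 := by decide +kernel
        have e1 : x.1 = x.1 1 • ![0, 1, rp (tb (x.1 0) (x.1 1) (x.1 2))] :=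
          funext fun i => by fin_cases i; exacts [by simpa using this.1, by simp, by simpa using this.2]
        rw [Nat.mod_eq_of_lt hlt, ← h.1 (x.1 1) _ (fun e0 => x.2.1 (by rw [e1, e0, zero_smul])) (hr _ hlt).1
          (hr _ hlt).2, ← e1]
      · rw [← hu, ih _ _ (u0 • x) rfl, ← this] <;> simp only [smul_val, u0, A0_mv, cons_val]
        · simp
        · omega
  have k' : ∀ (v : V3) j, v ≠ 0 ∧ hf v v = 0 ∧ tb (v 0) (v 1) (v 2) % 5 = j → φ v = φ ![0, 1, rp j] :=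
    fun v j hv => hv.2.2 ▸ k _ ⟨v, hv.1, hv.2.1⟩ rfl
  have l : ∀ b : V3, hf b b = 0 ∧ hf ![0, 1, 1] b = 1 → _ := fun b hb => h.2 ![0, 1, 1] b (by decide +kernel) hb.1 hb.2
  have l1 := l ![0, e 2, e 3] (by decide +kernel)
  have l2 := l ![1, 0, 1] (by decide +kernel)
  have l3 := l ![e 12, 0, 1] (by decide +kernel)
  have l4 := l ![e 10, 0, 1] (by decide +kernel)
  rw [k' (_ + e 7 • _) 3 (by decide +kernel), k' (_ + e 6 • _) 2 (by decide +kernel), k' (_ + _) 4 (by decide +kernel),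
    k' ![0, e 2, e 3] 1 (by decide +kernel)] at l1
  rw [k' (_ + e 7 • _) 0 (by decide +kernel), k' (_ + e 6 • _) 4 (by decide +kernel), k' (_ + _) 4 (by decide +kernel),
    k' ![1, 0, 1] 1 (by decide +kernel)] at l2
  rw [k' (_ + e 7 • _) 1 (by decide +kernel), k' (_ + e 6 • _) 1 (by decide +kernel), k' (_ + _) 3 (by decide +kernel),
    k' ![e 12, 0, 1] 3 (by decide +kernel)] at l3
  rw [k' (_ + e 7 • _) 1 (by decide +kernel), k' (_ + e 6 • _) 0 (by decide +kernel), k' (_ + _) 1 (by decide +kernel),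
    k' ![e 10, 0, 1] 4 (by decide +kernel)] at l4
  rw [k _ x rfl, show rp 0 = 1 from rfl] at *
  have h5 : ∀ a : ZMod 5, 5 * a = 0 := by decide
  generalize hj : tb (x.1 0) (x.1 1) (x.1 2) % 5 = j
  have : j < 5 := hj ▸ Nat.mod_lt _ (by norm_num)
  interval_cases j
  · rfl
  · linear_combination 3 * l2 + 4 * l4 - h5 (3 * φ ![0, 1, 1] + 2 * φ ![0, 1, rp 1] + 2 * φ ![0, 1, rp 4])
  · linear_combination l1 + l2 + 2 * l3 + 2 * l4 - h5 (2 * φ ![0, 1, 1] + 2 * φ ![0, 1, rp 1] + φ ![0, 1, rp 3] +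
      φ ![0, 1, rp 4])
  · linear_combination 2 * l2 + 3 * l3 + l4 - h5 (2 * φ ![0, 1, 1] + 2 * φ ![0, 1, rp 1] + φ ![0, 1, rp 3] +
      φ ![0, 1, rp 4])
  · linear_combination 4 * l2 + 3 * l4 - h5 (3 * φ ![0, 1, 1] + 2 * φ ![0, 1, rp 1] + 2 * φ ![0, 1, rp 4])

/-- `SU₃(4) ≅ PSU₃(4)` -/
theorem eqv : Nonempty (G ≃* PSU 3 F16 4) := by
  have h : center G = ⊥ := card_eq_one.1 (H11.card_center_SU card (by norm_num))
  exact ⟨QuotientGroup.quotientBot.symm.trans (QuotientGroup.quotientMulEquivOfEq h.symm)⟩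

theorem nm_13 {u : G} (hu : orderOf u = 13) (f : Fn (X × X) (ZMod 5)) (hf : f ∈ W) : nm u f = 0 := by
  obtain ⟨φ, a, b⟩ := nm_mem W_inv (mem_top u) hf
  have h1 : ∀ x y : X, φ (u⁻¹ • x).1 - φ (u⁻¹ • y).1 = φ x.1 - φ y.1 := fun x y => by
    rw [← b, ← b]; exact congrFun (smul_nm (h := u) (v := f)) (x, y)
  have h2 : ∀ (y : X) (k : ℕ) (x : X), φ (u⁻¹ ^ k • x).1 = φ x.1 + k * (φ (u⁻¹ • y).1 - φ y.1) := fun y k => by
    induction k with
    | zero => simp
    | succ k ih => intro x; rw [pow_succ, mul_smul, ih]; push_cast; linear_combination h1 x y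
  have h3 : ∀ (k : ℕ) (x : X), φ (u⁻¹ ^ k • x).1 = φ x.1 := fun k x => by
    have := h2 x 13 x
    rw [inv_pow, ← hu, pow_orderOf_eq_one, inv_one, one_smul, hu] at this
    rw [h2 x, (by decide : ∀ a c : ZMod 5, a = a + (13 : ℕ) * c → c = 0) _ _ this, mul_zero, add_zero]
  obtain ⟨j⟩ := eqv
  have hc := H11.card_psu (n := 3) card (by norm_num)
  rw [← Nat.card_congr j.toEquiv] at hc
  obtain ⟨g, i, hg⟩ := conj_of_prime (p := 13) (by norm_num) (by
    norm_num [Finset.prod_range_succ] at hc; omega) ((orderOf_inv u).trans hu) u0_ord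
  have h4 := (a.g g⁻¹).const fun x => by
    change φ (g⁻¹ • u0 • x).1 = φ (g⁻¹ • x).1
    rw [hg, smul_smul, ← h3 i (g⁻¹ • x), smul_smul]; group
  have h5 : ∀ x : X, φ x.1 = _ := fun x => (congrArg (fun z : X => φ z.1) (inv_smul_smul g x)).symm.trans (h4 (g • x))
  exact funext fun x => (b x.1 x.2).trans (by rw [h5, h5 x.2, sub_self]; rfl)

end U34

theorem gk_u34 {F : Type*} [Field F] [Fintype F] (hF : Fintype.card F = 4 ^ 2) : GK (PSU 3 F 4) [13, 15, 10] :=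
  fun n hn => by
    rw [u34_ord hF]
    simp only [List.mem_cons, List.not_mem_nil, or_false, exists_eq_or_imp, exists_eq_left]
    refine ⟨?_, by tauto⟩
    rintro (h | h | h | h)
    exacts [.inl h, .inr (.inl h), .inr (.inr h), .inr (.inr (hn.dvd (k := 2) (h.trans (by norm_num))))]

theorem big_u34 : BigGK [13, 15, 10] := by
  obtain ⟨j⟩ := U34.eqv
  refine gk_af (V := Fn (U34.X × U34.X) (ZMod 5)) (p := 5) (by norm_num) (fun v => funext fun x => (by decide : ∀ a : ZMod 5, 5 • a = 0) _) ⊤ U34.W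
    U34.W_inv U34.W_ne _ (fun h _ n hn H => ?_) fun m hm => ?_
  · have h1 := (u34_ord card _).1 ((ord_congr j).1 ⟨h, rfl⟩)
    simp only [List.mem_cons, List.not_mem_nil, or_false, exists_eq_or_imp, exists_eq_left]
    have k : ∀ {a b : ℕ}, orderOf h ∣ a → a * 5 ∣ b ^ 2 → n ∣ b := fun h1 h2 => hn.dvd (k := 2) <| by
      rcases H with H | H
      exacts [(H.trans h1).trans ((dvd_mul_right _ _).trans h2), (H.1.trans (Nat.mul_dvd_mul_right h1 _)).trans h2]
    rcases h1 with h1 | h1 | h1 | h1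
    · rcases (Nat.dvd_prime (by norm_num)).1 h1 with h2 | h2
      · exact .inr (.inr (k (a := 1) h2.dvd (by norm_num)))
      · rcases H with H | ⟨-, v, hv, H⟩
        exacts [.inl (H.trans h1), absurd (U34.nm_13 h2 v hv) H]
    exacts [.inr (.inl (k h1 (by norm_num))), .inr (.inr (k h1 (by norm_num))), .inr (.inr (k h1 (by norm_num)))]
  · obtain ⟨x, hx⟩ := (ord_congr j).2 ((u34_ord card m).2 (by
      simp only [List.mem_cons, List.not_mem_nil, or_false] at hm; rcases hm with rfl | rfl | rfl <;> simp))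
    exact ⟨x, mem_top _, .inl hx.symm.dvd⟩

end H27.Iso
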