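import Cfsg.Agent.H27.PH7

/-!
# Phan systems VIII: automorphisms of `SU₃` preserving the blocks
-/

set_option autoImplicit false

namespace H27.PH

open H11 H12 Cfsg H13.SL2 Module Submodule
open Matrix hiding mul_apply'
open scoped MatrixGroups

variable {F : Type*} [Field F] [Fintype F] {q N : ℕ} (hF : Fintype.card F = q ^ 2)

local notation "σ" => frob hF
local notation "𝐂" => hermC (Fin 3) hF
local notation "𝐞" k => (Pi.single k (1 : F) : Fin _ → F)

theorem exists_tor' : ∃ (t : F) (ht : σ t * t = 1), orderOf (tor hF ht) = q + 1 ∧ orderOf t = q + 1 := by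
  obtain ⟨u, hu, -⟩ := exists_orderOf_eq F (d := q + 1) ⟨_, card_sub_one_eq hF⟩
  have h : σ u * u = 1 := by rw [frob_apply, ← pow_succ, ← hu, ← Units.val_pow_eq_pow_val, pow_orderOf_eq_one]; rfl
  refine ⟨u, h, ?_, by rw [orderOf_units, hu]⟩
  rw [← hu, ← orderOf_units, orderOf_eq_orderOf_iff]
  have k : ∀ n : ℕ, (tor hF h ^ n).1.1 = diagonal (![u.1, σ u] ^ n) := fun n => diagonal_pow _ n
  refine fun n => ⟨fun e => by simpa [e] using (congrArg (· 0 0) (k n)).symm, fun e => su_ext ((k n).trans ?_)⟩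
  ext a b; fin_cases a <;> fin_cases b <;> simp [e, ← map_pow, -frob_apply]

theorem coe_i0 (z : SU 2 F q) : (i0 hF z).1.1 = !![z.1.1 0 0, z.1.1 0 1, 0; z.1.1 1 0, z.1.1 1 1, 0; 0, 0, 1] := by
  ext a b; fin_cases a <;> fin_cases b <;> simp [i0, coe_bl, mul_apply, ct_Jm, Jm_apply, Fin.sum_univ_succ, one_apply]

theorem coe_i1 (z : SU 2 F q) : (i1 hF z).1.1 = !![1, 0, 0; 0, z.1.1 0 0, z.1.1 0 1; 0, z.1.1 1 0, z.1.1 1 1] := by
  ext a b; fin_cases a <;> fin_cases b <;> simp [i1, coe_bl, mul_apply, ct_Jm, Jm_apply, Fin.sum_univ_succ, one_apply]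

theorem hom_eq {τ τ' : F →+* F} (h : ∀ t, σ t * t = 1 → τ t = τ' t) : τ = τ' := by
  obtain ⟨t, ht, -, o⟩ := exists_tor' hF
  by_contra n
  have := card_sq_le_of_ne_top (F₀ := τ.eqLocusField τ') fun e => n (RingHom.ext fun x => (e.ge trivial : x ∈ _))
  rw [Nat.card_eq_fintype_card (α := F), hF, Nat.pow_le_pow_iff_left two_ne_zero] at this
  have k := pow_card_of_mem (F₀ := τ.eqLocusField τ') (h t ht)
  have := two_le_card_subfield (τ.eqLocusField τ')
  obtain ⟨m, hm⟩ : ∃ m, Nat.card (τ.eqLocusField τ') = m + 1 := ⟨_, (Nat.sub_add_cancel (by omega)).symm⟩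
  rw [hm, pow_succ, mul_eq_right₀ (by rintro rfl; simp at ht)] at k
  have := orderOf_le_of_pow_eq_one (by omega) k
  omega

include hF

theorem exists_w : ∃ w : SU 2 F q, w.1.1 = !![0, 1; -1, 0] := ⟨⟨⟨_, by simp⟩, (mem_su hF).2 (by
    ext a b; fin_cases a <;> fin_cases b <;> simp [ct, mul_apply, -frob_apply])⟩, rfl⟩

theorem scal3 {c : SU 3 F q} (h0 : ∀ z, Commute c (i0 hF z)) (h1 : ∀ z, Commute c (i1 hF z)) :
    c ∈ Subgroup.center _ := by
  obtain ⟨w, hw⟩ := exists_w hF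
  obtain ⟨t, ht, t1⟩ := exists_tor hF (two_le_of_card_sq hF)
  have a := fun i j => congrArg (·.1.1 i j) (h0 w).eq
  have b := fun i j => congrArg (·.1.1 i j) (h1 w).eq
  have d := congrArg (·.1.1 0 1) (h0 (tor hF ht)).eq
  simp [Fin.forall_fin_succ, coe_i0, coe_i1, tor, mul_apply, Fin.sum_univ_succ, -frob_apply, hw] at a b d
  refine (su_mem_center_iff hF (by simp) c).2 ⟨c.1.1 0 0, ?_⟩
  ext i j; fin_cases i <;> fin_cases j <;> simp <;> grind

theorem invol (hq : q = 2) {u : SU 3 F q} (hu : u * u = 1) : ∃ k : Fin 3, u • (𝐞 k) = 𝐞 k := by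
  have hC := hermC_nondeg (ι := Fin 3) hF
  have := char2 hF hq
  have h2 : (2 : F) = 0 := CharP.cast_eq_zero F 2
  have t : ∀ v : Fin 3 → F, v + v = 0 := fun v => by rw [← two_smul F, h2, zero_smul]
  have s : ∀ v w : Fin 3 → F, (𝐂).B (u • v + v) w = (𝐂).B v (u • w + w) := fun v w => by
    rw [CForm.B_add_left, B_inv, inv_eq_of_mul_eq_one_left hu, map_add]
  have z : ∀ v w : Fin 3 → F, (𝐂).B (u • v + v) (u • w + w) = 0 := fun v w => by
    rw [s, smul_add, ← mul_smul, hu, one_smul, add_comm w, t, map_zero]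
  have f : ∀ x : Fin 3 → F, u • x + x = 0 → u • x = x := fun x h => by
    rw [eq_neg_of_add_eq_zero_left h, neg_eq_of_add_eq_zero_left (t _)]
  by_contra! h
  obtain ⟨k, hk⟩ : ∃ k, (u • (𝐞 0) + 𝐞 0 : Fin 3 → F) k = 0 := by
    by_contra! n
    have := z (𝐞 0) (𝐞 0)
    have e : ∀ a : F, a ≠ 0 → a * a ^ q = 1 := fun a ha => by
      simpa [hF, hq, pow_succ'] using FiniteField.pow_card_sub_one_eq_one a ha
    simp only [hermC_B, Fin.sum_univ_three, e _ (n _)] at this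
    exact one_ne_zero (α := F) (by linear_combination this - h2)
  refine h k (f _ (hC.eq_zero' fun w => ?_))
  obtain ⟨c, hc⟩ := par hF (mt (f _) (h 0)) (z _ _) (z _ w) (z _ _)
  rw [← s, ← hc, sl, ← sy (𝐞 k), B_e, hk, map_zero, mul_zero]

theorem rig (hq : q = 2 ∨ (2 : F) ≠ 0) {δ : SU 3 F q →* SU 3 F q} (h0 : ∀ z, δ (i0 hF z) = i0 hF z)
    (h1 : ∀ z, δ (i1 hF z) = i1 hF z) (g : SU 3 F q) : δ g = g := by
  have hL : (i0 hF).range ⊔ (i1 hF).range ≤ δ.eqLocus (.id _) := sup_le (by rintro _ ⟨z, rfl⟩; exact h0 z)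
    (by rintro _ ⟨z, rfl⟩; exact h1 z)
  refine hq.symm.elim (fun h => hL ((top3' hF h).ge trivial)) fun hq => ?_
  have := char2 hF hq
  have k : ∀ u : SU 3 F q, u ^ 2 = 1 → δ u = u := fun u hu => by
    obtain ⟨k, hk⟩ := invol hF hq (sq u ▸ hu)
    have a : ∀ u : SU 3 F q, u • (𝐞 0) = (𝐞 0) → u ∈ (i1 hF).range := fun u hu =>
      (rg1 hF).ge (mem_Bk.2 fun i hi => by fin_cases i <;> simp at hi; exact hu)
    fin_cases k
    · exact hL (Subgroup.mem_sup_right (a u hk))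
    · obtain ⟨t, ht, e⟩ := tran hF (s := {0, 1}) (a := (0 : Fin 3)) (b := 1) (by simp) (by simp) (by simp)
        (e_mem (a := 1) (by simp)) (B_ee hF _)
      replace ht := hL (Subgroup.mem_sup_left ((rg0 hF).ge ht))
      have := mul_mem (mul_mem ht (hL (Subgroup.mem_sup_right (a (t⁻¹ * u * t) (by
        rw [mul_smul, mul_smul, e, inv_smul_eq_iff, e]; exact hk))))) (inv_mem ht)
      rwa [show t * (t⁻¹ * u * t) * t⁻¹ = u by group] at this
    · exact hL (Subgroup.mem_sup_left ((rg0 hF).ge (mem_Bk.2 fun i hi => by fin_cases i <;> simp at hi; exact hk)))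
  have c : ∀ g, g⁻¹ * δ g ∈ Subgroup.center _ := fun g => by
    have : ∀ (i : SU 2 F q →* SU 3 F q) z, Commute (g⁻¹ * δ g) (i z) := fun i z =>
      su2_gen hF 2 (L := (Subgroup.centralizer {g⁻¹ * δ g}).comap i) (fun u hu => by
        have e : i u ^ 2 = 1 := by rw [← map_pow, hu, map_one]
        have := k (g * i u * g⁻¹) (by rw [conj_pow, e]; simp)
        rw [map_mul, map_mul, k _ e, map_inv, mul_inv_eq_iff_eq_mul] at this
        simp [Subgroup.mem_centralizer_iff, mul_assoc, this]) z _ rfl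
    exact scal3 hF (this _) (this _)
  refine (gen2 hF hq (L := δ.eqLocus (.id _)) fun u hu => ?_).ge trivial
  have e : (u⁻¹ * δ u) ^ 4 = 1 := by
    have := Commute.mul_pow (Subgroup.mem_center_iff.1 (c u) u) 4
    rwa [mul_inv_cancel_left, ← map_pow, hu, map_one, one_mul, eq_comm] at this
  have e' : (u⁻¹ * δ u) ^ 3 = 1 := by
    have := pow_card_eq_one' (x := (⟨_, c u⟩ : Subgroup.center _))
    rw [card_center_SU hF (by simp), show Nat.gcd 3 (q + 1) = 3 by rw [hq]; rfl] at this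
    exact congrArg Subtype.val this
  rw [pow_succ, e', one_mul, inv_mul_eq_one] at e
  exact e.symm

theorem fix_i0 {v : Fin 3 → F} (h : ∀ z, i0 hF z • v = v) : v 0 = 0 ∧ v 1 = 0 := by
  obtain ⟨t, ht, t1⟩ := exists_tor hF (two_le_of_card_sq hF)
  have a := congrFun (h (tor hF ht)) 0
  have b := congrFun (h (tor hF ht)) 1
  simp [su_smul, coe_i0, tor, vecHead, vecTail, -frob_apply] at a b
  grind

theorem fix_i1 {v : Fin 3 → F} (h : ∀ z, i1 hF z • v = v) : v 1 = 0 ∧ v 2 = 0 := by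
  obtain ⟨t, ht, t1⟩ := exists_tor hF (two_le_of_card_sq hF)
  have a := congrFun (h (tor hF ht)) 1
  have b := congrFun (h (tor hF ht)) 2
  simp [su_smul, coe_i1, tor, vecHead, vecTail, -frob_apply] at a b
  grind

theorem aut_pre {β : SU 3 F q →* SU 3 F q} (hβ : Function.Injective β)
    (h0 : (β.comp (i0 hF)).range = (i0 hF).range) (h1 : (β.comp (i1 hF)).range = (i1 hF).range) :
    ∃ (τ : F →+* F) (c c' : F) (hc : σ c * c = 1) (hc' : σ c' * c' = 1), ∀ z,
      β (i0 hF z) = i0 hF (bl hF (diagonal ![c, 1]) (on_dg (by simp [hc, -frob_apply])) (fa hF τ z)) ∧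
      β (i1 hF z) = i1 hF (bl hF (diagonal ![c', 1]) (on_dg (by simp [hc', -frob_apply])) (fa hF τ z)) := by
  have k : ∀ i : SU 2 F q →* SU 3 F q, Function.Injective i → (β.comp i).range = i.range →
      ∃ α : SU 2 F q →* SU 2 F q, Function.Injective α ∧ ∀ g, i (α g) = β (i g) := fun i hi h =>
    have : ∀ g, i ((MonoidHom.ofInjective hi).symm.toMonoidHom.comp ((β.comp i).codRestrict _ fun g => h.le ⟨g, rfl⟩) g) =
      β (i g) := fun g => MonoidHom.apply_ofInjective_symm hi _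
    ⟨_, fun a b e => hi (hβ (by rw [← this, e, this])), this⟩
  obtain ⟨α, hα, a⟩ := k (i0 hF) (bl_inj _) h0
  obtain ⟨α', hα', a'⟩ := k (i1 hF) (bl_inj _) h1
  have s : ∀ α : SU 2 F q →* SU 2 F q, Function.Injective α → Function.Surjective α := fun _ =>
    Finite.surjective_of_injective
  obtain ⟨τ, c, hc, e⟩ := aut_su2 hF hα fun t ht => by
    have := (fix_i1 hF (v := i0 hF (α (tor hF ht)) • 𝐞 0) fun z => by
      obtain ⟨z, rfl⟩ := s _ hα' z
      obtain ⟨y, rfl⟩ := s _ (bl_inj (on_dg (hF := hF) (c := ![σ t, 1]) (by simp [frob_frob, mul_comm t, ht, -frob_apply]))) z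
      have := congrArg β (tor_i1 hF ht y)
      rw [map_mul, map_mul, map_inv, ← a, ← a', ← a', mul_inv_eq_iff_eq_mul] at this
      rw [← mul_smul, ← this, mul_smul, mem_Bk.1 ((rg1 hF).le ⟨_, rfl⟩) 0 (by simp)]).1
    simpa [su_smul, coe_i0, (su2 hF (α _)).2, -frob_apply] using this
  obtain ⟨τ', c', hc', e'⟩ := aut_su2 hF hα' fun t ht => by
    have := (fix_i0 hF (v := i1 hF (α' (tor hF ht)) • 𝐞 2) fun z => by
      obtain ⟨z, rfl⟩ := s _ hα z
      obtain ⟨y, rfl⟩ := s _ (bl_inj (on_dg (hF := hF) (c := ![1, t]) (by simp [ht, -frob_apply]))) z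
      have := congrArg β (tor_i0 hF ht y)
      rw [map_mul, map_mul, map_inv, ← a, ← a', ← a, mul_inv_eq_iff_eq_mul] at this
      rw [← mul_smul, ← this, mul_smul, mem_Bk.1 ((rg0 hF).le ⟨_, rfl⟩) 2 (by simp)]).2
    simpa [su_smul, coe_i1, -frob_apply] using this
  obtain rfl : τ = τ' := hom_eq hF fun t ht => by
    obtain ⟨w, hw⟩ := exists_w hF
    have ht' : σ (τ t) * τ t = 1 := by simpa using congrArg τ ht
    have e1 : α (tor hF ht) = tor hF ht' := su_ext (by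
      ext i j; rw [e, bl_dg_apply (by simp [hc, -frob_apply])]
      rw [frob_apply] at hc
      fin_cases i <;> fin_cases j <;> simp [tor, coe_fa]
      linear_combination τ t * hc)
    have := congrArg β (tor_i1 hF ht w)
    rw [map_mul, map_mul, map_inv, ← a, ← a', ← a', e1, tor_i1] at this
    have := congrArg (·.1.1 1 0) (bl_inj _ this)
    simp only [e', bl_dg_apply (hF := hF) (c := ![c', 1]) (by simp [hc', -frob_apply]), coe_fa, map_apply,
      bl_dg_apply (hF := hF) (c := ![σ t, 1]) (by simp [frob_frob, mul_comm t, ht, -frob_apply]),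
      bl_dg_apply (hF := hF) (c := ![σ (τ t), 1]) (by simp [frob_frob, mul_comm (τ t), ht', -frob_apply])] at this
    simp [hw, frob_frob, -frob_apply] at this
    exact mul_left_cancel₀ (left_ne_zero_of_mul_eq_one hc') (this.trans (mul_comm _ _))
  exact ⟨τ, c, c', hc, hc', fun z => by rw [← a, ← a', e, e']; exact ⟨rfl, rfl⟩⟩

theorem aut_su3 (hq : q = 2 ∨ (2 : F) ≠ 0) {β : SU 3 F q →* SU 3 F q} (hβ : Function.Injective β)
    (h0 : (β.comp (i0 hF)).range = (i0 hF).range) (h1 : (β.comp (i1 hF)).range = (i1 hF).range) :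
    ∃ (τ : F →+* F) (c : Fin 3 → F) (hc : ∀ i, σ (c i) * c i = 1), ∀ g, β g = bl hF _ (on_dg hc) (fa hF τ g) := by
  obtain ⟨τ, c, c', hc, hc', e⟩ := aut_pre hF hβ h0 h1
  have hd : ∀ i, σ (![c, 1, σ c'] i) * ![c, 1, σ c'] i = 1 := by
    simp [Fin.forall_fin_succ, hc, frob_frob, mul_comm c', hc', -frob_apply]
  refine ⟨τ, _, hd, fun g => ?_⟩
  obtain ⟨γ, hγ⟩ : ∃ γ : SU 3 F q ≃* SU 3 F q, ∀ g, γ g = bl hF _ (on_dg hd) (fa hF τ g) :=
    ⟨.ofBijective ((bl hF _ (on_dg hd)).comp (fa hF τ)) (Finite.injective_iff_bijective.1 fun a b e =>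
      Finite.injective_iff_surjective.2 (fa_surj hF τ) (bl_inj (on_dg hd) e)), fun _ => rfl⟩
  rw [← hγ]
  refine γ.symm_apply_eq.1 (rig hF hq (δ := γ.symm.toMonoidHom.comp β) (fun z => γ.symm_apply_eq.2 ?_)
    (fun z => γ.symm_apply_eq.2 ?_) g) <;> rw [hγ]
  · refine (e z).1.trans ?_
    refine .symm (((congrArg _ (fa_bl hF τ (Fin.castSucc_injective 2) z)).trans
      (bl_dg hd (Fin.castSucc_injective 2) _)).trans (congrArg _ (bl_congr _ ?_ _)))
    congr 1; ext a; fin_cases a <;> rfl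
  · refine (e z).2.trans ?_
    refine .symm (((congrArg _ (fa_bl hF τ (Fin.succ_injective 2) z)).trans
      (bl_dg hd (Fin.succ_injective 2) _)).trans (congrArg _ (su_ext ?_)))
    ext a b; rw [bl_dg_apply (c := ![c, 1, σ c'] ∘ Fin.succ) fun i => hd i.succ, bl_dg_apply (by simp [hc', -frob_apply])]
    fin_cases a <;> fin_cases b <;> simp [frob_frob, -frob_apply] <;> grind

theorem i_comm {x y : SU 2 F q} (hx : x.1.1 0 1 = 0) (hy : y.1.1 0 1 = 0) : Commute (i0 hF x) (i1 hF y) :=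
  su_ext (by
    change (i0 hF x).1.1 * (i1 hF y).1.1 = (i1 hF y).1.1 * (i0 hF x).1.1
    simp [coe_i0, coe_i1, -frob_apply, hx, hy, (su2 hF x).2, (su2 hF y).2, mul_comm])

theorem pair2 {β : SU 3 F q →* SU 3 F q} (hβ : Function.Injective β) : ∃ k : SU 3 F q,
    ((MulAut.conj k).toMonoidHom.comp (i0 hF)).range = (β.comp (i0 hF)).range ∧
      ((MulAut.conj k).toMonoidHom.comp (i1 hF)).range = (β.comp (i1 hF)).range := by
  have h0 : Function.Injective (β.comp (i0 hF)) := fun a b e => bl_inj _ (hβ e)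
  have h1 : Function.Injective (β.comp (i1 hF)) := fun a b e => bl_inj _ (hβ e)
  obtain ⟨x, x1, hx⟩ := fix_vec hF _ h0
  obtain ⟨y, y1, hy⟩ := fix_vec hF _ h1
  obtain ⟨t, ht, o, -⟩ := exists_tor' hF
  obtain ⟨k, -, rfl⟩ := tran hF (s := Set.univ) (a := 2) (b := 1) trivial trivial (by simp) (mem_Ws.2 (by simp)) x1
  have f : ∀ (k) (i θ : SU 2 F q →* SU 3 F q), Function.Injective θ →
      (∀ g, k⁻¹ * θ g * k ∈ i.range) → ((MulAut.conj k).toMonoidHom.comp i).range = θ.range := fun k i θ e h =>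
    (Subgroup.eq_of_le_of_card_ge (by
      rintro _ ⟨g, rfl⟩; obtain ⟨z, hz⟩ := h g; exact MonoidHom.mem_range.2 ⟨z, by simp [hz, mul_assoc]⟩)
      ((Subgroup.card_range_dvd _ |> Nat.le_of_dvd Nat.card_pos).trans
        (Nat.card_congr (MonoidHom.ofInjective e).toEquiv).le)).symm
  have f0 : ∀ (l) (θ : SU 2 F q →* SU 3 F q), l ∈ Bk F q {0, 1} → (∀ g, θ g • k • (𝐞 2) = k • 𝐞 2) → ∀ g,
      (k * l)⁻¹ * θ g * (k * l) ∈ (i0 hF).range := fun l θ hl h g => (rg0 hF).ge (mem_Bk.2 fun i hi => by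
    obtain rfl : i = 2 := by fin_cases i <;> simp at hi ⊢
    rw [mul_smul, mul_smul, inv_smul_eq_iff, mul_smul, mem_Bk.1 hl 2 (by simp), h])
  have o : (𝐂).B (k • 𝐞 2) y = 0 := by
    by_contra n
    have hc := ((i_comm hF (x := tor hF ht) (y := tor hF ht) (by simp [tor]) (by simp [tor])).map β).eq
    have e := fix_par hF y1 (hy _) (v := β (i0 hF (tor hF ht)) • y) (by
      rw [← mul_smul, MonoidHom.comp_apply, ← hc, mul_smul]; exact congrArg _ (hy _)) ((orderOf_injective _ h1 _).trans o)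
    have e1 := B_g hF (β (i0 hF (tor hF ht))) (k • 𝐞 2) y
    rw [show β _ • _ = _ from hx _, e, CForm.B_smul_right, mul_eq_right₀ n] at e1
    rw [e1, one_smul] at e
    have e2 := fix_par hF x1 (hx _) e ((orderOf_injective _ h0 _).trans o)
    obtain ⟨w, hw⟩ := exists_w hF
    obtain ⟨z, hz⟩ := ((f _ _ _ h1 (f0 1 _ (one_mem _) fun g => smul_right_injective _ n (show _ • _ • _ = _ • _ by
      rw [← smul_comm (β.comp _ g), ← e2, hy]))).symm.trans (f _ _ _ h0 (f0 1 _ (one_mem _) hx))).le ⟨w, rfl⟩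
    simpa [coe_i0, coe_i1, hw] using congrArg (·.1.1 2 2) (hβ hz)
  obtain ⟨l, hl, e⟩ := tran hF (s := {0, 1}) (a := 0) (b := 1) (by simp) (by simp) (by simp) (u := k⁻¹ • y)
    (mem_Ws.2 fun i hi => by
      obtain rfl : i = 2 := by fin_cases i <;> simp at hi ⊢
      rw [← B_e hF 2 (k⁻¹ • y), ← B_inv, o]) (by rw [B_g, y1])
  refine ⟨_, f _ _ _ h0 (f0 l _ hl hx), f _ _ _ h1 fun g => (rg1 hF).ge (mem_Bk.2 fun i hi => ?_)⟩
  obtain rfl : i = 0 := by fin_cases i <;> simp at hi ⊢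
  rw [mul_smul, mul_smul, inv_smul_eq_iff, mul_smul, e, smul_inv_smul, hy]

/-- The two block embeddings `SU₃ → SU₄`. -/
def j0 : SU 3 F q →* SU 4 F q := bl hF _ (on_Jm (Fin.castSucc_injective 3))

@[inherit_doc j0] def j1 : SU 3 F q →* SU 4 F q := bl hF _ (on_Jm (Fin.succ_injective 3))

theorem ext4 (hq : q = 2 ∨ (2 : F) ≠ 0) {β : SU 3 F q →* SU 3 F q} (hβ : Function.Injective β) :
    ∃ γ : SU 4 F q ≃* SU 4 F q, ∀ g, γ (j0 hF g) = j0 hF (β g) := by
  obtain ⟨k, h0, h1⟩ := pair2 hF hβ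
  have r : ∀ i : SU 2 F q →* SU 3 F q, ((MulAut.conj k).toMonoidHom.comp i).range = (β.comp i).range →
      (((MulAut.conj k⁻¹).toMonoidHom.comp β).comp i).range = i.range := fun i h => by
    rw [MonoidHom.comp_assoc, MonoidHom.range_comp, ← h, MonoidHom.map_range]; congr 1; ext; simp [mul_assoc]
  obtain ⟨τ, c, hc, e⟩ := aut_su3 hF hq ((MulAut.conj k⁻¹).injective.comp hβ) (r _ h0) (r _ h1)
  have hd : ∀ i, σ (![c 0, c 1, c 2, 1] i) * ![c 0, c 1, c 2, 1] i = 1 := by simp [Fin.forall_fin_succ, hc, -frob_apply]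
  refine ⟨(MulEquiv.ofBijective ((bl hF _ (on_dg hd)).comp (fa hF τ)) (Finite.injective_iff_bijective.1 fun a b e =>
      Finite.injective_iff_surjective.2 (fa_surj hF τ) (bl_inj (on_dg hd) e))).trans (MulAut.conj (j0 hF k)), fun g => ?_⟩
  have := ((congrArg _ (fa_bl hF τ (Fin.castSucc_injective 3) g)).trans (bl_dg hd (Fin.castSucc_injective 3) _)).trans
    (congrArg _ ((bl_congr _ (by congr 1; ext a; fin_cases a <;> rfl) _).trans (e g).symm))
  refine (congrArg (MulAut.conj (j0 hF k)) this).trans ?_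
  simp [j0, mul_assoc]

end H27.PH
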