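import Cfsg.Agent.H27.PH8

/-!
# Phan systems IX: subgroups of `SU₄`
-/

set_option autoImplicit false

namespace H27.PH

open H11 H12 Cfsg H13.SL2 Module Submodule
open Matrix hiding mul_apply'
open scoped MatrixGroups

variable {F : Type*} [Field F] [Fintype F] {q N : ℕ} (hF : Fintype.card F = q ^ 2) {G : Type*} [Group G]

local notation "σ" => frob hF
local notation "𝐂" => hermC (Fin N) hF
local notation "𝐞" k => (Pi.single k (1 : F) : Fin _ → F)

/-- Eigenspaces. -/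
def Eg (g : SU N F q) (c : F) : Submodule F (Fin N → F) := LinearMap.ker (toLin' g.1.1 - c • LinearMap.id)

omit [Fintype F] in
theorem mem_Eg {g : SU N F q} {c : F} {v : Fin N → F} : v ∈ Eg g c ↔ g • v = c • v := by simp [Eg, su_smul, sub_eq_zero]

omit [Fintype F] in
theorem Eg_comm {g h : SU N F q} (k : Commute g h) {c : F} {v : Fin N → F} (hv : v ∈ Eg g c) : h • v ∈ Eg g c := by
  rw [mem_Eg] at *; rw [← mul_smul, k.eq, mul_smul, hv, smul_comm]

omit [Fintype F] in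
theorem detW {H : Type*} [Group H] (hH : ∀ (f : H →* F) h, f h = 1) (θ : H →* SU N F q) {W : Submodule F (Fin N → F)}
    (hW : ∀ h, ∀ v ∈ W, θ h • v ∈ W) {c : H} {l : F} (hc : W ≤ Eg (θ c) l) : l ^ finrank F W = 1 := by
  let ρ := Representation.subrepresentation ((Representation.ofDistribMulAction F (SU N F q) (Fin N → F)).comp θ) W hW
  have := hH (LinearMap.det.comp ρ) c
  rwa [MonoidHom.comp_apply, show ρ c = l • LinearMap.id from LinearMap.ext fun v => Subtype.ext (mem_Eg.1 (hc v.2)),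
    LinearMap.det_smul, LinearMap.det_id, mul_one] at this

omit [Fintype F] in
theorem pow_p {p : ℕ} [Fact p.Prime] [CharP F p] {c : F} (h : c ^ p = 1) : c = 1 :=
  frobenius_inj F p (h.trans (map_one _).symm)

omit [Fintype F] in
theorem fix_p {p : ℕ} [Fact p.Prime] [CharP F p] {b : SU N F q} (h : b ^ p = 1) {y : Fin N → F} {c : F}
    (e : b • y = c • y) : b • y = y := by
  have k : ∀ n : ℕ, b ^ n • y = c ^ n • y := fun n => by
    induction n with
    | zero => simp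
    | succ n ih => rw [pow_succ', pow_succ, mul_smul, ih, smul_comm, e, mul_smul]
  by_cases y0 : y = 0
  · simp [y0]
  have := k p
  rw [h, one_smul, eq_comm, ← sub_eq_zero, ← one_smul F y, ← mul_smul, ← sub_smul, mul_one, smul_eq_zero_iff_left y0,
    sub_eq_zero] at this
  rw [e, pow_p this, one_smul]

include hF

theorem triv2 (f : SU 2 F q →* F) (h : SU 2 F q) : f h = 1 := by
  obtain ⟨p, k, hp, _, -⟩ := exists_prime_pow_of_card_sq hF
  have := Fact.mk hp
  exact su2_gen hF p (L := f.ker) (fun u hu => pow_p (p := p) (by rw [← map_pow, hu, map_one])) h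

theorem cen (hN : 2 ≤ N) {z : SU N F q} (hz : z ∈ Subgroup.center _) : ∃ c : F, ∀ v : Fin N → F, z • v = c • v :=
  let ⟨c, h⟩ := (su_mem_center_iff hF hN z).1 hz
  ⟨c, fun v => by ext; simp [su_smul, h]⟩

omit hF [Fintype F] in
theorem su_ext' {g h : SU N F q} (e : ∀ v : Fin N → F, g • v = h • v) : g = h :=
  su_ext (ext_of_mulVec_single fun _ => e _)

variable (hN : 2 ≤ N) {g : SU N F q →* G} (hg : g.ker ≤ Subgroup.center _)
include hN hg

omit hg in
theorem cen_p {p : ℕ} [Fact p.Prime] [CharP F p] {z : SU N F q} (hz : z ∈ Subgroup.center _) (h : z ^ p = 1) : z = 1 :=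
  let ⟨_, e⟩ := cen hF hN hz
  su_ext' fun v => (fix_p h (e v)).trans (one_smul _ v).symm

theorem lcomm (θ : SU 2 F q →* SU N F q) {b : SU N F q} (h : ∀ y, Commute (g b) (g (θ y))) (y : SU 2 F q) :
    Commute b (θ y) := by
  obtain ⟨p, k, hp, _, -⟩ := exists_prime_pow_of_card_sq hF
  have := Fact.mk hp
  refine (su2_gen hF p (L := (Subgroup.centralizer {b}).comap θ) (fun u hu => ?_) y _ rfl :)
  have e : PEl p (θ u) := ⟨1, by rw [pow_one, ← map_pow, hu, map_one]⟩
  rintro _ rfl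
  exact mul_inv_eq_iff_eq_mul.1 (PEl.eq_of hg (fun z hz => cen_p hF hN (hg hz)) (e.conj _) e (by
    rw [map_mul, map_mul, (h u).eq]; simp))

theorem lfix (θ : SU 2 F q →* SU N F q) {y : Fin N → F} (h : ∀ u, g (θ u) ∈ (MulAction.stabilizer _ y).map g)
    (u : SU 2 F q) : θ u • y = y := by
  obtain ⟨p, k, hp, _, -⟩ := exists_prime_pow_of_card_sq hF
  have := Fact.mk hp
  refine su2_gen hF p (L := (MulAction.stabilizer _ y).comap θ) (fun u hu => ?_) u
  obtain ⟨t, ht, e⟩ := h u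
  obtain ⟨c, hc⟩ := cen hF hN (hg (show θ u * t⁻¹ ∈ g.ker by simp [e]))
  exact fix_p (p := p) (by rw [← map_pow, hu, map_one]) (c := c) (by rw [← hc, mul_smul, inv_smul_eq_iff.2 ht.symm])

theorem lift2 (φ : SU 2 F q →* G) (h : φ.range ≤ g.range) : ∃ θ : SU 2 F q →* SU N F q, ∀ u, g (θ u) = φ u := by
  obtain ⟨p, k, hp, _, k0, hq⟩ := exists_prime_pow_of_card_sq hF
  have := Fact.mk hp
  have := Fintype.ofFinite (GaloisField p k)
  obtain ⟨e⟩ := nonempty_su_two_equiv hF (K := GaloisField p k)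
    (by rw [← Nat.card_eq_fintype_card, GaloisField.card _ _ k0.ne', hq])
  have px : ∀ t : GaloisField p k, x t ^ p = 1 := fun t => by
    have : ∀ n : ℕ, x t ^ n = x (n * t) := fun n => by induction n <;> simp [pow_succ, add_mul, x_add, *]
    simp [this]
  have py : ∀ t : GaloisField p k, y t ^ p = 1 := fun t => by
    have : ∀ n : ℕ, y t ^ n = y (n * t) := fun n => by induction n <;> simp [pow_succ, add_mul, y_add, *]
    simp [this]
  have hk : ∀ z ∈ g.ker, z ^ p = 1 → z = 1 := fun z hz => cen_p hF hN (hg hz)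
  have l : ∀ u : SL(2, GaloisField p k), u ^ p = 1 → ∃ a, PEl p a ∧ g a = φ (e.symm u) := fun u hu => by
    obtain ⟨a, h1, h2⟩ := PEl.exists_lift (π := g.rangeRestrict) (p := p) (by rwa [MonoidHom.ker_rangeRestrict])
      g.rangeRestrict_surjective (by rw [MonoidHom.ker_rangeRestrict]; exact exists_root_of_finite hk hg)
      (g := ⟨_, h ⟨e.symm u, rfl⟩⟩) ⟨1, Subtype.ext (by simp [← map_pow, hu])⟩
    exact ⟨a, h1, congrArg Subtype.val h2⟩
  choose X x1 x2 using fun t => l _ (px t)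
  choose Y y1 y2 using fun t => l _ (py t)
  have a : ∀ (x : GaloisField p k → SL(2, GaloisField p k)) (X : GaloisField p k → SU N F q), (∀ t, PEl p (X t)) →
      (∀ t, g (X t) = φ (e.symm (x t))) → (∀ s t, x (s + t) = x s * x t) → ∀ s t, X (s + t) = X s * X t :=
    fun x X h1 h2 h3 s t => PEl.eq_of hg hk (h1 _) ((h1 s).mul_of_commute (h1 t) (mul_inv_eq_iff_eq_mul.1
      (PEl.eq_of hg hk ((h1 t).conj _) (h1 t) (by
        simp only [map_mul, map_inv, h2]; rw [← map_mul, ← map_mul, ← h3, add_comm, h3]; simp)))) (by simp [h2, h3])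
  obtain ⟨θ, h1, h2⟩ := R1.exists_hom (X := X) (Y := Y) ⟨a x X x1 x2 x_add, a y Y y1 y2 y_add, fun t ht u =>
    PEl.eq_of hg hk ((x1 u).conj _) (y1 _) (by rw [y2, ← r1_sl2.conj t ht u]; simp [x2, y2])⟩
  refine ⟨θ.comp e.toMonoidHom, fun u => ?_⟩
  obtain ⟨u, rfl⟩ := e.symm.surjective u
  change g (θ (e (e.symm u))) = _
  rw [e.apply_symm_apply]
  induction u using H13.SL2.induction with
  | hx t => rw [h1, x2]
  | hw => simp [w, h1, h2, x2, y2]
  | hmul g h a b => simp [a, b]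

omit hN hg in
theorem star2 (hq : q = 2) {θ : SU 3 F q →* SU 4 F q} (hθ : Function.Injective θ) :
    ∃ x, (hermC (Fin 4) hF).B x x = 1 ∧ ∀ a, θ a • x = x := by
  have := char2 hF hq
  have h2 : (2 : F) = 0 := CharP.cast_eq_zero F 2
  have hC := hermC_nondeg (ι := Fin 4) hF
  have p4 : ∀ c : F, c ^ 4 = 1 → c = 1 := fun c h => pow_p (p := 2) (pow_p (p := 2) (by rw [← h]; ring))
  have tr : ∀ (f : SU 3 F q →* F) h, f h = 1 := fun f h =>
    (gen2 hF hq (L := f.ker) fun u hu => p4 _ (by rw [← map_pow, hu, map_one])).ge trivial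
  obtain ⟨c, c3⟩ := exists_prime_orderOf_dvd_card' (G := Subgroup.center (SU 3 F q)) 3 (hp := ⟨Nat.prime_three⟩)
    (by rw [card_center_SU hF (by simp), hq]; rfl)
  have cc : ∀ a, Commute (θ c) (θ a) := fun a => Commute.map (Subgroup.mem_center_iff.1 c.2 a).symm θ
  have c1 : ∀ v : Fin 4 → F, θ c • θ c • θ c • v = v := fun v => by
    rw [← mul_smul, ← mul_smul, ← pow_three', ← map_pow, ← Subgroup.coe_pow, orderOf_dvd_iff_pow_eq_one.1 c3.dvd]; simp
  obtain ⟨t, ht, t1⟩ := exists_tor hF (two_le_of_card_sq hF)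
  have t3 : t * t = t + 1 := by
    rw [frob_apply, hq] at *
    exact mul_left_cancel₀ (sub_ne_zero.2 t1) (by linear_combination t * ht + (t - t ^ 3) * h2)
  obtain ⟨l, l1, v, v0, hv⟩ : ∃ l : F, l * l = l + 1 ∧ ∃ v ≠ 0, v ∈ Eg (θ c) l := by
    obtain ⟨u, hu⟩ : ∃ u : Fin 4 → F, θ c • u - u ≠ 0 := by
      by_contra! h
      have := hθ (su_ext' (g := θ c) (h := θ 1) fun v => by simpa [sub_eq_zero] using h v)
      simp [show c = 1 from Subtype.ext this] at c3
    by_cases h : θ c • u - u ∈ Eg (θ c) t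
    · exact ⟨t, t3, _, hu, h⟩
    refine ⟨t + 1, by grind, _, mt sub_eq_zero.1 (mt mem_Eg.2 h), mem_Eg.2 ?_⟩
    simp only [smul_sub, c1, smul_comm (θ c) t]
    generalize θ c • θ c • u = b; generalize θ c • u = a
    match_scalars <;> grind
  have d := detW tr θ (fun a _ => Eg_comm (cc a)) (le_refl (Eg (θ c) l))
  have d1 := hC.finrank_add_finrank_perp (Eg (θ c) l)
  rw [finrank_fintype_fun_eq_card, Fintype.card_fin] at d1
  have d2 : finrank F (Eg (θ c) l) ≠ 0 := fun e => v0 (by simpa [Submodule.finrank_eq_zero.1 e] using hv)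
  have d3 : finrank F (Eg (θ c) l) = 3 := by
    generalize finrank F (Eg (θ c) l) = n at *
    have : n ≤ 4 := by omega
    interval_cases n <;> grind
  obtain ⟨u, hu⟩ : ∃ u, u ∉ Eg (θ c) l := by
    by_contra! h
    rw [Submodule.eq_top_iff'.2 h] at d3; simp at d3
  have l2 : σ l * l = 1 := by rw [frob_apply, hq]; grind
  have m : ∀ u, θ c • u - l • u ∈ (hermC (Fin 4) hF).perp (Eg (θ c) l) := fun u w hw => by
    have := B_g hF (θ c) w u
    rw [mem_Eg.1 hw, sl] at this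
    rw [map_sub, CForm.B_smul_right, ← this]; linear_combination -(hermC (Fin 4) hF).B w (θ c • u) * l2
  have x0 := mt sub_eq_zero.1 (mt mem_Eg.2 hu)
  have k : ∀ y ∈ (hermC (Fin 4) hF).perp (Eg (θ c) l), ∃ s : F, y = s • (θ c • u - l • u) := fun y hy => by
    obtain ⟨s, hs⟩ := (finrank_eq_one_iff_of_nonzero' (⟨_, m u⟩ : (hermC (Fin 4) hF).perp (Eg (θ c) l))
      (by simpa using x0)).1 (Nat.add_left_cancel (d3 ▸ d1 : 3 + _ = 3 + 1)) ⟨y, hy⟩
    exact ⟨s, congrArg Subtype.val hs.symm⟩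
  obtain ⟨r, -, hr⟩ := unit (C := hermC (Fin 4) hF) (u := θ c • u - l • u) fun e => x0 (by
    have := mem_Eg.1 ((hC.perp_perp (Eg (θ c) l)).le (x := θ c • u - l • u) fun w hw => by
      obtain ⟨s, rfl⟩ := k w hw; rw [sl, e, mul_zero])
    replace this := congrArg (θ c • ·) this
    simp only [smul_sub, c1, smul_comm (θ c) l] at this ⊢
    generalize θ c • θ c • u = b at *; generalize θ c • u = a at *
    linear_combination (norm := skip) l • this
    match_scalars <;> grind)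
  refine ⟨_, hr, fun a => ?_⟩
  rw [smul_comm]; congr 1
  refine (gen2 hF hq (L := (MulAction.stabilizer _ _).comap θ) fun a ha => ?_).ge trivial
  obtain ⟨s, hs⟩ := k (θ a • (θ c • u - l • u)) fun w hw => by
    rw [← smul_inv_smul (θ a) w, B_g]; exact m u _ (map_inv θ a ▸ Eg_comm (cc _) hw)
  have e := fix_p (p := 2) (b := θ a ^ 2) (by rw [← pow_mul, ← map_pow, ha, map_one]) (c := s * s)
    (by rw [sq, mul_smul, hs, smul_comm, hs, mul_smul])
  rw [sq, mul_smul, hs, smul_comm, hs, ← mul_smul] at e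
  exact hs.trans (by rw [pow_p (p := 2) (c := s) (sq s ▸ smul_left_injective F x0 (e.trans (one_smul _ _).symm)), one_smul])

omit hN hg

/-- The central involution of `SU₂`. -/
def mm : SU 2 F q := tor hF (t := -1) (by simp [-frob_apply])

theorem coe_mm : (mm hF).1.1 = -1 := by ext a b; fin_cases a <;> fin_cases b <;> simp [mm, tor, -frob_apply]

theorem mm_comm (y : SU 2 F q) : Commute (mm hF) y := su_ext (by
  change (mm hF).1.1 * y.1.1 = y.1.1 * (mm hF).1.1; simp [coe_mm])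

theorem mm_sq : mm hF * mm hF = 1 := su_ext (by change (mm hF).1.1 * (mm hF).1.1 = 1; simp [coe_mm])

variable (h2 : (2 : F) ≠ 0)
include h2

theorem even_of {θ : SU 2 F q →* SU N F q} {W : Submodule F (Fin N → F)} (hW : ∀ h, ∀ v ∈ W, θ h • v ∈ W)
    (hc : W ≤ Eg (θ (mm hF)) (-1)) : Even (finrank F W) :=
  (neg_one_pow_eq_one_iff_even fun e => h2 (by linear_combination -e)).1 (detW (triv2 hF) θ hW hc)

theorem dim2 (θ : SU 2 F q →* SU 4 F q) (h : ∀ c : F, c * c = 1 → ¬∀ v : Fin 4 → F, θ (mm hF) • v = c • v) :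
    finrank F (Eg (θ (mm hF)) 1) = 2 ∧ finrank F (Eg (θ (mm hF)) (-1)) = 2 := by
  have z : ∀ v : Fin 4 → F, θ (mm hF) • θ (mm hF) • v = v := fun v => by rw [← mul_smul, ← map_mul, mm_sq]; simp
  have k : IsCompl (Eg (θ (mm hF)) 1) (Eg (θ (mm hF)) (-1)) := ⟨Submodule.disjoint_def.2 fun v a b =>
    smul_right_injective _ h2 (by have := (mem_Eg.1 a).symm.trans (mem_Eg.1 b); linear_combination (norm := module) this),
    codisjoint_iff.2 (eq_top_iff'.2 fun v => mem_sup.2 ⟨(2 : F)⁻¹ • (v + θ (mm hF) • v),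
      smul_mem _ _ (mem_Eg.2 (by simp [z, add_comm])), (2 : F)⁻¹ • (v - θ (mm hF) • v),
      smul_mem _ _ (mem_Eg.2 (by rw [smul_sub, z, neg_one_smul, neg_sub])), by
        rw [← smul_add, add_add_sub_cancel, ← two_smul F, inv_smul_smul₀ h2]⟩)⟩
  have d := finrank_add_eq_of_isCompl k
  have d1 := even_of hF h2 (fun a _ => Eg_comm ((mm_comm hF a).map θ)) (le_refl (Eg (θ (mm hF)) (-1)))
  have d2 : ∀ c : F, c * c = 1 → finrank F (Eg (θ (mm hF)) c) ≠ 4 := fun c hc e =>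
    h c hc fun v => mem_Eg.1 ((eq_top_of_finrank_eq (e.trans (by simp))).ge trivial)
  have := d2 1 (by simp)
  have := d2 (-1) (by simp)
  simp only [finrank_fintype_fun_eq_card, Fintype.card_fin] at d
  obtain ⟨r, hr⟩ := d1
  omega

theorem fix2 {θ θ' : SU 2 F q →* SU 4 F q} (hc : ∀ a b, Commute (θ a) (θ' b)) (h : finrank F (Eg (θ (mm hF)) (-1)) = 2)
    (u : SU 2 F q) : Eg (θ (mm hF)) (-1) ≤ Eg (θ' u) 1 := by
  obtain ⟨p, k, hp, _, -⟩ := exists_prime_pow_of_card_sq hF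
  have := Fact.mk hp
  intro v hv
  rw [mem_Eg, one_smul]
  refine (mem_fixingSubgroup_iff _).1 (su2_gen hF p (L := (fixingSubgroup _ (Eg (θ (mm hF)) (-1) : Set (Fin 4 → F))).comap θ')
    (fun u hu => (mem_fixingSubgroup_iff _).2 fun v hv => ?_) u) v hv
  have d := even_of hF h2 (θ := θ) (W := Eg (θ (mm hF)) (-1) ⊓ Eg (θ' u) 1)
    (fun a _ hv => ⟨Eg_comm ((mm_comm hF a).map θ) hv.1, Eg_comm (hc a u).symm hv.2⟩) inf_le_left
  have d1 := finrank_mono (inf_le_left (a := Eg (θ (mm hF)) (-1)) (b := Eg (θ' u) 1))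
  have d2 : finrank F ↥(Eg (θ (mm hF)) (-1) ⊓ Eg (θ' u) 1) ≠ 0 := fun e => by
    have k : ∀ n : ℕ, ∀ v ∈ Eg (θ (mm hF)) (-1), ((θ' u).1.1 - 1) ^ n *ᵥ v = 0 → v = 0 := fun n => by
      induction n with
      | zero => simp
      | succ n ih =>
        intro v hv e'
        rw [pow_succ, ← mulVec_mulVec, sub_mulVec, one_mulVec] at e'
        exact (Submodule.finrank_eq_zero.1 e).le ⟨hv, mem_Eg.2 (by
          simpa [sub_eq_zero] using ih _ (sub_mem (Eg_comm (hc _ u) hv) hv) e')⟩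
    rw [(Submodule.eq_bot_iff _).2 fun v hv => k p v hv (by
      rw [sub_pow_char_of_commute _ (Commute.one_right _), show (θ' u).1.1 ^ p = (θ' (u ^ p)).1.1 by simp, hu]; simp)] at h
    simp at h
  obtain ⟨r, hr⟩ := d
  simpa using mem_Eg.1 ((eq_of_le_of_finrank_le (inf_le_left (b := Eg (θ' u) 1)) (by omega)).ge hv).2

omit h2 in
theorem star3 (hq : q = 3) {g : SU 4 F q →* G} (hg : g.ker ≤ Subgroup.center _) {ψ : SU 3 F q →* G}
    (hψ : Function.Injective ψ) (h : ψ.range ≤ g.range) {a b : SU 2 F q →* SU 3 F q}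
    (hab : a = i0 hF ∧ b = i1 hF ∨ a = i1 hF ∧ b = i0 hF) {φ : SU 2 F q →* G} (hφ : Function.Injective φ)
    (h' : φ.range ≤ g.range) (c : ∀ x y, Commute (ψ (a x)) (φ y)) :
    ∃ x, (hermC (Fin 4) hF).B x x = 1 ∧ ψ.range ≤ (MulAction.stabilizer _ x).map g := by
  have hC := hermC_nondeg (ι := Fin 4) hF
  have h2 : (2 : F) ≠ 0 := fun e => by
    simpa [hF, hq] using FiniteField.even_card_of_char_two (CharP.ringChar_of_prime_eq_zero Nat.prime_two e)
  obtain ⟨t, ht, -, o⟩ := exists_tor' hF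
  have t2 : tor hF ht * tor hF ht = mm hF := su_ext (by
    have := (mul_self_eq_one_iff.1 (show t * t * (t * t) = 1 by rw [← pow_orderOf_eq_one t, o, hq]; ring)).resolve_left
      fun e => by have := orderOf_le_of_pow_eq_one two_pos (sq t ▸ e); omega
    change diagonal _ * diagonal _ = _
    ext a b; fin_cases a <;> fin_cases b <;> simp [coe_mm, this, ← map_mul, -frob_apply])
  obtain ⟨k, hk⟩ : ∃ k, ∀ y, k * a y * k⁻¹ = b y := by
    obtain ⟨k, hk⟩ : ∃ k : SU 3 F q, k.1.1 = !![0, 0, 1; 1, 0, 0; 0, 1, 0] := ⟨⟨⟨_, by simp [det_fin_three]⟩, (mem_su hF).2 (by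
      ext a b; fin_cases a <;> fin_cases b <;> simp [ct, mul_apply, Fin.sum_univ_three, -frob_apply])⟩, rfl⟩
    have : ∀ y, k * i0 hF y = i1 hF y * k := fun y => su_ext (by
      change k.1.1 * (i0 hF y).1.1 = (i1 hF y).1.1 * k.1.1; simp [hk, coe_i0, coe_i1])
    rcases hab with ⟨rfl, rfl⟩ | ⟨rfl, rfl⟩
    exacts [⟨k, fun y => by simp [this]⟩, ⟨k⁻¹, fun y => by simp [mul_assoc, ← this]⟩]
  obtain ⟨n1, n2, n3, n4, n5⟩ : a (mm hF) ∉ Subgroup.center _ ∧ b (mm hF) ∉ Subgroup.center _ ∧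
      a (mm hF) * b (mm hF) ∉ Subgroup.center _ ∧ Commute (a (tor hF ht)) (b (mm hF)) ∧ a.range ⊔ b.range = ⊤ := by
    have e : (-1 : F) ≠ 1 := fun e => h2 (by linear_combination -e)
    have := i_comm hF (x := tor hF ht) (y := mm hF) (by simp [tor]) (by simp [coe_mm])
    have := (i_comm hF (y := tor hF ht) (x := mm hF) (by simp [coe_mm]) (by simp [tor])).symm
    rcases hab with ⟨rfl, rfl⟩ | ⟨rfl, rfl⟩ <;> refine ⟨?_, ?_, ?_, by assumption, by simp [top3' hF h2, sup_comm]⟩ <;>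
      rw [su_mem_center_iff hF (by simp)] <;> rintro ⟨c, hc⟩ <;> have h0 := congrFun (congrFun hc 0) 0 <;>
      have h1 := congrFun (congrFun hc 1) 1 <;> have h2 := congrFun (congrFun hc 2) 2 <;>
      simp [coe_i0, coe_i1, coe_mm] at h0 h1 h2 <;> grind
  have nc : ∀ z s, g z = ψ s → s ∉ Subgroup.center _ → ∀ c : F, ¬∀ v : Fin 4 → F, z • v = c • v :=
    fun z s e hs c hc => hs (Subgroup.mem_center_iff.2 fun y => hψ (by
      obtain ⟨y', hy⟩ := h ⟨y, rfl⟩
      rw [map_mul, map_mul, ← hy, ← e, ← map_mul, ← map_mul, su_ext' (g := y' * z) (h := z * y') fun v => by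
        simp [mul_smul, hc, smul_comm y' c]]))
  obtain ⟨θ, hθ⟩ := lift2 hF (by simp) hg (ψ.comp a) fun _ ⟨y, e⟩ => h ⟨_, e⟩
  obtain ⟨θ', hθ'⟩ := lift2 hF (by simp) hg φ h'
  obtain ⟨l, hl⟩ := h ⟨k, rfl⟩
  let η := (MulAut.conj l).toMonoidHom.comp θ
  have hη : ∀ y, g (η y) = ψ (b y) := fun y => by simp [η, hθ, hl, ← hk]
  have c' : ∀ x y, Commute (θ x) (θ' y) := fun x => lcomm hF (by simp) hg θ' fun y => by rw [hθ, hθ']; exact c x y
  obtain ⟨d1, d2⟩ := dim2 hF h2 θ fun c _ => nc _ _ (hθ _) n1 c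
  obtain ⟨d3, -⟩ := dim2 hF h2 η fun c _ => nc _ _ (hη _) n2 c
  obtain ⟨-, d4⟩ := dim2 hF h2 θ' fun c hc e => by
    obtain ⟨v, hv, v0⟩ := (Eg (θ (mm hF)) (-1)).exists_mem_ne_zero_of_ne_bot (by intro e; rw [e] at d2; simp at d2)
    have := smul_left_injective F v0 ((e v).symm.trans (mem_Eg.1 (fix2 hF h2 c' d2 _ hv)))
    have := hφ ((hθ' _).symm.trans ((congrArg g (su_ext' (g := θ' (mm hF)) (h := 1) fun v => by simp [e, this])).trans (by simp : _ = φ 1)))
    exact h2 (by have := congrArg (·.1.1 0 0) this; simp [coe_mm] at this; linear_combination -this)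
  have f := fix2 hF h2 (fun x y => (c' y x).symm) d4
  have f1 : ∀ u, ∀ v ∈ Eg (θ (mm hF)) 1, θ u • v = v := fun u v hv => by
    simpa using mem_Eg.1 (f u ((eq_of_le_of_finrank_le (f _) (by omega)).ge hv))
  have f2 : ∀ u, ∀ v ∈ Eg (η (mm hF)) 1, η u • v = v := fun u v hv => by
    simpa [η, mul_smul, smul_eq_iff_eq_inv_smul] using f1 u (l⁻¹ • v) (by simpa [η, mem_Eg, mul_smul, smul_eq_iff_eq_inv_smul] using hv)
  have z : ∀ (θ : SU 2 F q →* SU 4 F q) (v : Fin 4 → F), θ (mm hF) • θ (mm hF) • v = v := fun θ v => by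
    rw [← mul_smul, ← map_mul, mm_sq]; simp
  have cz : Commute (θ (mm hF)) (η (mm hF)) := by
    have s := Subgroup.mem_center_iff.1 (hg (show θ (tor hF ht) * η (mm hF) * (θ (tor hF ht))⁻¹ * (η (mm hF))⁻¹ ∈ g.ker by
      simp [hθ, hη, (n4.map ψ).eq]))
    have e : η (mm hF) * η (mm hF) = 1 := by rw [← map_mul, mm_sq, map_one]
    rw [← t2, map_mul θ, t2]
    generalize θ (tor hF ht) = d, η (mm hF) = z at *
    obtain ⟨c, hc⟩ : ∃ c, c = d * z * d⁻¹ * z⁻¹ := ⟨_, rfl⟩
    have e1 : d * z = c * z * d := by simp [hc]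
    have e2 : c * z * (c * z) = 1 := by simp [hc, mul_assoc, ← mul_assoc z z, e]
    rw [← hc] at s
    rw [mul_assoc, ← mul_assoc z, s z, mul_assoc, e, mul_one] at e2
    rw [Commute, SemiconjBy, mul_assoc, e1, ← mul_assoc, ← mul_assoc, s d, mul_assoc c, e1, ← mul_assoc, ← mul_assoc, e2]
    simp [mul_assoc]
  obtain ⟨x, hx, x0⟩ : ∃ x ∈ Eg (θ (mm hF)) 1 ⊓ Eg (η (mm hF)) 1, (hermC (Fin 4) hF).B x x ≠ 0 := by
    by_contra! n
    have i := herm_le_perp (C := hermC (Fin 4) hF) (frob_ne_id hF) fun x hx => (H12.herm_B_self _).symm.trans (n x hx)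
    have m : ∀ v, θ (mm hF) • (η (mm hF) • v + v) + (η (mm hF) • v + v) ∈ Eg (θ (mm hF)) 1 ⊓ Eg (η (mm hF)) 1 := fun v =>
      have : η (mm hF) • v + v ∈ Eg (η (mm hF)) 1 := mem_Eg.2 (by simp [z, add_comm])
      ⟨mem_Eg.2 (by rw [smul_add, z, one_smul, add_comm]), add_mem (Eg_comm cz.symm this) this⟩
    have s : ∀ (g : SU 4 F q) (v w : Fin 4 → F), g • w = w →
        (hermC (Fin 4) hF).B (g • v + v) w = 2 * (hermC (Fin 4) hF).B v w := fun g v w e => by
      rw [CForm.B_add_left, two_mul]; congr 1; conv_lhs => rw [← e, B_g]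
    have p : ∀ v : Fin 4 → F, θ (mm hF) • (η (mm hF) • v + v) + (η (mm hF) • v + v) = 0 := fun v => hC.eq_zero' fun u => by
      have := i (m v) _ (m u)
      rwa [s _ _ _ (by simpa using mem_Eg.1 (m v).1), s _ _ _ (by simpa using mem_Eg.1 (m v).2), mul_eq_zero_iff_left h2,
        mul_eq_zero_iff_left h2] at this
    have e := eq_of_le_of_finrank_le (S₁ := Eg (η (mm hF)) 1) (S₂ := Eg (θ (mm hF)) (-1)) (fun v hv => mem_Eg.2
      (smul_right_injective _ h2 (by
        have := p v; rw [mem_Eg.1 hv, one_smul, smul_add] at this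
        generalize θ (mm hF) • v = w at *; linear_combination (norm := module) this))) (by omega)
    refine nc (θ (mm hF) * η (mm hF)) _ (by rw [map_mul, hθ, hη, map_mul]; rfl) n3 (-1) fun v => smul_right_injective _ h2 ?_
    have a := p v
    have b := mem_Eg.1 (e.ge (x := θ (mm hF) • v - v) (mem_Eg.2 (by rw [smul_sub, z, neg_one_smul, neg_sub])))
    rw [smul_sub, ← mul_smul, ← cz.eq] at b
    rw [smul_add, ← mul_smul] at a
    generalize (θ (mm hF) * η (mm hF)) • v = x at *; generalize θ (mm hF) • v = y at *; generalize η (mm hF) • v = w at *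
    linear_combination (norm := module) a + b
  obtain ⟨r, -, hr⟩ := unit x0
  refine ⟨_, hr, ?_⟩
  rw [MonoidHom.range_eq_map, ← n5, Subgroup.map_sup, MonoidHom.map_range, MonoidHom.map_range, sup_le_iff]
  constructor <;> rintro _ ⟨y, rfl⟩
  exacts [⟨θ y, f1 _ _ (smul_mem _ _ hx.1), hθ y⟩, ⟨η y, f2 _ _ (smul_mem _ _ hx.2), hη y⟩]

end H27.PH
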