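import Cfsg.Agent.H27.Spec16

/-! The spectrum of `Sp₈(q)`, `q` even. -/

set_option autoImplicit false
set_option linter.unusedSectionVars false

namespace H27.Sp

open Module Polynomial Function H11 H22 H12 H12.CForm Iso

variable {F K : Type*} [Field F] [Field K] [Algebra F K] {V : Type*} [AddCommGroup V] [Module F V]
  {p N : ℕ} [FiniteDimensional F V] {D E : Multiset (K × ℕ)}

/-- `N` kills the data -/
def K1 (p : ℕ) (D : Multiset (K × ℕ)) (N : ℕ) : Prop := ∀ x ∈ D, x.1 ^ N = 1 ∧ p ^ Nat.clog p x.2 ∣ N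
open Classical in
/-- `N` kills the affine data -/
def KA (p : ℕ) (D : Multiset (K × ℕ)) (N : ℕ) : Prop :=
  ∀ x ∈ D, x.1 ^ N = 1 ∧ p ^ Nat.clog p (x.2 + if x.1 = 1 then 1 else 0) ∣ N
theorem K1_add : K1 p (D + E) N ↔ K1 p D N ∧ K1 p E N := by simp [K1, or_imp, forall_and, and_and_and_comm]
theorem KA_add : KA p (D + E) N ↔ KA p D N ∧ KA p E N := by simp [KA, or_imp, forall_and, and_and_and_comm]
theorem clog_dvd {a b : ℕ} (h : a ≤ b) (h' : p ^ Nat.clog p b ∣ N) : p ^ Nat.clog p a ∣ N :=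
  (pow_dvd_pow p (Nat.clog_mono_right p h)).trans h'
theorem KA.k1 (h : KA p D N) : K1 p D N := fun x hx => ⟨(h x hx).1, clog_dvd le_self_add (h x hx).2⟩
theorem K1.ka (h : K1 p D N) (h1 : ∀ x ∈ D, x.1 ≠ 1) : KA p D N := fun x hx => by simpa [h1 x hx] using h x hx
theorem K1_one {k : ℕ} : K1 p {((1 : K), k)} N ↔ p ^ Nat.clog p k ∣ N := by simp [K1]
theorem KA_one {k : ℕ} : KA p {((1 : K), k)} N ↔ p ^ Nat.clog p (k + 1) ∣ N := by simp [KA]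
theorem K1_tb {Q : ℤ} {m k : ℕ} {a : K} (h : a ^ N = 1) (h' : p ^ Nat.clog p k ∣ N) : K1 p (tb Q m a k) N :=
  fun _ hy => ⟨tb_pow' hy h, (mem_tb hy).1 ▸ h'⟩
theorem pow_of_dvd {a : K} {e : ℤ} (h : a ^ e = 1) (d : e ∣ N) : a ^ N = 1 := by
  obtain ⟨c, hc⟩ := d
  rw [← zpow_natCast, hc, zpow_mul, h, one_zpow]
theorem c1_tb (Q : ℤ) (m : ℕ) (a : K) (k : ℕ) : Even (c1 (tb Q m a k)) := by
  rw [tb_levi, c1_add]
  exact ⟨_, congrArg _ (by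
    rw [c1, c1, Multiset.map_map]; exact congrArg _ (Multiset.map_congr rfl fun x _ => by by_cases h : x.1 = 1 <;> simp [h]))⟩

theorem JD.gd [Fact p.Prime] [CharP K p] {u : End F V} (h : JD u D) (h0 : ∀ x ∈ D, x.1 ≠ 0) : Iso.Gd u N ↔ KA p D N := by
  classical
  rcases eq_or_ne N 0 with rfl | hN
  · simp [Iso.Gd, KA]
  have e := geom_sum_mul (X : F[X]) N
  have n := X_pow_sub_C_ne_zero (Nat.pos_of_ne_zero hN) (1 : F)
  have n1 := left_ne_zero_of_mul (e ▸ n)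
  have := h.aeval_eq_zero_iff n1
  simp only [map_sum, map_pow, aeval_X] at this
  refine this.trans (forall₂_congr fun x hx => ?_)
  have e2 := mu_mul x.1 n1 (pow_ne_zero 1 (X_sub_C_ne_zero 1))
  rw [mu_sub_pow, pow_one, C_1, e, mu, Polynomial.map_sub, Polynomial.map_pow, map_X, Polynomial.map_one, map_one] at e2
  rw [← le_mult_iff (h0 x hx) hN (by have := h.pos x hx; omega), C_1, e2]
  split_ifs <;> simp

variable [Finite F] [Algebra.IsAlgebraic F K]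

theorem Sy.split {Q : ℤ} (hD : Sy Q D) (inj : Injective fun x : K => x ^ Q) {c : K} (h1 : c ^ Q = c) (h2 : c⁻¹ = c) :
    ∃ A E, D = A + E ∧ Sy Q E ∧ (∀ x ∈ A, x.1 = c) ∧ ∀ x ∈ E, x.1 ≠ c := by
  classical
  refine ⟨D.filter (·.1 = c), D.filter (¬ ·.1 = c), (Multiset.filter_add_not _ _).symm, hD.filter _ (fun x => ?_)
    fun x => ?_, fun x hx => (Multiset.mem_filter.1 hx).2, fun x hx => (Multiset.mem_filter.1 hx).2⟩
  · rw [pm_fst, ← h1, inj.eq_iff, h1]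
  · rw [pm_fst, ← h2, inv_inj, h2]

/-- semisimple regular data in dimension eight -/
theorem ss_cases {Q : ℤ} [Fact p.Prime] [CharP K p] (hQ : QP p Q) (hD : Sy Q D) (hd : dimD D = 8)
    (h1 : ∀ x ∈ D, x.1 ^ 2 ≠ 1) : (∀ x ∈ D, x.1 ^ (Q ^ 2 - 1) = 1 ∨ x.1 ^ (Q ^ 2 + 1) = 1) ∨
      (∃ a ε, (ε = 1 ∨ ε = -1) ∧ a ^ (Q ^ 4 - ε) = 1 ∧ D = tb Q 4 a 1) ∨
      ∃ a ε b ε', (ε = 1 ∨ ε = -1) ∧ (ε' = 1 ∨ ε' = -1) ∧ a ^ (Q ^ 3 - ε) = 1 ∧ b ^ (Q ^ 1 - ε') = 1 ∧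
        D = tb Q 3 a 1 + tb Q 1 b 1 := by
  refine or_iff_not_imp_left.2 fun h => ?_
  push Not at h
  obtain ⟨⟨a, k⟩, hx, h2, h3⟩ := h
  obtain ⟨m, ε, D', m0, hε, h4, rfl, sy⟩ := hD.peel hQ hx (h1 _ hx)
  have k0 : 0 < k := hD.pos _ hx
  simp only [dimD_add, dimD_tb] at hd h2 h3 h4
  have : 3 ≤ m := by_contra fun hm => by
    obtain rfl | rfl : m = 1 ∨ m = 2 := by omega
    · refine h2 (by rw [show Q ^ 2 - 1 = (Q ^ 1 - ε) * (Q + ε) by rcases hε with rfl | rfl <;> ring, zpow_mul, h4, one_zpow])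
    · rcases hε with rfl | rfl
      exacts [h2 h4, h3 (by simpa using h4)]
  obtain rfl : k = 1 := by nlinarith
  obtain rfl | rfl : m = 4 ∨ m = 3 := by omega
  · exact .inl ⟨a, ε, hε, h4, by rw [sy.toPre.eq_zero (by omega), add_zero]⟩
  obtain ⟨⟨b, l⟩, hy⟩ := Multiset.exists_mem_of_ne_zero (s := D') (by rintro rfl; simp at hd)
  obtain ⟨m, ε', D'', m0, hε', h5, rfl, sy'⟩ := sy.peel hQ hy (h1 _ (by simp [hy]))
  have l0 : 0 < l := sy.pos _ hy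
  simp only [dimD_add, dimD_tb] at hd h5
  obtain rfl : m = 1 := by nlinarith
  obtain rfl : l = 1 := by omega
  exact .inr ⟨a, ε, b, ε', hε, hε', h4, h5, by rw [sy'.toPre.eq_zero (by omega), add_zero]⟩

variable [CharP F 2] [CharP K 2] [IsAlgClosed K]

theorem sq_ne {a : K} (h : a ≠ 1) : a ^ 2 ≠ 1 := fun e => by
  rcases sq_eq_one_iff.1 e with e | e
  exacts [h e, h (e.trans (CharTwo.neg_eq _))]

theorem red (hD : Sy (Nat.card F : ℕ) D) (hd : dimD D = 8) :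
    (∃ (a : ℕ) (E : Multiset (K × ℕ)), 0 < a ∧ Rl (quadType F) E ∧ (∀ x ∈ E, x.1 ≠ 1) ∧ dimD E + 2 * a = 8 ∧
      ∀ N, K1 2 E N → 2 ^ Nat.clog 2 (2 * a) ∣ N → K1 2 D N) ∨
    ∃ E : Multiset (K × ℕ), Rt F E False ∧ dimD E = 8 ∧ Even (c1 E) ∧ ∀ N, K1 2 E N → K1 2 D N := by
  have hQ := qp_nat (F := F) (p := 2)
  obtain ⟨A, E, rfl, sy, h1, h2⟩ := hD.split (hQ.inj) (one_zpow _) _root_.inv_one
  by_cases hA : A ≠ 0
  · obtain ⟨c, hc⟩ := (sy.alt fun x hx => sq_ne (h2 x hx)).even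
    obtain ⟨x, hx⟩ := Multiset.exists_mem_of_ne_zero hA
    have := le_dimD hx
    have := hD.pos x (by simp [hx])
    rw [dimD_add] at hd
    exact .inl ⟨4 - c, E, by omega, sy.quad fun x hx => sq_ne (h2 x hx), h2, by omega, fun N k1 k2 =>
      K1_add.2 ⟨fun y hy => ⟨by simp [h1 y hy], clog_dvd (by have := le_dimD hy; omega) k2⟩, k1⟩⟩
  obtain rfl := not_not.1 hA
  rw [zero_add] at hd ⊢
  have h3 := fun x hx => sq_ne (h2 x hx)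
  by_cases h : ∃ x ∈ E, x.2 ≠ 1
  · obtain ⟨⟨a, k⟩, hx, hk⟩ := h
    obtain ⟨m, ε, D', m0, hε, h4, rfl, sy'⟩ := sy.peel hQ hx (h3 _ hx)
    obtain ⟨k, rfl⟩ : ∃ j, k = j + 2 := ⟨k - 2, by have : 0 < k := sy.pos _ hx; simp only at hk; omega⟩
    have h5 : ∀ x ∈ tb (Nat.card F : ℕ) m a 1 + D', x.1 ^ 2 ≠ 1 := fun x h => (Multiset.mem_add.1 h).elim
      (tb_sq hQ (h3 _ hx) x) fun h => h3 x (by simp [h])
    refine .inl ⟨m * (k + 1), _, by positivity, ((sy_tb (sy.ne _ hx) hε h4 one_pos).add sy').quad h5,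
      fun x h e => h5 x h (by simp [e]), by simp at hd ⊢; linarith, fun N k1 k2 => K1_add.2
        ⟨K1_tb (k1 _ (Multiset.mem_add.2 (.inl (self_mem_tb m0 a 1)))).1 (clog_dvd (by nlinarith) k2), (K1_add.1 k1).2⟩⟩
  push Not at h
  have ev : Even (Nat.card F) := even_iff_two_dvd.2 (Int.natCast_dvd_natCast.1 hQ.dvd)
  suffices ∃ m l, 0 < m ∧ m + l = 4 ∧ ∀ N : ℕ, ((Nat.card F : ℕ) : ℤ) ^ m + 1 ∣ (N : ℤ) →
      (0 < l → ((Nat.card F : ℕ) : ℤ) ^ l - 1 ∣ (N : ℤ)) →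
      ∀ x ∈ E, x.1 ^ N = 1 by
    obtain ⟨m, l, m0, e, H⟩ := this
    obtain ⟨b, b0, hb, -⟩ := exists_primz (K := K) (hQ.not_dvd' m0 (.inr rfl) (sub_neg_eq_add _ (1 : ℤ)).symm.dvd)
    obtain ⟨c, c0, hc, hc'⟩ : ∃ c : K, c ≠ 0 ∧ c ^ (((Nat.card F : ℕ) : ℤ) ^ l - 1) = 1 ∧
        (0 < l → ∀ e : ℤ, c ^ e = 1 → ((Nat.card F : ℕ) : ℤ) ^ l - 1 ∣ e) := by
      rcases l.eq_zero_or_pos with rfl | l0
      · exact ⟨1, by simp⟩
      obtain ⟨c, c0, hc, -⟩ := exists_primz (K := K) (hQ.not_dvd l0 dvd_rfl)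
      exact ⟨c, c0, (hc _).2 dvd_rfl, fun _ e => (hc e).1⟩
    refine .inr ⟨_, (rt_plus c0 hc one_pos).add (rt_minus (p := 2) ev m0 b0 hb), by simp; omega,
      c1_add (K := K) _ _ ▸ (c1_tb ..).add (c1_tb ..), fun N k x hx => ⟨H N ((hb _).1 ?_) (fun l0 => hc' l0 _ ?_) x hx,
        by simp [h x hx]⟩⟩ <;> rw [zpow_natCast]
    exacts [(k _ (Multiset.mem_add.2 (.inr (self_mem_tb m0 b 1)))).1, (k _ (Multiset.mem_add.2 (.inl (self_mem_tb l0 c 1)))).1]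
  rcases ss_cases hQ sy hd h3 with h4 | ⟨a, ε, rfl | rfl, h4, rfl⟩ | ⟨a, ε, b, ε', hε, hε', h4, h5, rfl⟩
  · exact ⟨2, 2, two_pos, rfl, fun N k1 k2 x hx => (h4 x hx).elim (pow_of_dvd · (k2 two_pos)) (pow_of_dvd · k1)⟩
  · refine ⟨2, 2, two_pos, rfl, fun N k1 k2 x hx => tb_pow' hx (pow_of_dvd h4 ?_)⟩
    obtain ⟨c, hc⟩ := ev
    rw [show ((Nat.card F : ℕ) : ℤ) ^ 4 - 1 = (Nat.card F ^ 2 + 1) * (Nat.card F ^ 2 - 1) by ring]
    exact IsCoprime.mul_dvd ⟨1 - 2 * c ^ 2, 2 * c ^ 2, by rw [hc]; push_cast; ring⟩ k1 (k2 two_pos)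
  · exact ⟨4, 0, by simp, rfl, fun N k1 _ x hx => tb_pow' hx (pow_of_dvd h4 (by simpa using k1))⟩
  have d1 : ∀ Q : ℤ, Q ^ 1 - 1 ∣ Q ^ 3 - 1 := fun Q => ⟨Q ^ 2 + Q + 1, by ring⟩
  have d2 : ∀ Q : ℤ, Q ^ 1 - -1 ∣ Q ^ 3 + 1 := fun Q => ⟨Q ^ 2 - Q + 1, by ring⟩
  rcases hε with rfl | rfl
  · exact ⟨1, 3, one_pos, rfl, fun N k1 k2 x hx => (Multiset.mem_add.1 hx).elim (tb_pow' · (pow_of_dvd h4 (k2 three_pos)))
      (tb_pow' · (pow_of_dvd h5 (by rcases hε' with rfl | rfl; exacts [(d1 _).trans (k2 three_pos), by simpa using k1])))⟩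
  · exact ⟨3, 1, three_pos, rfl, fun N k1 k2 x hx => (Multiset.mem_add.1 hx).elim (tb_pow' · (pow_of_dvd h4 (by simpa using k1)))
      (tb_pow' · (pow_of_dvd h5 (by rcases hε' with rfl | rfl; exacts [k2 one_pos, (d2 _).trans k1])))⟩

theorem main1 (hD : Sy (Nat.card F : ℕ) D) (hd : dimD D = 8) :
    ∃ E : Multiset (K × ℕ), Rt F E False ∧ dimD E = 8 ∧ ∀ N, K1 2 E N → K1 2 D N := by
  rcases red hD hd with ⟨_ | a, E, h1, h2, -, h3, h4⟩ | ⟨E, h1, h2, -, h3⟩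
  · omega
  · exact ⟨_, h2.minus ⟨3 - a, by omega⟩ (rt_reg (CharTwo.two_eq_zero) a), by simp; omega, fun N k =>
      h4 N (K1_add.1 k).1 (K1_one.1 (K1_add.1 k).2)⟩
  · exact ⟨E, h1, h2, h3⟩

theorem main2 (hD : Sy (Nat.card F : ℕ) D) (hd : dimD D = 8) :
    ∃ E : Multiset (K × ℕ), Rt F E False ∧ dimD E = 8 ∧ Even (c1 E) ∧ ∀ N, KA 2 E N → K1 2 D N := by
  rcases red hD hd with ⟨_ | _ | a, E, h1, h2, h5, h3, h4⟩ | ⟨E, h1, h2, h4, h3⟩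
  · omega
  · exact ⟨_, h2.minus ⟨3, by omega⟩ rt_ones, by simp; omega, by simp [c1_reg h5, -Multiset.singleton_add], fun N k =>
      h4 N (KA_add.1 k).1.k1 (KA_one.1 (KA_add.1 (KA_add.1 k).2).1)⟩
  · obtain ⟨m, C, u, r1, r2, r3, -⟩ := rt_reg (F := F) (K := K) (CharTwo.two_eq_zero) a True
    refine ⟨_, (h2.add (.of r1 r2 r3)).minus ⟨3, by simp; omega⟩ (rt_reg (CharTwo.two_eq_zero) 0), by simp; omega,
      by simp [c1_reg h5], fun N k => h4 N (KA_add.1 (KA_add.1 k).1).1.k1 ?_⟩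
    have := KA_one.1 (KA_add.1 (KA_add.1 k).1).2
    obtain rfl | rfl | rfl : a = 0 ∨ a = 1 ∨ a = 2 := by omega
    all_goals exact this
  · exact ⟨E, h1, h2, h4, fun N k => h3 N k.k1⟩

theorem Rl.alt2 (h : Rl (quadType F) D) : Rl (altType F) D := by
  obtain ⟨m, C, u, h1, h2, h3⟩ := h
  exact ⟨m, ofAlt C.B fun x => (quad_B_self C x).trans (by simp [CharTwo.two_eq_zero]), u, h1, ⟨h2.1, fun _ => rfl⟩, h3⟩

theorem main3 (hD : Rl (quadType F) D) (hd : dimD D = 8) (h : Even (c1 D)) :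
    ∃ E : Multiset (K × ℕ), Rl (altType F) E ∧ dimD E = 8 ∧ ∀ N, K1 2 E N → KA 2 D N := by
  obtain ⟨A, E, rfl, sy, h1, h2⟩ := hD.sy'.split (qp_nat (F := F) (p := 2)).inj (one_zpow _) _root_.inv_one
  have r := sy.alt fun x hx => sq_ne (h2 x hx)
  rw [dimD_add] at hd
  rw [c1_add, c1_reg h2, c1_uni h1, add_zero] at h
  by_cases hA : A = 0
  · exact ⟨E, r, by simpa [hA] using hd, fun N k => by rw [hA, zero_add]; exact k.ka h2⟩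
  obtain ⟨c, hc⟩ := r.even
  have lt : ∀ x ∈ A, x.2 < dimD A := fun x hx => by
    obtain ⟨B, rfl⟩ := Multiset.exists_cons_of_mem hx
    have := card_le_dimD (D := B) fun y hy => hD.pre.pos y (by simp [hy])
    rw [Multiset.card_cons, Nat.even_add_one, Nat.not_even_iff_odd] at h
    have := h.pos
    rw [dimD_cons]; omega
  obtain ⟨x, hx⟩ := Multiset.exists_mem_of_ne_zero hA
  have := lt x hx
  obtain ⟨m, C, u, r1, r2, r3, -⟩ := rt_reg (F := F) (K := K) (CharTwo.two_eq_zero) (3 - c) True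
  exact ⟨_, (Rl.of r1 r2 r3).alt2.add r, by simp; omega, fun N k => KA_add.2 ⟨fun y hy => ⟨by simp [h1 y hy],
    clog_dvd (by rw [if_pos (h1 y hy)]; have := lt y hy; omega) (K1_one.1 (K1_add.1 k).1)⟩, (K1_add.1 k).2.ka h2⟩⟩

theorem kill_two {Q : ℤ} (h : Sy Q D) : Kill 2 D N ↔ K1 2 D N :=
  ⟨fun k x hx => ⟨not_not.1 fun e => sq_ne e (by rw [← pow_mul, mul_comm]; exact k.sq h hx), k.2 x hx⟩, kill_of 1⟩

theorem Rt.out (h : Rt F D False) (hd : dimD D = 8) {a b : F}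
    (hab : ∀ z₁ z₂ : F, z₁ ^ 2 + a * z₁ * z₂ + b * z₂ ^ 2 = 0 → z₁ = 0 ∧ z₂ = 0) :
    ∃ g : orth (qMinus 3 F a b), JD (g.1 : End F ((Fin 3 ⊕ Fin 3) ⊕ Fin 2 → F)) D := by
  obtain ⟨m, C, u, h1, h2, h3, h4⟩ := h
  obtain rfl : m = 4 := by have := h3.dim; simp at this; omega
  obtain ⟨g, hg⟩ := exists_isom_sim (qMinus_nondeg 3 (disc_ne_zero_of_aniso hab))
    (quad_iso_qMinus h1 (by simp) h4.1 hab) h2
  exact ⟨g, h3.of_sim hg⟩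

local notation "𝕂" => AlgebraicClosure F

theorem sp8_eq {a b : F} (hab : ∀ z₁ z₂ : F, z₁ ^ 2 + a * z₁ * z₂ + b * z₂ ^ 2 = 0 → z₁ = 0 ∧ z₂ = 0) :
    om (Cfsg.PSp 4 F) = om (Cfsg.isometryGroup F (Cfsg.quadFormMinus 3 F a b)) := by
  have hS := psp_spec (p := 2) F 𝕂 (n := 4) (by simp)
  have nd := qMinus_nondeg 3 (disc_ne_zero_of_aniso hab)
  let R := oRep (coe_qMinus 3 a b) nd
  have k : ∀ g (D : Multiset (𝕂 × ℕ)), JD (R.ρ g) D → ∀ N, orderOf g ∣ N ↔ K1 2 D N := fun g D h N => by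
    rw [orderOf_dvd_iff_pow_eq_one, ← R.inj.eq_iff, map_pow, map_one, h.pow_eq_one (p := 2)
      (h.ne_zero ((Group.isUnit g).map R.ρ))]; rfl
  refine Set.Subset.antisymm ?_ ?_ <;> rintro _ ⟨x, rfl⟩
  · obtain ⟨D, ⟨h1, h2⟩, h3⟩ := hS.1 x
    obtain ⟨E, r, d, h4⟩ := main1 h1.sy h2
    obtain ⟨g, hg⟩ := r.out d hab
    exact om_dvd ⟨R.e.symm g, rfl⟩ ((h3 _).2 ((kill_two h1.sy).2 (h4 _ ((k _ E (by simpa [IsoRep.ρ])  _).1 dvd_rfl))))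
  · obtain ⟨D, h⟩ := exists_jd (K := 𝕂) (R.ρ x)
    have r := (Rl.of nd (R.isom x) h).alt2
    exact hS.mem ⟨r, by simpa using h.dim.symm⟩ fun N e => (k x D h N).2 ((kill_two r.sy).1 e)

theorem sp8_big : Big (H5.Ord (Cfsg.PSp 4 F)) := by
  have hS := psp_spec (p := 2) F 𝕂 (n := 4) (by simp)
  obtain ⟨a, b, hab⟩ := H12.exists_aniso F
  have nd := qMinus_nondeg 3 (disc_ne_zero_of_aniso hab)
  have ne : NotExc F ((Fin 3 ⊕ Fin 3) ⊕ Fin 2 → F) := .inr (by simp)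
  let φ : orth (qMinus 3 F a b) →* Matrix _ _ F := (LinearMap.toMatrixAlgEquiv' : End F _ ≃ₐ[F] _).toMonoidHom.comp
    (LinearEquiv.automorphismGroup.toLinearMapMonoidHom.comp (Subgroup.subtype _))
  have k : ∀ (g : orth (qMinus 3 F a b)) (D : Multiset (𝕂 × ℕ)), JD (g.1 : End F ((Fin 3 ⊕ Fin 3) ⊕ Fin 2 → F)) D →
      (H12.dickson _ g = 1 ↔ Even (c1 D)) ∧ ∀ N, Iso.Gd (φ g) N ↔ KA 2 D N := fun g D h => ⟨by
    rw [dickson_eq nd ne, h.fix, neg_one_pow_eq_one_iff_even (by decide), Nat.even_add]; simp [show Even 8 by decide],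
    fun N => by
      rw [← h.gd (h.ne_zero (isUnit_of_isom nd g.2)), Iso.Gd, Iso.Gd,
        ← map_eq_zero_iff _ (LinearMap.toMatrixAlgEquiv' (R := F) (n := (Fin 3 ⊕ Fin 3) ⊕ Fin 2)).symm.injective]
      simp [φ]⟩
  refine (mat_big 2 ((H12.dickson _).ker.toSubmonoid.map φ) (· ∈ om (Cfsg.PSp 4 F)) (by
    rintro _ ⟨x, rfl⟩; exact (orderOf_pos x).ne') ?_ ?_).congr fun n => ⟨fun ⟨m, h1, h2⟩ => om_dvd h1 h2, fun h => ⟨n, h, dvd_rfl⟩⟩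
  · rintro _ ⟨g, hg, rfl⟩
    obtain ⟨D, h⟩ := exists_jd (K := 𝕂) (g.1 : End F ((Fin 3 ⊕ Fin 3) ⊕ Fin 2 → F))
    obtain ⟨E, r, d, h4⟩ := main3 (.of nd g.2 h) (by simpa using h.dim.symm) ((k g D h).1.1 hg)
    obtain ⟨x, hx⟩ := hS.2 E ⟨r, d⟩
    exact ⟨_, ⟨x, rfl⟩, ((k g D h).2 _).2 (h4 _ ((kill_two r.sy).1 ((hx _).1 dvd_rfl)))⟩
  · rintro _ ⟨x, rfl⟩
    obtain ⟨D, ⟨h1, h2⟩, h3⟩ := hS.1 x
    obtain ⟨E, r, d, e, h4⟩ := main2 h1.sy h2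
    obtain ⟨g, hg⟩ := r.out d hab
    exact ⟨_, ⟨g, (k g E hg).1.2 e, rfl⟩, fun N h => (h3 _).2 ((kill_two h1.sy).2 (h4 _ (((k g E hg).2 _).1 h)))⟩

end H27.Sp
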