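import Cfsg.Agent.H27.Spec17

/-! Jordan data with discriminant and spinor norm. -/

set_option autoImplicit false
set_option linter.unusedSectionVars false

namespace H27.Sp

open Module Polynomial Function H11 H22 H12 H12.CForm QuadraticMap

variable {F K : Type*} [Field F] [Field K] [Algebra F K] {V W : Type*} [AddCommGroup V] [Module F V]
  [AddCommGroup W] [Module F W] {p N : ℕ} [FiniteDimensional F V] [FiniteDimensional F W] {D E : Multiset (K × ℕ)}
  [Finite F] {Q : QuadraticForm F V} {Q' : QuadraticForm F W} {δ s δ' s' : ℤˣ}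

/-- the discriminant -/
noncomputable def dq (Q : QuadraticForm F V) : ℤˣ := qsign ((ofQuad Q).gram (finBasis F V)).det
theorem dq_eq (hQ : QNondeg Q) {ι : Type*} [Fintype ι] [DecidableEq ι] (b : Basis ι F V) :
    dq Q = qsign ((ofQuad Q).gram b).det := qsign_det_gram_eq hQ _ _

theorem fsim_inv (f2 : (2 : F) ≠ 0) (hQ : QNondeg Q) {g : orth Q} {g' : orth Q'}
    (h : FSim (ofQuad Q) g.1 (ofQuad Q') g'.1) : dq Q = dq Q' ∧ spinor Q g = spinor Q' g' := by
  have hQ' : QNondeg Q' := h.iso.nondeg hQ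
  refine ⟨h.iso.qsign_det_gram hQ _ _, ?_⟩
  obtain ⟨e, h1, h2⟩ := h
  have := hom_ext_refl hQ (notExc_of_two_ne_zero f2) (f := (spinor Q').comp (CForm.isomCongr e h1).toMonoidHom)
    (g := spinor Q) fun v hv => by
      have k : Q' (e v) = Q v := h1.2 v
      rw [spinor_refl hQ (notExc_of_two_ne_zero f2) hv, ← k, ← spinor_refl hQ' (notExc_of_two_ne_zero f2) (k ▸ hv)]
      refine congrArg (spinor Q') (orth_ext fun x => (CForm.isomCongr_apply e h1 _ x).trans ?_)
      have k2 : polar Q' (e v) (e (e.symm x)) = polar Q v (e.symm x) := h1.1 _ _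
      simp [refl_apply, k, ← k2]
  rw [← this]
  exact congrArg (spinor Q') (orth_ext fun x => (CForm.isomCongr_apply e h1 _ x).trans (by simpa using h2 (e.symm x)))

theorem exists_fsim (hQ' : QNondeg Q') (h : (ofQuad Q).Iso (ofQuad Q')) (g : orth Q) :
    ∃ g' : orth Q', FSim (ofQuad Q) g.1 (ofQuad Q') g'.1 :=
  let ⟨e, he⟩ := h; ⟨CForm.isomCongr e he g, e, he, fun x => by simp [CForm.isomCongr_apply]⟩
theorem fsim_sim {T : FormType F} {C : CForm T V} {C' : CForm T W} {u : End F V} {u' : End F W}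
    (h : FSim C u C' u') : Sim u u' := let ⟨e, _, h⟩ := h; ⟨e, h⟩

/-- realised with given discriminant and spinor norm -/
def Rq (F : Type*) [Field F] [Finite F] [Algebra F K] (D : Multiset (K × ℕ)) (δ s : ℤˣ) : Prop :=
  ∃ (m : ℕ) (Q : QuadraticForm F (Fin m → F)) (g : orth Q), QNondeg Q ∧ JD (g.1 : End F (Fin m → F)) D ∧
    dq Q = δ ∧ spinor Q g = s

theorem Rq.rl (h : Rq F D δ s) : Rl (quadType F) D := let ⟨m, _, g, h1, h2, _⟩ := h; ⟨m, _, _, h1, g.2, h2⟩

theorem prod_nd (hQ : QNondeg Q) (hQ' : QNondeg Q') : QNondeg (Q.prod Q') := fun x hx =>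
  Prod.ext (hQ _ fun y => by simpa using hx (y, 0)) (hQ' _ fun y => by simpa using hx (0, y))

/-- orthogonal sums of isometries -/
def sumH (Q : QuadraticForm F V) (Q' : QuadraticForm F W) : orth Q × orth Q' →* orth (Q.prod Q') where
  toFun g := ⟨g.1.1.prodCongr g.2.1, mem_orth.2 fun x => by simp [orth_Q]⟩
  map_one' := rfl
  map_mul' _ _ := rfl
theorem sumH_apply (g : orth Q × orth Q') (x : V × W) : (sumH Q Q' g).1 x = (g.1.1 x.1, g.2.1 x.2) := rfl

section
variable (f2 : (2 : F) ≠ 0)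
include f2

theorem Rq.of (hQ : QNondeg Q) (g : orth Q) (h : JD (g.1 : End F V) D) : Rq F D (dq Q) (spinor Q g) := by
  let e := (finBasis F V).equivFun
  have i : (ofQuad Q).Iso (ofQuad (Q.comp e.symm.toLinearMap)) := quad_iso_iff.2 ⟨e, by simp⟩
  obtain ⟨g', hg⟩ := exists_fsim (i.nondeg hQ) i g
  exact ⟨_, _, g', i.nondeg hQ, h.of_sim (fsim_sim hg), (fsim_inv f2 hQ hg).1.symm, (fsim_inv f2 hQ hg).2.symm⟩

theorem Rl.rq (h : Rl (quadType F) D) : ∃ δ s, Rq F D δ s := by
  obtain ⟨m, C, u, h1, h2, h3⟩ := h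
  obtain ⟨Q, rfl⟩ := exists_eq_ofQuad C
  obtain ⟨e, he, h4⟩ := h1.exists_isom u h2
  exact ⟨_, _, .of f2 h1 ⟨e, he⟩ (by rwa [show (e : End F (Fin m → F)) = u from LinearMap.ext h4])⟩

theorem sum_inv (hQ : QNondeg Q) (hQ' : QNondeg Q') (g : orth Q) (g' : orth Q') :
    dq (Q.prod Q') = dq Q * dq Q' ∧ spinor _ (sumH Q Q' (g, g')) = spinor Q g * spinor Q' g' := by
  have nd := prod_nd hQ hQ'
  constructor
  · rw [dq_eq nd ((finBasis F V).prod (finBasis F W)), dq, dq, ← qsign_mul ((nondeg_iff_det_gram _).1 hQ)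
      ((nondeg_iff_det_gram _).1 hQ'), ← Matrix.det_fromBlocks_zero₂₁ _ 0]
    congr 2
    ext (i | i) (j | j) <;> simp
  have h1 := hom_ext_refl hQ (notExc_of_two_ne_zero f2) (f := (spinor _).comp ((sumH Q Q').comp (.inl _ _)))
    (g := spinor Q) fun v hv => by
      have k : (Q.prod Q') (v, 0) = Q v := by simp
      rw [spinor_refl hQ (notExc_of_two_ne_zero f2) hv, ← k, ← spinor_refl nd (notExc_of_two_ne_zero f2) (k ▸ hv)]
      exact congrArg (spinor _) (orth_ext fun x => by ext <;> simp [sumH_apply, refl_apply])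
  have h2 := hom_ext_refl hQ' (notExc_of_two_ne_zero f2) (f := (spinor _).comp ((sumH Q Q').comp (.inr _ _)))
    (g := spinor Q') fun v hv => by
      have k : (Q.prod Q') (0, v) = Q' v := by simp
      rw [spinor_refl hQ' (notExc_of_two_ne_zero f2) hv, ← k, ← spinor_refl nd (notExc_of_two_ne_zero f2) (k ▸ hv)]
      exact congrArg (spinor _) (orth_ext fun x => by ext <;> simp [sumH_apply, refl_apply])
  rw [← h1, ← h2]
  simp [← map_mul]

theorem Rq.add (h : Rq F D δ s) (h' : Rq F E δ' s') : Rq F (D + E) (δ * δ') (s * s') := by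
  obtain ⟨_, Q, g, a, b, rfl, rfl⟩ := h
  obtain ⟨_, Q', g', a', b', rfl, rfl⟩ := h'
  rw [← (sum_inv f2 a a' g g').1, ← (sum_inv f2 a a' g g').2]
  exact .of f2 (prod_nd a a') _ (b.prod b')

variable [Algebra.IsAlgebraic F K]

theorem Rq.uniq (h : Rq F D δ s) (h' : Rq F D δ' s') (h1 : ∀ x ∈ D, x.1 ^ 2 ≠ 1) : s = s' := by
  obtain ⟨_, Q, g, a, b, rfl, rfl⟩ := h
  obtain ⟨_, Q', g', a', b', rfl, rfl⟩ := h'
  have := LinearMap.ker_eq_bot.1 (b.inj (X_pow_sub_C_ne_zero two_pos 1) fun x hx => by simpa [sub_eq_zero] using h1 x hx)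
  rw [map_sub, map_pow, aeval_X, aeval_C, map_one, pow_two] at this
  exact (fsim_inv f2 a (fsim_of_sim a a' g.2 g'.2 (b.sim b') (.inr this) (.inr (.inr ⟨rfl, this⟩)))).2

theorem Rq.split [IsAlgClosed K] (h : Rq F D δ s) {c : F} (hc : c * c = 1) : ∃ A Z δ₁ s₁ δ₂ s₂, D = A + Z ∧
    Rq F A δ₁ s₁ ∧ Rq F Z δ₂ s₂ ∧ δ = δ₁ * δ₂ ∧ s = s₁ * s₂ ∧ (∀ x ∈ A, x.1 = algebraMap F K c) ∧
      ∀ x ∈ Z, x.1 ≠ algebraMap F K c := by
  classical
  obtain ⟨m, Q, g, hQ, h, rfl, rfl⟩ := h
  set u : End F (Fin m → F) := g.1.toLinearMap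
  set n := u - algebraMap F _ c with hn
  have cm : ∀ j x, (n ^ j) (u x) = u ((n ^ j) x) := fun j x => LinearMap.congr_fun
    (((Commute.refl u).sub_left (Algebra.commutes c u)).pow_left j).eq x
  have k : ∀ (j : ℕ) x y, (n ^ j) y = 0 → polar Q ((n ^ j) x) y = 0 := fun j => by
    induction j with
    | zero => intro x y e; rw [show y = 0 from e, polar_zero_right]
    | succ j ih =>
      intro x y e
      obtain ⟨y, rfl⟩ : ∃ z, u z = y := g.1.surjective y
      have := ih x (n y) (g.1.injective (by rw [← End.mul_apply, ← pow_succ]; exact ((cm _ _).symm.trans e).trans (map_zero _).symm))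
      have e2 : polar Q (u ((n ^ j) x)) (u y) = _ := orth_polar g _ _
      simp only [pow_succ', End.mul_apply, hn, LinearMap.sub_apply, algebraMap_end_apply, polar_sub_left, polar_sub_right,
        polar_smul_left, polar_smul_right, smul_eq_mul] at this e2 ⊢
      linear_combination e2 - c * this - polar Q (((u - algebraMap F _ c) ^ j) x) y * hc
  let U := LinearMap.range (n ^ m)
  have hU : LinearMap.ker (n ^ m) = (ofQuad Q).perp U := Submodule.eq_of_le_of_finrank_eq (by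
    rintro y hy _ ⟨x, rfl⟩; exact k m x y hy) (by
      have := hQ.finrank_add_finrank_perp U; have : finrank F U + _ = _ := (n ^ m).finrank_range_add_finrank_ker; omega)
  have k2 : ∀ j x, (n ^ j) ((n ^ m) x) = 0 → (n ^ m) x = 0 := fun j x e => by
    have := End.ker_pow_eq_ker_pow_finrank_of_le (f := n) (m := j + m) (by simp)
    rw [Module.finrank_fin_fun] at this
    rwa [← End.mul_apply, ← pow_add, ← LinearMap.mem_ker, this] at e
  have nd : (ofQuad Q).NondegOn U := (nondegOn_iff _).2 (Submodule.disjoint_def.2 (by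
    rintro _ ⟨x, rfl⟩ hx; exact k2 m x (hU ▸ hx :)))
  have ic := (hQ.isCompl_perp nd).symm
  have u1 : ∀ x ∈ U, u x ∈ U := by rintro _ ⟨x, rfl⟩; exact ⟨u x, cm _ _⟩
  have u2 : ∀ x ∈ (ofQuad Q).perp U, u x ∈ (ofQuad Q).perp U := fun x hx => by
    rw [← hU, LinearMap.mem_ker] at *; rw [cm, hx, map_zero]
  have r : ∀ X : Submodule F (Fin m → F), (ofQuad Q).NondegOn X → (hX : ∀ x ∈ X, u x ∈ X) → QNondeg (Q.comp X.subtype) ∧
      ∃ g : orth (Q.comp X.subtype), (g.1 : End F X) = u.restrict hX := fun X h1 h2 => by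
    have h3 : QNondeg (Q.comp X.subtype) := (restrict_nondeg_iff _).2 h1
    obtain ⟨e, he, h4⟩ := h3.exists_isom (u.restrict h2) (quad_isIsomTo _ fun x => orth_Q g x)
    exact ⟨h3, ⟨e, he⟩, LinearMap.ext h4⟩
  obtain ⟨n1, g1, e1⟩ := r _ (hQ.nondegOn_perp nd) u2
  obtain ⟨n2, g2, e2⟩ := r _ nd u1
  obtain ⟨A, d1⟩ := exists_jd (K := K) (g1.1 : End F ((ofQuad Q).perp U))
  obtain ⟨Z, d2⟩ := exists_jd (K := K) (g2.1 : End F U)
  have fs : FSim (ofQuad ((Q.comp ((ofQuad Q).perp U).subtype).prod (Q.comp U.subtype))) (sumH _ _ (g1, g2)).1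
      (ofQuad Q) g.1 := ⟨Submodule.prodEquivOfIsCompl _ _ ic, quad_isIsomTo (Submodule.prodEquivOfIsCompl _ _ ic).toLinearMap
    fun x => (ofQuad Q).N_add_of_orth ((mem_perp' _).1 x.1.2 _ x.2.2), fun x => by
      have a1 := congrArg Subtype.val (LinearMap.congr_fun e1 x.1)
      have a2 := congrArg Subtype.val (LinearMap.congr_fun e2 x.2)
      simp [sumH_apply, u] at a1 a2 ⊢; rw [a1, a2]⟩
  have := fsim_inv f2 (prod_nd n1 n2) fs
  refine ⟨A, Z, _, _, _, _, h.unique ((d1.prod d2).of_sim (fsim_sim fs)), .of f2 n1 g1 d1, .of f2 n2 g2 d2,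
    this.1.symm.trans (sum_inv f2 n1 n2 g1 g2).1, this.2.symm.trans (sum_inv f2 n1 n2 g1 g2).2,
    fun x hx => ((d1.sub_pow c m).1 ?_ x hx).1, fun x hx e => ?_⟩
  · refine LinearMap.ext fun x => Subtype.ext ?_
    have : ∀ (j : ℕ) (x : (ofQuad Q).perp U), ((g1.1.toLinearMap - algebraMap F (End F ((ofQuad Q).perp U)) c) ^ j) x =
        (n ^ j) x.1 := fun j => by
      induction j with
      | zero => exact fun _ => rfl
      | succ j ih => intro x; rw [pow_succ, End.mul_apply, ih, pow_succ, End.mul_apply, e1]; rfl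
    exact (this m x).trans (hU.ge x.2)
  · have := d2.kd _ (pow_ne_zero 1 (X_sub_C_ne_zero c))
    rw [H22.kd, LinearMap.ker_eq_bot'.2 fun y hy => by
      obtain ⟨_, y, rfl⟩ := y
      rw [pow_one, map_sub, aeval_X, aeval_C, e2] at hy
      exact Subtype.ext (k2 1 y (congrArg Subtype.val hy)), finrank_bot, eq_comm, Multiset.sum_eq_zero_iff] at this
    have := this _ (Multiset.mem_map_of_mem _ hx)
    rw [mu_sub_pow, if_pos e] at this
    have := d2.pos x hx
    omega
end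

end H27.Sp
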