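import Cfsg.Agent.H27.Spec18

/-! Jordan data with discriminant and spinor norm, II. -/

set_option autoImplicit false
set_option linter.unusedSectionVars false

namespace H27.Sp

open Module Polynomial Function H11 H22 H12 H12.CForm QuadraticMap

variable {F K : Type*} [Field F] [Field K] [Algebra F K] {V : Type*} [AddCommGroup V] [Module F V]
  {p N : ℕ} [FiniteDimensional F V] {D E Z : Multiset (K × ℕ)} [Finite F] {Q : QuadraticForm F V} {δ s δ' s' : ℤˣ}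
  [Algebra.IsAlgebraic F K] [IsAlgClosed K] (f2 : (2 : F) ≠ 0)

theorem Rq.odd [Fact p.Prime] [CharP K p] (h : Rq F D δ s) (hk : K1 p D N) (hN : Odd N) : s = 1 := by
  have h0 := h.rl.pre.ne
  obtain ⟨m, Q, g, h1, h2, rfl, rfl⟩ := h
  have : g ^ N = 1 := Subtype.ext (LinearEquiv.toLinearMap_inj.1 ((coe_pow' _ _).trans ((h2.pow_eq_one h0 N).2 hk)))
  have := congrArg (spinor Q) this
  rw [map_pow, map_one] at this
  rcases Int.units_eq_one_or (spinor Q g) with h | h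
  exacts [h, by rw [h, hN.neg_one_pow] at this; exact absurd this (by decide)]

theorem Rq.unip [Fact p.Prime] [CharP K p] (p2 : p ≠ 2) (h : Rq F D δ s) (h1 : ∀ x ∈ D, x.1 = 1) : s = 1 :=
  h.odd (N := p ^ Nat.clog p (dimD D)) (fun x hx => ⟨by simp [h1 x hx], clog_dvd (le_dimD hx) dvd_rfl⟩)
    ((Fact.out : p.Prime).odd_of_ne_two p2).pow

include f2

theorem Rq.neg (h : Rq F D δ s) {m : ℕ} (hd : dimD D = 2 * m + 2) : Rq F (D.map (pm (- ·))) δ (δ * s) := by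
  obtain ⟨k, Q, g, h1, h2, rfl, rfl⟩ := h
  obtain ⟨b, b1, b2, b3⟩ := exists_orth_basis f2 h1 one_ne_zero (h2.dim.trans hd)
  have hb : ∀ i, Q (b i) ≠ 0 := fun i => by
    by_cases h : i = Fin.last _
    exacts [h ▸ b3, (b2 i h).trans_ne one_ne_zero]
  refine ⟨k, Q, H12.negOne Q * g, h1, ?_, rfl, ?_⟩
  · have := h2.smul (c := -1) (by simp)
    simp only [map_neg, map_one, neg_mul, one_mul] at this
    convert this; ext; simp [H12.negOne_apply]
  rw [map_mul, map_negOne b hb b1 b.span_eq, dq_eq h1 b, det_gram_of_orth b1]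
  simp only [ofQuad_N]
  rw [qsign_mul (pow_ne_zero _ f2) (Finset.prod_ne_zero_iff.2 fun i _ => hb i), qsign_prod _ _ fun i _ => hb i, Fintype.card_fin,
    show (2 : F) ^ (2 * m + 1 + 1) = 2 ^ (m + 1) * 2 ^ (m + 1) by ring, qsign_mul_self, one_mul]
  simp only [spinor_refl h1 (notExc_of_two_ne_zero f2) (hb _)]

theorem Rl.rq_odd (h : Rl (quadType F) D) (hd : Odd (dimD D)) (δ : ℤˣ) : ∃ s, Rq F D δ s := by
  obtain ⟨δ', s, k, Q, g, h1, h2, rfl, rfl⟩ := h.rq f2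
  obtain rfl | e := eq_or_ne δ (dq Q)
  · exact ⟨_, k, Q, g, h1, h2, rfl, rfl⟩
  obtain ⟨c, c0, hc⟩ := exists_nonsquare' f2
  refine ⟨_, k, c • Q, ⟨g.1, (orth_smul c0).ge g.2⟩, qNondeg_smul h1 c0, h2, ?_, rfl⟩
  rw [dq, gram_smul, Matrix.det_smul, qsign_mul (pow_ne_zero _ c0) ((nondeg_iff_det_gram _).1 h1), qsign_pow c0,
    qsign_eq_neg_one.2 hc, Fintype.card_fin, (h2.dim ▸ hd :).neg_one_pow, Int.units_ne_iff_eq_neg.1 e, neg_one_mul]; rfl

theorem rq_reg [Fact p.Prime] [CharP K p] (p2 : p ≠ 2) (a : ℕ) (δ : ℤˣ) : Rq F {((1 : K), 2 * a + 1)} δ 1 := by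
  obtain ⟨s, h⟩ := (rl_quad_reg (K := K) f2 a).rq_odd f2 (by simp) δ
  rwa [h.unip p2 (by simp)] at h

theorem rq_ones [Fact p.Prime] [CharP K p] (p2 : p ≠ 2) (δ : ℤˣ) : Rq F ({((1 : K), 1)} + {(1, 1)}) δ 1 := by
  simpa using (rq_reg (K := K) f2 p2 0 δ).add f2 (rq_reg f2 p2 0 1)

theorem rq_plane [Fact p.Prime] [CharP K p] (p2 : p ≠ 2) (δ s : ℤˣ) :
    ∃ E : Multiset (K × ℕ), Rq F E δ s ∧ dimD E = 2 ∧ detD E = 1 := by
  obtain ⟨k, Q, g, h1, h2, rfl, -⟩ := rq_ones (K := K) f2 p2 δ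
  have hd : finrank F (Fin k → F) = 2 := h2.dim
  obtain ⟨g, hg⟩ := dickson_spinor_surjective h1 f2 hd.ge (1, s)
  obtain ⟨E, h⟩ := exists_jd (K := K) (g.1 : End F (Fin k → F))
  exact ⟨E, ⟨k, Q, g, h1, h, rfl, congrArg Prod.snd hg⟩, h.dim.symm.trans hd, by
    rw [← h.det, (dickson_eq_one_iff h1 f2 g).1 (congrArg Prod.fst hg), map_one]⟩

theorem Rl.odd_blk {c : K} {k : ℕ} (h : Rl (quadType F) {(c, k)}) (hc : c ^ 2 = 1) : Odd k := by
  obtain ⟨m, C, u, h1, h2, h3⟩ := h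
  obtain ⟨v, hv⟩ := (isUnit_of_isom h1 h2).exists_right_inv
  let B : LinearMap.BilinForm F (Fin m → F) := C.B.comp (u - v)
  have hB : B.IsAlt := fun x => by
    have := h2.1 (v x) x
    rw [← End.mul_apply, hv, End.one_apply, C.symm] at this
    change C.B (u x - v x) x = 0
    rw [B_sub_left, sub_eq_zero]; simpa [quadType] using this
  obtain ⟨W, hW⟩ := (LinearMap.ker (u - v)).exists_isCompl
  obtain ⟨l, hl⟩ := alt_even (C := (ofAlt B hB).restrict W) fun x hx => Subtype.ext (Submodule.disjoint_def.1 hW.disjoint _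
    (h1 _ fun y => by
      obtain ⟨a, ha, b, hb, rfl⟩ := Submodule.mem_sup.1 (hW.sup_eq_top.ge (Submodule.mem_top (x := y)))
      have : B a x = 0 := by change C.B ((u - v) a) x = 0; rw [ha]; simp
      exact (map_add (B x) a b).trans (by rw [← hB.neg_eq, this, neg_zero, zero_add]; exact hx ⟨b, hb⟩)) x.2)
  have e := h3.kd _ (X_pow_sub_C_ne_zero two_pos 1)
  have k0 : 0 < k := h3.pos _ (Multiset.mem_singleton_self _)
  rw [Multiset.map_singleton, Multiset.sum_singleton, mu_sep (separable_X_pow_sub_C 1 (by exact_mod_cast f2) one_ne_zero)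
    (by simp [hc]), min_eq_right k0, H22.kd, show aeval u (X ^ 2 - Polynomial.C 1 : F[X]) = u * (u - v) by
      simp [mul_sub, hv, pow_two], End.mul_eq_comp, LinearMap.ker_comp_of_ker_eq_bot _ (LinearMap.ker_eq_bot.2
        ((End.isUnit_iff _).1 (isUnit_of_isom h1 h2)).1)] at e
  have := Submodule.finrank_add_eq_of_isCompl hW
  have := h3.dim
  exact ⟨l, by simp only [dimD_sing] at *; omega⟩

omit f2 in
theorem qsign_pow_half {c : ℕ} (hc : Nat.card F = 2 * c + 1) {w : F} (hw : w ≠ 0) :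
    algebraMap F K w ^ c = ((qsign w : ℤˣ) : ℤ) := by
  classical
  have := Fintype.ofFinite F
  have h2 : ringChar F ≠ 2 := ringChar_ne_two_iff.2 (odd_card_iff.1 ⟨c, by rw [← Nat.card_eq_fintype_card, hc]⟩)
  rw [← map_pow, ← map_intCast (algebraMap F K), qsign_coe hw, quadraticChar_eq_pow_of_char_ne_two' h2,
    ← Nat.card_eq_fintype_card, hc, show (2 * c + 1) / 2 = c by omega]

/-- the discriminant of regular data -/
noncomputable def chi (c : ℕ) (D : Multiset (K × ℕ)) : K := detD (D.map (pm fun a => a - a⁻¹)) ^ c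
omit f2 in
theorem chi_add (c : ℕ) : chi c (D + E) = chi c D * chi c E := by simp [chi, mul_pow]

theorem Rq.disc {c : ℕ} (hc : Nat.card F = 2 * c + 1) (h : Rq F D δ s) (h1 : ∀ x ∈ D, x.1 ^ 2 ≠ 1) :
    chi c D = (δ : ℤ) := by
  obtain ⟨k, Q, g, hQ, h2, rfl, -⟩ := h
  have hu := isUnit_of_isom hQ g.2
  obtain ⟨v, hv⟩ := hu.exists_right_inv
  have z := h2.det_sub_inv hv
  have z0 : LinearMap.det ((g.1 : End F (Fin k → F)) - v) ≠ 0 := fun e => by
    rw [e, map_zero, eq_comm, detD, Multiset.prod_eq_zero_iff, Multiset.map_map, Multiset.mem_map] at z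
    obtain ⟨y, hy, z⟩ := z
    exact h1 y hy (by
      rw [pow_two, mul_eq_one_iff_eq_inv₀ (h2.ne_zero hu y hy), ← sub_eq_zero]; exact pow_eq_zero_iff (h2.pos y hy).ne' |>.1 z)
  rw [chi, ← z, qsign_pow_half hc z0, (isSquare_mul_iff z0 ((nondeg_iff_det_gram _).1 hQ)).1
    (quad_det_sq f2 hQ g.2 hv z0 (finBasis F _))]; rfl

omit f2 in
theorem chi_tb {c m k : ℕ} (hc : Nat.card F = 2 * c + 1) {a : K} (ha : a ≠ 0) (h2 : a ^ 2 ≠ 1) {ε : ℤ}
    (hε : ε = 1 ∨ ε = -1) (h : a ^ (((Nat.card F : ℕ) : ℤ) ^ m - ε) = 1) :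
    chi c (tb (Nat.card F : ℕ) m a k) = ((-1) ^ (m * c) * ε) ^ k := by
  obtain ⟨τ, hτ⟩ := exists_frHom (F := F) (K := K)
  have hz : ∀ x : K, (x - x⁻¹) ^ ((Nat.card F : ℕ) : ℤ) = x ^ ((Nat.card F : ℕ) : ℤ) -
      (x ^ ((Nat.card F : ℕ) : ℤ))⁻¹ := fun x => by
    simp only [zpow_natCast, ← fr.eq_1, ← hτ, map_sub, map_inv₀]
  have := orb_map (φ := pm (K := K) (· ^ ((Nat.card F : ℕ) : ℤ))) (ψ := pm (· ^ ((Nat.card F : ℕ) : ℤ)))
    (pm fun a => a - a⁻¹) (fun x => Prod.ext (hz _).symm rfl) m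
  have b0 : a - a⁻¹ ≠ 0 := fun e => h2 (by rw [pow_two, mul_eq_one_iff_eq_inv₀ ha, ← sub_eq_zero, e])
  have h1 : (a - a⁻¹) ^ ((Nat.card F : ℕ) : ℤ) ^ m = ε * (a - a⁻¹) := by
    rw [← zp_iter, ← Semiconj.iterate_right (f := fun a : K => a - a⁻¹) (ga := fun x => x ^ ((Nat.card F : ℕ) : ℤ))
      (gb := fun x => x ^ ((Nat.card F : ℕ) : ℤ)) (fun x => (hz x).symm) m, zp_iter]
    rw [zpow_sub₀ ha, div_eq_one_iff_eq (zpow_ne_zero _ ha)] at h
    rw [h]; rcases hε with rfl | rfl <;> simp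
  have h3 : ∀ m, (-1 : K) ^ gs (Nat.card F : ℕ) m = (-1) ^ m := fun m => by
    induction m with
    | zero => simp [gs]
    | succ m ih =>
      rw [gs, Finset.sum_range_succ, zpow_add₀ (by simp), ← gs, ih, pow_succ, Odd.neg_one_zpow (Odd.pow ⟨c, by simp [hc]⟩)]
  rw [chi, tb, Multiset.map_add, this, this, pm_mk, pm_mk, detD_add, inv_inv, ← neg_sub a, detD_orb b0,
    detD_orb (neg_ne_zero.2 b0), ← mul_pow, ← mul_zpow, ← pow_mul, mul_comm k, pow_mul, mul_neg, ← neg_one_mul, mul_zpow,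
    mul_pow, h3, ← pow_mul, ← pow_two, ← zpow_ofNat, ← zpow_mul, ← zpow_natCast (_ ^ (_ : ℤ)), ← zpow_mul,
    show 2 * gs (Nat.card F : ℕ) m * c = ((Nat.card F : ℕ) : ℤ) ^ m - 1 by rw [← gs_mul, hc]; push_cast; ring,
    zpow_sub_one₀ b0, h1, mul_assoc, mul_inv_cancel₀ b0, mul_one]

theorem Rq.levi {c m : ℕ} (hc : Nat.card F = 2 * c + 1) {a : K} (h2 : a ^ 2 ≠ 1) [Fact p.Prime] [CharP F p] [CharP K p]
    (h1 : a ^ (((Nat.card F : ℕ) : ℤ) ^ m - 1) = 1) (h : Rq F (tb (Nat.card F : ℕ) m a 1) δ s) (hm : 0 < m) :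
    a ^ (gs (Nat.card F : ℕ) m * c) = (s : ℤ) := by
  have ha : a ≠ 0 := h.rl.pre.ne _ (self_mem_tb hm a 1)
  obtain ⟨A, hA⟩ := exists_levi (F := F) (pre_orb ha ((fix_iff ha).2 h1) one_pos)
  have := Rq.of f2 (qPlus_nondeg _) (leviHom F _ A) (jd_levi A hA)
  rw [← tb_levi, (dickson_spinor_levi (notExc_of_two_ne_zero f2) A).2] at this
  rw [h.uniq f2 this (tb_sq (qp_nat (F := F) (p := p)) h2), ← qsign_pow_half hc A.det_ne_zero, ← LinearMap.det_toLin',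
    ← glE_eq, hA.det, detD_orb ha, pow_one, zpow_mul, zpow_natCast]

end H27.Sp
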