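import Cfsg.Agent.H27.Spec19

/-! The spectrum of `Ω₉(q)`. -/

set_option autoImplicit false
set_option linter.unusedSectionVars false

namespace H27.Sp

open Module Polynomial Function H11 H22 H12 H12.CForm

variable {F K : Type*} [Field F] [Field K] [Algebra F K] {p N : ℕ} {D E Z : Multiset (K × ℕ)} [Finite F]
  {δ s δ' s' : ℤˣ} [Algebra.IsAlgebraic F K] [IsAlgClosed K] [Fact p.Prime] [CharP F p] [CharP K p]

theorem clog_succ (p2 : p ≠ 2) {a : ℕ} (h : p ^ Nat.clog p (2 * a + 2) ∣ N) : p ^ Nat.clog p (2 * a + 3) ∣ N := by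
  have h1 := (Fact.out : p.Prime).one_lt
  refine (pow_dvd_pow p ((Nat.clog_le_iff_le_pow h1).2 ?_)).trans h
  have := Nat.le_pow_clog h1 (2 * a + 2)
  obtain ⟨c, hc⟩ := ((Fact.out : p.Prime).odd_of_ne_two p2).pow (n := Nat.clog p (2 * a + 2))
  omega
theorem detD_const {c : K} (h : ∀ x ∈ D, x.1 = c) : detD D = c ^ dimD D := by
  induction D using Multiset.induction with
  | empty => simp
  | cons x D ih => rw [detD_cons, dimD_cons, h x (by simp), ih fun y hy => h y (by simp [hy]), pow_add]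
theorem detD_neg (h : Even (dimD D)) : detD (D.map (pm (- ·))) = detD D := by
  simpa [h.neg_one_pow] using detD_mul (-1) D
theorem K1_neg : K1 p (D.map (pm (- ·))) N ↔ ∀ x ∈ D, (-x.1) ^ N = 1 ∧ p ^ Nat.clog p x.2 ∣ N :=
  Multiset.forall_mem_map_iff
theorem Rq.cast (h : Rq F D δ s) (e1 : δ = δ') (e2 : s = s') : Rq F D δ' s' := e1 ▸ e2 ▸ h

variable (F) in
/-- an element of `Ω₈⁻` whose affine order is a multiple -/
def In8 (p : ℕ) (P : ℕ → Prop) : Prop :=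
  ∃ E : Multiset (K × ℕ), Rq F E (-1) 1 ∧ dimD E = 8 ∧ detD E = 1 ∧ ∀ N, KA p E N → P N
theorem In8.mono {P P' : ℕ → Prop} (h : In8 F (K := K) p P) (h' : ∀ N, P N → P' N) : In8 F (K := K) p P' :=
  let ⟨E, a, b, c, d⟩ := h; ⟨E, a, b, c, fun N k => h' N (d N k)⟩

variable {c : ℕ} (hc : Nat.card F = 2 * c + 1)
include hc

theorem facts : (2 : F) ≠ 0 ∧ (2 : K) ≠ 0 ∧ p ≠ 2 := odd_facts ⟨c, hc⟩

include p in
theorem Rl.par (h : Rl (quadType F) Z) (h1 : ∀ x ∈ Z, x.1 ≠ 1) (hd : detD Z = 1) : Even (dimD Z) := by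
  obtain ⟨f2, k2, p2⟩ := facts (K := K) (p := p) hc
  obtain ⟨B, Y, rfl, sy, h2, h3⟩ := h.sy'.split (c := -1) (qp_nat (F := F) (p := p)).inj
    (Odd.neg_one_zpow ⟨c, by simp [hc]⟩) (by simp)
  have r := sy.alt fun x hx => by simp [h1 x (by simp [hx]), h3 x hx]
  rw [detD_add, r.det, mul_one, detD_const h2, neg_one_pow_eq_one_iff_even fun e => k2 (by linear_combination -e)] at hd
  exact dimD_add B Y ▸ hd.add r.even

theorem rv (h : Rq F Z δ 1) {a : ℕ} (hd : dimD Z + 2 * a + 2 = 8) (h1 : detD Z = 1) :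
    In8 F (K := K) p fun N => K1 p Z N ∧ p ^ Nat.clog p (2 * a + 3) ∣ N := by
  obtain ⟨f2, k2, p2⟩ := facts (K := K) (p := p) hc
  exact ⟨_, (h.add f2 ((rq_reg f2 p2 a 1).add f2 (rq_reg f2 p2 0 (-δ)))).cast (by simp) rfl, by simp; omega, by simp [h1],
    fun N k => ⟨(KA_add.1 k).1.k1, clog_succ p2 (KA_one.1 (KA_add.1 (KA_add.1 k).2).1)⟩⟩

theorem rp (h : Rl (quadType F) Z) (hd : dimD Z = 6) (h1 : detD Z = 1) : In8 F (K := K) p (K1 p Z) := by
  obtain ⟨f2, k2, p2⟩ := facts (K := K) (p := p) hc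
  obtain ⟨δ, s, h⟩ := h.rq f2
  obtain ⟨E, r, d1, d2⟩ := rq_plane (K := K) f2 p2 (-δ) s
  exact ⟨_, by simpa using h.add f2 r, by simp [hd, d1], by simp [h1, d2], fun N k => (KA_add.1 k).1.k1⟩

theorem ru (h : Rl (quadType F) Z) {a : ℕ} (hd : dimD Z + 2 * a + 4 = 8) (h1 : detD Z = 1) :
    In8 F (K := K) p fun N => K1 p Z N ∧ p ^ Nat.clog p (2 * a + 3) ∣ N := by
  obtain ⟨f2, k2, p2⟩ := facts (K := K) (p := p) hc
  obtain ⟨δ, s, h⟩ := h.rq f2
  obtain ⟨E, r, d1, d2⟩ := rq_plane (K := K) f2 p2 1 s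
  exact (rv hc (δ := δ) (by simpa using h.add f2 r) (a := a) (by simp [d1]; omega) (by simp [h1, d2])).mono fun N k =>
    ⟨(K1_add.1 k.1).1, k.2⟩

include p in
theorem prim {m : ℕ} {ε : ℤ} (hm : 2 ≤ m) (hε : ε = 1 ∨ ε = -1) : ∃ a : K, a ≠ 0 ∧ a ^ 2 ≠ 1 ∧
    a ^ (((Nat.card F : ℕ) : ℤ) ^ m - ε) = 1 ∧ ∀ l : ℤ, a ^ l = 1 → ((Nat.card F : ℕ) : ℤ) ^ m - ε ∣ l := by
  obtain ⟨a, a0, ha, -⟩ := exists_primz (K := K) ((qp_nat (F := F) (p := p)).not_dvd' (d := m) (by omega) hε dvd_rfl)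
  have : (2 : ℤ) ≤ Nat.card F := by exact_mod_cast Finite.one_lt_card
  have := pow_le_pow_left₀ zero_le_two this m
  have := pow_le_pow_right₀ (one_le_two (α := ℤ)) hm
  exact ⟨a, a0, fun e => absurd (Int.le_of_dvd two_pos ((ha 2).1 (by rwa [zpow_ofNat]))) (by omega), (ha _).2 dvd_rfl,
    fun l => (ha l).1⟩

theorem ra : In8 F (K := K) p fun N => gs (Nat.card F : ℕ) 4 * c ∣ (N : ℤ) := by
  obtain ⟨f2, k2, p2⟩ := facts (K := K) (p := p) hc
  have hQ := qp_nat (F := F) (p := p)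
  obtain ⟨t, t0, t2, t1, ht⟩ := prim (K := K) (p := p) hc le_rfl (.inl rfl)
  obtain ⟨a, a0, -, a1, ha⟩ := prim (K := K) (p := p) hc le_rfl (.inr rfl)
  have c0 : 0 < c := by have := Finite.one_lt_card (α := F); omega
  have e1 : ((Nat.card F : ℕ) : ℤ) ^ 2 - -1 = 2 * (2 * (c * (c + 1)) + 1 : ℕ) := by rw [hc]; push_cast; ring
  have b0 := pow_ne_zero 2 a0
  have b1 : (a ^ 2) ^ (((Nat.card F : ℕ) : ℤ) ^ 2 - -1) = 1 := by rw [← zpow_comm', a1, one_pow]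
  have hb : ∀ l : ℕ, (a ^ 2) ^ l = 1 ↔ 2 * (c * (c + 1)) + 1 ∣ l := fun l => by
    rw [← Int.natCast_dvd_natCast, ← mul_dvd_mul_iff_left (two_ne_zero (α := ℤ)), ← e1, ← pow_mul]
    exact ⟨fun h => ha _ (by exact_mod_cast h), fun h => pow_of_dvd a1 (by exact_mod_cast h)⟩
  have b2 : (a ^ 2) ^ 2 ≠ 1 := fun e => absurd (Nat.le_of_dvd two_pos ((hb _).1 e)) (by nlinarith)
  obtain ⟨δ, s, r⟩ := ((sy_tb b0 (.inr rfl) b1 one_pos).quad (tb_sq hQ b2)).rq f2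
  obtain ⟨δ', s', r'⟩ := ((sy_tb t0 (.inl rfl) t1 one_pos).quad (tb_sq hQ t2)).rq f2
  have inj : ∀ x y : ℤˣ, ((x : ℤ) : K) = (y : ℤ) → x = y := fun x y h => by
    rcases Int.units_eq_one_or x with rfl | rfl <;> rcases Int.units_eq_one_or y with rfl | rfl <;> try rfl
    all_goals exact absurd (by push_cast at h; first | linear_combination h | linear_combination -h) k2
  obtain rfl : δ = -1 := inj _ _ (by rw [← r.disc f2 hc (tb_sq hQ b2), chi_tb hc b0 b2 (.inr rfl) b1]; simp)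
  obtain rfl : δ' = 1 := inj _ _ (by rw [← r'.disc f2 hc (tb_sq hQ t2), chi_tb hc t0 t2 (.inl rfl) t1]; simp)
  obtain rfl := r.odd (K1_tb ((hb _).2 dvd_rfl) (by simp)) ⟨_, rfl⟩
  have e2 : ((Nat.card F : ℕ) : ℤ) ^ 2 - 1 = gs (Nat.card F : ℕ) 2 * c * 2 := by rw [← gs_mul, hc]; push_cast; ring
  obtain rfl : s' = -1 := Int.units_ne_iff_eq_neg.1 fun e => by
    have := ht _ ((r'.levi (p := p) f2 hc t2 t1 two_pos).trans (by simp [e]))
    have h0 : 0 < gs (Nat.card F : ℕ) 2 * c := by simp [gs, Finset.sum_range_succ]; positivity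
    rw [e2] at this; have := Int.le_of_dvd h0 this; omega
  refine ⟨_, ((r.neg f2 (m := 1) (by simp)).add f2 r').cast (by simp) (by simp), by simp, by
    rw [detD_add, detD_neg (by simp; decide), detD_tb b0, detD_tb t0, mul_one], fun N k => ?_⟩
  have h1 := ht _ (by rw [zpow_natCast]; exact ((KA_add.1 k).2 _ (self_mem_tb two_pos t 1)).1)
  have h2 := (K1_neg.1 (KA_add.1 k).1.k1 _ (self_mem_tb two_pos _ 1)).1
  rw [Even.neg_pow (even_iff_two_dvd.2 (Int.natCast_dvd_natCast.1 ((Dvd.intro_left _ e2.symm).trans h1))), hb] at h2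
  rw [show gs (Nat.card F : ℕ) 4 * c = (2 * (c * (c + 1)) + 1 : ℕ) * (((Nat.card F : ℕ) : ℤ) ^ 2 - 1) by
    simp only [gs, Finset.sum_range_succ, hc]; push_cast; ring]
  exact IsCoprime.mul_dvd ⟨1 - 2 * (c * (c + 1)), c * (c + 1), by rw [hc]; push_cast; ring⟩ (Int.natCast_dvd_natCast.2 h2) h1

theorem reg8 (h : Rq F D 1 1) (hd : dimD D = 8) (h1 : ∀ x ∈ D, x.1 ^ 2 ≠ 1) : In8 F (K := K) p (K1 p D) := by
  obtain ⟨f2, k2, p2⟩ := facts (K := K) (p := p) hc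
  have hQ := qp_nat (F := F) (p := p)
  have sy := h.rl.sy'
  have hx := h.disc f2 hc h1
  have k2' : (-1 : K) ≠ 1 := fun e => k2 (by linear_combination -e)
  have ne : ∀ {m a k D'}, D = tb (Nat.card F : ℕ) m a k + D' → 0 < m → a ≠ 0 ∧ a ^ 2 ≠ 1 := fun {m a k D'} e m0 =>
    have : (a, k) ∈ D := e ▸ Multiset.mem_add.2 (.inl (self_mem_tb m0 a k)); ⟨sy.ne _ this, h1 _ this⟩
  rcases ss_cases hQ sy hd h1 with h4 | ⟨a, ε, hε, h4, rfl⟩ | ⟨a, ε, b, ε', hε, hε', h4, h5, rfl⟩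
  rotate_left
  · obtain ⟨a0, a2⟩ := ne (add_zero _).symm four_pos
    rw [chi_tb hc a0 a2 hε h4] at hx
    obtain rfl : ε = 1 := hε.resolve_right (by rintro rfl; simp [pow_mul, show (-1 : K) ^ 4 = 1 by norm_num, k2'] at hx)
    exact (ra hc).mono fun N k => K1_tb (pow_of_dvd ((h.levi (p := p) f2 hc a2 h4 four_pos).trans (by simp)) k) (by simp)
  · obtain ⟨a0, a2⟩ := ne rfl three_pos
    obtain ⟨b0, b2⟩ := ne (add_comm _ _) one_pos
    rw [chi_add, chi_tb hc a0 a2 hε h4, chi_tb hc b0 b2 hε' h5, pow_one, pow_one, mul_mul_mul_comm, ← pow_add,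
      Even.neg_one_pow ⟨2 * c, by ring⟩] at hx
    obtain rfl : ε = ε' := by rcases hε with rfl | rfl <;> rcases hε' with rfl | rfl <;> simp [k2'] at hx ⊢
    obtain ⟨t, t0, t2, t1, ht⟩ := prim (K := K) (p := p) hc (m := 3) (by simp) hε
    refine (rp hc ((sy_tb t0 hε t1 one_pos).quad (tb_sq hQ t2)) (by simp) (detD_tb t0)).mono fun N k => ?_
    have := ht N (by rw [zpow_natCast]; exact (k _ (self_mem_tb three_pos t 1)).1)
    exact K1_add.2 ⟨K1_tb (pow_of_dvd h4 this) (by simp), K1_tb (pow_of_dvd h5 (.trans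
      ⟨Nat.card F ^ 2 + Nat.card F * ε + 1, by rcases hε with rfl | rfl <;> ring⟩ this)) (by simp)⟩
  by_cases h2 : ∀ x ∈ D, x.2 = 1
  · refine (ra hc).mono fun N k x hx => ⟨(h4 x hx).elim (pow_of_dvd · (.trans ⟨2 * (c * (c + 1)) + 1, ?_⟩ k))
      (pow_of_dvd · (.trans ⟨2 * (c * (c + 1)), ?_⟩ k)), by simp [h2 x hx]⟩ <;>
      simp only [gs, Finset.sum_range_succ, hc] <;> push_cast <;> ring
  push Not at h2
  obtain ⟨⟨a, k⟩, hy, h2⟩ := h2
  have k0 : 2 ≤ k := by have : 0 < k := sy.pos _ hy; simp only at h2; omega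
  have ru' := fun {m ε a} a0 a2 hε h {n} => ru (K := K) (p := p) (a := n) hc ((sy_tb (m := m) (ε := ε) (a := a) a0 hε h one_pos).quad (tb_sq hQ a2))
  by_cases h3 : ∀ x ∈ D, x.1 ^ (((Nat.card F : ℕ) : ℤ) ^ 2 - 1) = 1
  · by_cases h5 : ∀ x ∈ D, x.2 ≤ 3
    · obtain ⟨t, t0, t2, t1, ht⟩ := prim (K := K) (p := p) hc le_rfl (.inl rfl)
      exact (ru' t0 t2 (.inl rfl) t1 (n := 0) (by simp) (detD_tb t0)).mono fun N k x hx => ⟨pow_of_dvd (h3 x hx) (ht _ (by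
        rw [zpow_natCast]; exact (k.1 _ (self_mem_tb two_pos t 1)).1)), clog_dvd (h5 x hx) k.2⟩
    push Not at h5
    obtain ⟨⟨a, k⟩, hy, h5⟩ := h5
    obtain ⟨m, ε, D', m0, hε, h7, rfl, sy'⟩ := sy.peel hQ hy (h1 _ hy)
    simp only [dimD_add, dimD_tb] at hd h5 h7
    obtain rfl : m = 1 := by nlinarith
    obtain rfl := sy'.toPre.eq_zero (by omega)
    obtain ⟨a0, a2⟩ := ne rfl one_pos
    exact (ru' a0 a2 hε h7 (n := 1) (by simp) (detD_tb a0)).mono fun N k => by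
      rw [add_zero]; exact K1_tb (k.1 _ (self_mem_tb one_pos a 1)).1 (clog_dvd (by omega) k.2)
  push Not at h3
  obtain ⟨⟨b, l⟩, hz, h3⟩ := h3
  obtain ⟨m, ε, D', m0, hε, h5, rfl, sy'⟩ := sy.peel hQ hz (h1 _ hz)
  have l0 : 0 < l := sy.pos _ hz
  simp only [dimD_add, dimD_tb] at hd h5 h3
  have m2 : 2 ≤ m := by_contra fun hm => h3 (by
    rw [show ((Nat.card F : ℕ) : ℤ) ^ 2 - 1 = (Nat.card F ^ m - ε) * (Nat.card F + ε) by
      rw [show m = 1 by omega]; rcases hε with rfl | rfl <;> ring, zpow_mul, h5, one_zpow])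
  obtain ⟨b0, b2⟩ := ne rfl m0
  rcases Multiset.mem_add.1 hy with hy | hy
  · obtain rfl : k = l := (mem_tb hy).1
    obtain rfl : m = 2 := by nlinarith
    obtain rfl := sy'.toPre.eq_zero (by omega)
    exact (ru' b0 b2 hε h5 (n := 0) (by simp) (detD_tb b0)).mono fun N k => by
      rw [add_zero]; exact K1_tb (k.1 _ (self_mem_tb two_pos b 1)).1 (clog_dvd (by omega) k.2)
  obtain ⟨m', ε', D'', m0', hε', h6, rfl, sy''⟩ := sy'.peel hQ hy (h1 _ (by simp [hy]))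
  simp only [dimD_add, dimD_tb] at hd h6
  obtain rfl : m = 2 := by nlinarith
  obtain rfl : m' = 1 := by nlinarith
  obtain rfl : l = 1 := by omega
  obtain rfl : k = 2 := by omega
  obtain rfl := sy''.toPre.eq_zero (by omega)
  obtain ⟨a0, a2⟩ := ne (add_left_comm _ _ _) one_pos
  rw [add_zero, chi_add, chi_tb hc a0 a2 hε' h6, chi_tb hc b0 b2 hε h5] at hx
  obtain rfl : ε = -1 := hε.resolve_left (by rintro rfl; exact h3 h5)
  rcases hε' with rfl | rfl <;> simp [← pow_mul, k2'] at hx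

end H27.Sp
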